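import Cfsg.Agent.Lib.Lie.USixTwenty.Local
import Cfsg.Agent.S0283
import Mathlib.GroupTheory.PGroup

/-!
The data of the module from a normalizer `A : K` with `A` minimal normal.
-/

set_option autoImplicit false

open scoped Pointwise

namespace Cfsg.Agent.Lie.USixTwenty

universe u v

/-- the data -/
theorem exists_data {X : Type u} [Group X] [Finite X] (A : Subgroup X) (hA : Nat.card A = 2 ^ 20)
    (K : Subgroup X) (hKn : K ≤ Subgroup.normalizer (A : Set X)) (hAK : A ⊓ K = ⊥)
    (F : Type v) [Field F] [Fintype F] (hF : Fintype.card F = 4)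
    (hK : Nonempty (K ≃* Cfsg.PSU 6 F 2) ∨
      ∃ K₀ : Subgroup K, K₀.Normal ∧ K₀.index = 2 ∧ Nonempty (K₀ ≃* Cfsg.PSU 6 F 2) ∧
        Subgroup.centralizer (K₀ : Set K) = ⊥)
    (hmin : ∀ B : Subgroup X, B ≤ A → (∀ h ∈ A ⊔ K, ∀ b ∈ B, h * b * h⁻¹ ∈ B) → B = ⊥ ∨ B = A) :
    ∃ D : Data X F, D.A = A ∧ D.H = A ⊔ K := by
  haveI : Fact (Nat.Prime 2) := ⟨Nat.prime_two⟩
  have hp : IsPGroup 2 A := IsPGroup.of_card (n := 20) hA
  haveI : Nontrivial A := Finite.one_lt_card_iff_nontrivial.1 (by rw [hA]; norm_num)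
  have hle : A ⊔ K ≤ Subgroup.normalizer (A : Set X) := sup_le Subgroup.le_normalizer hKn
  -- `A` is abelian
  have hcomm : ∀ a ∈ A, ∀ b ∈ A, a * b = b * a := by
    set Z : Subgroup X := (Subgroup.center A).map A.subtype with hZ
    rcases hmin Z (Subgroup.map_subtype_le _) (by
      rintro h hh _ ⟨z, hz, rfl⟩
      have hn := Subgroup.mem_normalizer_iff.1 (hle hh)
      refine ⟨⟨h * (z : X) * h⁻¹, (hn _).1 z.2⟩, Subgroup.mem_center_iff.2 fun b => Subtype.ext ?_, rfl⟩
      have hb : h⁻¹ * (b : X) * h ∈ A := (hn _).2 (by rw [show h * (h⁻¹ * (b : X) * h) * h⁻¹ = b by group]; exact b.2)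
      have hcz := congrArg Subtype.val (Subgroup.mem_center_iff.1 hz ⟨_, hb⟩)
      show (b : X) * (h * (z : X) * h⁻¹) = h * (z : X) * h⁻¹ * b
      calc (b : X) * (h * (z : X) * h⁻¹) = h * (h⁻¹ * b * h * z) * h⁻¹ := by group
        _ = h * ((z : X) * (h⁻¹ * b * h)) * h⁻¹ := by rw [show h⁻¹ * (b : X) * h * z = (z : X) * (h⁻¹ * b * h) from hcz]
        _ = _ := by group) with e | e
    · exfalso
      haveI := hp.center_nontrivial
      obtain ⟨z, hz⟩ := exists_ne (1 : Subgroup.center A)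
      refine hz (Subtype.ext (Subtype.ext ?_))
      have : (((z : A) : X)) ∈ Z := ⟨(z : A), z.2, rfl⟩
      rwa [e, Subgroup.mem_bot] at this
    · intro a ha b hb
      have ha' : a ∈ Z := e.symm ▸ ha
      obtain ⟨z, hz, rfl⟩ := ha'
      exact (congrArg Subtype.val (Subgroup.mem_center_iff.1 hz ⟨b, hb⟩)).symm
  -- `A` is elementary
  have hsq : ∀ a ∈ A, a * a = 1 := by
    let Ω : Subgroup X :=
      { carrier := {a | a ∈ A ∧ a * a = 1}
        one_mem' := ⟨A.one_mem, mul_one 1⟩
        mul_mem' := fun {a b} ha hb => ⟨A.mul_mem ha.1 hb.1, by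
          calc a * b * (a * b) = a * (b * a) * b := by group
            _ = a * (a * b) * b := by rw [hcomm b hb.1 a ha.1]
            _ = (a * a) * (b * b) := by group
            _ = 1 := by rw [ha.2, hb.2, one_mul]⟩
        inv_mem' := fun {a} ha => ⟨A.inv_mem ha.1, by rw [← mul_inv_rev, ha.2, inv_one]⟩ }
    rcases hmin Ω (fun a ha => ha.1) (fun h hh a ha => ⟨(Subgroup.mem_normalizer_iff.1 (hle hh) a).1 ha.1, by
      calc h * a * h⁻¹ * (h * a * h⁻¹) = h * (a * a) * h⁻¹ := by group
        _ = 1 := by rw [ha.2]; group⟩) with e | e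
    · exfalso
      obtain ⟨a, ha⟩ := exists_prime_orderOf_dvd_card' (G := A) 2 (by rw [hA]; norm_num)
      have h1 : (a : X) ∈ Ω := ⟨a.2, by
        have := pow_orderOf_eq_one (a : X)
        rwa [Subgroup.orderOf_coe, ha, pow_two] at this⟩
      rw [e, Subgroup.mem_bot, ← orderOf_eq_one_iff, Subgroup.orderOf_coe, ha] at h1
      exact absurd h1 (by norm_num)
    · intro a ha
      exact (e.symm ▸ ha : a ∈ Ω).2
  have hirr : ∀ B : Subgroup X, B ≤ A → (∀ k ∈ K, ∀ b ∈ B, k * b * k⁻¹ ∈ B) → B = ⊥ ∨ B = A := by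
    intro B hB hinv
    refine hmin B hB fun h hh b hb => ?_
    have h1 : (h : X) ∈ ((A ⊔ K : Subgroup X) : Set X) := hh
    rw [Subgroup.coe_mul_of_right_le_normalizer_left A K hKn] at h1
    obtain ⟨a, ha, k, hk, rfl⟩ := Set.mem_mul.1 h1
    have h2 := hinv k hk b hb
    rw [show a * k * b * (a * k)⁻¹ = a * (k * b * k⁻¹) * a⁻¹ by group, hcomm a ha _ (hB h2), mul_inv_cancel_right]
    exact h2
  -- the subgroup of index at most two
  haveI hs : IsSimpleGroup (Cfsg.PSU 6 F 2) :=
    Cfsg.Agent.S0283.result (q := 2) (by rw [hF]; norm_num) 6 (by norm_num) (by norm_num)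
  obtain ⟨K₀, hK₀n, hind, ⟨e₀⟩, hcent⟩ : ∃ K₀ : Subgroup K, K₀.Normal ∧ K₀.index ≤ 2 ∧
      Nonempty (K₀ ≃* Cfsg.PSU 6 F 2) ∧
        ∀ L : Subgroup K, L.Normal → L ⊓ K₀ = ⊥ → L = ⊥ := by
    rcases hK with he | ⟨K₀, hn, hi, he, hc⟩
    · obtain ⟨e⟩ := he
      exact ⟨⊤, inferInstance, by simp, ⟨Subgroup.topEquiv.trans e⟩, fun L _ h => by rwa [inf_top_eq] at h⟩
    · refine ⟨K₀, hn, hi.le, he, fun L hL h => eq_bot_iff.2 (hc ▸ fun x hx => ?_)⟩
      exact Subgroup.mem_centralizer_iff.2 fun y hy =>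
        (Subgroup.commute_of_normal_of_disjoint L K₀ hL hn (disjoint_iff.2 h) x y hx hy).symm.eq
  haveI : IsSimpleGroup K₀ := e₀.isSimpleGroup
  -- the action is faithful
  have hfaith : ∀ k ∈ K, (∀ a ∈ A, k * a = a * k) → k = 1 := by
    set L : Subgroup K := (Subgroup.centralizer (A : Set X)).subgroupOf K with hL
    have hLn : L.Normal := ⟨fun x hx g => by
      rw [hL, Subgroup.mem_subgroupOf, Subgroup.mem_centralizer_iff] at hx ⊢
      intro a ha
      have hb : (g : X)⁻¹ * a * g ∈ A := (Subgroup.mem_normalizer_iff.1 (hKn g.2) _).2 (by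
        rwa [show (g : X) * ((g : X)⁻¹ * a * g) * (g : X)⁻¹ = a by group])
      rw [Subgroup.coe_mul, Subgroup.coe_mul, Subgroup.coe_inv]
      calc a * ((g : X) * x * (g : X)⁻¹) = g * ((g : X)⁻¹ * a * g * x) * (g : X)⁻¹ := by group
        _ = g * ((x : X) * ((g : X)⁻¹ * a * g)) * (g : X)⁻¹ := by rw [hx _ hb]
        _ = _ := by group⟩
    have hLb : L = ⊥ := by
      rcases Subgroup.Normal.eq_bot_or_eq_top (H := L.subgroupOf K₀) inferInstance with e | e
      · refine hcent L hLn ?_
        rw [inf_comm]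
        exact disjoint_iff.1 (Subgroup.subgroupOf_eq_bot.1 e).symm
      · -- a group of order at most two cannot act irreducibly
        exfalso
        have hK0L : K₀ ≤ L := Subgroup.subgroupOf_eq_top.1 e
        have hact : ∀ x ∈ K₀, ∀ b ∈ A, (x : X) * b * (x : X)⁻¹ = b := fun x hx b hb => by
          rw [← Subgroup.mem_centralizer_iff.1 (Subgroup.mem_subgroupOf.1 (hK0L hx)) b hb, mul_inv_cancel_right]
        obtain ⟨a, ha1⟩ := exists_ne (1 : A)
        have hsmall : ∃ B : Subgroup X, B ≤ A ∧ (a : X) ∈ B ∧ Nat.card B ≤ 4 ∧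
            ∀ k ∈ K, ∀ b ∈ B, k * b * k⁻¹ ∈ B := by
          obtain ⟨s, hs'⟩ : ∃ s : K, ∀ k : K, k ∈ K₀ ∨ s⁻¹ * k ∈ K₀ := by
            by_cases h : K₀ = ⊤
            · exact ⟨1, fun k => Or.inl (h ▸ Subgroup.mem_top k)⟩
            · have h2 : K₀.index = 2 := le_antisymm hind (by
                have := Subgroup.one_lt_index_of_ne_top h; omega)
              obtain ⟨s, hs'⟩ := SetLike.exists_of_lt (lt_top_iff_ne_top.2 h)
              refine ⟨s, fun k => ?_⟩
              by_cases hk : k ∈ K₀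
              · exact Or.inl hk
              · refine Or.inr ((Subgroup.mul_mem_iff_of_index_two h2).2 ?_)
                simp [hs'.2, hk]
          set b : X := (s : X) * a * (s : X)⁻¹ with hb
          have hbA : b ∈ A := (Subgroup.mem_normalizer_iff.1 (hKn s.2) _).1 a.2
          set B := Subgroup.zpowers (a : X) ⊔ Subgroup.zpowers b with hB
          have hBA : B ≤ A := sup_le (Subgroup.zpowers_le.2 a.2) (Subgroup.zpowers_le.2 hbA)
          refine ⟨B, hBA, Subgroup.mem_sup_left (Subgroup.mem_zpowers _), ?_, ?_⟩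
          · have h1 : ∀ z ∈ A, Nat.card (Subgroup.zpowers z) ≤ 2 := fun z hz => by
              rw [Nat.card_zpowers]
              exact Nat.le_of_dvd two_pos (orderOf_dvd_of_pow_eq_one (by rw [pow_two]; exact hsq z hz))
            have h2 : Subgroup.zpowers b ≤ Subgroup.normalizer (Subgroup.zpowers (a : X) : Set X) :=
              Subgroup.zpowers_le.2 (Subgroup.centralizer_le_normalizer _ (Subgroup.mem_centralizer_iff.2
                fun z hz => hcomm z ((Subgroup.zpowers_le.2 a.2) hz) b hbA))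
            have h3 := Set.natCard_mul_le (s := (Subgroup.zpowers (a : X) : Set X)) (t := (Subgroup.zpowers b : Set X))
            rw [← Subgroup.coe_mul_of_right_le_normalizer_left _ _ h2] at h3
            exact h3.trans (Nat.mul_le_mul (h1 _ a.2) (h1 _ hbA))
          · intro k hk z hz
            have h0 : ∀ g : X, (g * a * g⁻¹ ∈ B) → (g * b * g⁻¹ ∈ B) → ∀ z ∈ B, g * z * g⁻¹ ∈ B := fun g h1 h2 =>
              show B ≤ B.comap (MulAut.conj g).toMonoidHom from
                sup_le (Subgroup.zpowers_le.2 h1) (Subgroup.zpowers_le.2 h2)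
            have hss : ∀ g : K, g ∈ K₀ → ∀ z ∈ B, (g : X) * z * (g : X)⁻¹ ∈ B := fun g hg z hz => by
              rwa [hact g hg z (hBA hz)]
            have hs2 : (s * s : K) ∈ K₀ := by
              rcases hs' 1 with h | h
              · rcases hs' (s * s) with h' | h'
                · exact h'
                · rw [inv_mul_cancel_left] at h'
                  exact K₀.mul_mem h' h'
              · rw [mul_one, inv_mem_iff] at h
                exact K₀.mul_mem h h
            have hsB : ∀ z ∈ B, (s : X) * z * (s : X)⁻¹ ∈ B := h0 _ (Subgroup.mem_sup_right (Subgroup.mem_zpowers _))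
              (by
                rw [hb, show (s : X) * ((s : X) * a * (s : X)⁻¹) * (s : X)⁻¹ = (s : X) * s * a * ((s : X) * s)⁻¹ by group,
                  ← Subgroup.coe_mul, hact _ hs2 _ a.2]
                exact Subgroup.mem_sup_left (Subgroup.mem_zpowers _))
            rcases hs' ⟨k, hk⟩ with h | h
            · exact hss _ h z hz
            · have h4 := hsB _ (hss _ h z hz)
              rw [Subgroup.coe_mul, Subgroup.coe_inv] at h4
              convert h4 using 1
              group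
        obtain ⟨B, hBA, haB, hBc, hinv⟩ := hsmall
        rcases hirr B hBA hinv with e' | e'
        · rw [e', Subgroup.mem_bot] at haB
          exact ha1 (Subtype.ext haB)
        · rw [e', hA] at hBc
          norm_num at hBc
    intro k hk hc
    have : (⟨k, hk⟩ : K) ∈ L := by
      rw [hL, Subgroup.mem_subgroupOf, Subgroup.mem_centralizer_iff]
      exact fun a ha => (hc a ha).symm
    rw [hLb, Subgroup.mem_bot] at this
    exact congrArg Subtype.val this
  refine ⟨⟨A, K, K₀.map K.subtype, hA, hsq, hKn, Subgroup.map_subtype_le _, ?_, ?_, ?_, hfaith, hAK, hirr⟩, rfl, rfl⟩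
  · rintro k hk _ ⟨x, hx, rfl⟩
    exact ⟨⟨k, hk⟩ * x * ⟨k, hk⟩⁻¹, hK₀n.conj_mem x hx _, rfl⟩
  · rwa [Subgroup.subgroupOf, Subgroup.comap_map_eq_self_of_injective K.subtype_injective]
  · exact ⟨(K₀.equivMapOfInjective K.subtype K.subtype_injective).symm.trans e₀⟩

end Cfsg.Agent.Lie.USixTwenty
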