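import Cfsg.Agent.Lib.Lie.USixTwenty.Frame
import Cfsg.Agent.Lib.Lie.USixTwenty.Build

/-!
The conclusion from the five module facts.
-/

set_option autoImplicit false

namespace Cfsg.Agent.Lie.USixTwenty

universe u v

/-- from the facts, `H` is the whole group or some outside conjugate meets it in order divisible by three -/
theorem Data.conclusion {X : Type u} [Group X] [Finite X] {F : Type v} [Field F] (D : Data X F)
    (hfacts : D.VecFact ∧ D.HypFact ∧ D.WeakFact ∧ D.OrbitFact ∧ D.BadFact)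
    (hH : Subgroup.normalizer (D.A : Set X) = D.H) :
    D.H = ⊤ ∨ ∃ g : X, g ∉ D.H ∧ 3 ∣ Nat.card (D.H ⊓ D.H.map (MulAut.conj g).toMonoidHom : Subgroup X) := by
  by_cases h : ∃ g : X, g ∉ D.H ∧ 3 ∣ Nat.card (D.H ⊓ D.H.map (MulAut.conj g).toMonoidHom : Subgroup X)
  · exact Or.inr h
  · obtain ⟨hv, hhyp, hw, horb, hbad⟩ := hfacts
    exact Or.inl (Data.H_eq_top (fun g hg hd => h ⟨g, hg, hd⟩) hv hhyp hw horb hbad hH)

end Cfsg.Agent.Lie.USixTwenty
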