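import Cfsg.Agent.Lib.Lie.USixTwenty.Model

/-!
Bit vectors, matrices given by the images of the bits, and lists of the subspaces of a span.
-/

set_option autoImplicit false

namespace Cfsg.Agent.Lie.USixTwenty

theorem xor_half (a b : ℕ) : (a ^^^ b) / 2 = a / 2 ^^^ b / 2 := by
  simp only [← Nat.shiftRight_one]
  exact Nat.shiftRight_xor_distrib ..

theorem app_zero : ∀ M : List ℕ, app M 0 = 0
  | [] => rfl
  | r :: M => by
      show (if Nat.testBit 0 0 then r else 0) ^^^ app M (0 / 2) = 0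
      simp [app_zero M]

theorem app_xor : ∀ (M : List ℕ) (a b : ℕ), app M (a ^^^ b) = app M a ^^^ app M b
  | [], a, b => (Nat.xor_self 0).symm
  | r :: M, a, b => by
      show (if Nat.testBit (a ^^^ b) 0 then r else 0) ^^^ app M ((a ^^^ b) / 2) = _
      rw [xor_half, app_xor M, Nat.testBit_xor]
      show _ = ((if Nat.testBit a 0 then r else 0) ^^^ app M (a / 2)) ^^^
        ((if Nat.testBit b 0 then r else 0) ^^^ app M (b / 2))
      generalize app M (a / 2) = p
      generalize app M (b / 2) = q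
      cases ha : Nat.testBit a 0 <;> cases hb : Nat.testBit b 0 <;>
        simp [Nat.xor_assoc, Nat.xor_comm, Nat.xor_left_comm]

/-- a function is linear below a bound -/
def LinBelow (n : ℕ) (f : ℕ → ℕ) : Prop :=
  ∀ a b, a < 2 ^ n → b < 2 ^ n → f (a ^^^ b) = f a ^^^ f b

theorem lin_app (n : ℕ) (M : List ℕ) : LinBelow n (app M) := fun a b _ _ => app_xor M a b

theorem xor_self_left (x a : ℕ) : x ^^^ (x ^^^ a) = a := by
  rw [← Nat.xor_assoc, Nat.xor_self, Nat.zero_xor]

theorem split_top {n v : ℕ} (hv : v < 2 ^ (n + 1)) :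
    ∃ w, w < 2 ^ n ∧ (v = w ∨ v = 2 ^ n ^^^ w) := by
  by_cases h : v < 2 ^ n
  · exact ⟨v, h, Or.inl rfl⟩
  refine ⟨2 ^ n ^^^ v, Nat.lt_pow_two_of_testBit _ fun j hj => ?_, Or.inr (xor_self_left _ _).symm⟩
  rcases lt_or_eq_of_le hj with hj' | rfl
  · rw [Nat.testBit_xor, Nat.testBit_two_pow_of_ne (by omega),
      Nat.testBit_lt_two_pow (lt_of_lt_of_le hv (Nat.pow_le_pow_right (by norm_num) hj'))]
    rfl
  · obtain ⟨i, hi, hi'⟩ := Nat.exists_ge_and_testBit_of_ge_two_pow (le_of_not_gt h)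
    have : i = n := by
      by_contra hne
      have h2 := Nat.testBit_lt_two_pow (x := v) (i := i)
        (lt_of_lt_of_le hv (Nat.pow_le_pow_right (by norm_num) (by omega)))
      rw [hi'] at h2
      exact absurd h2 (by decide)
    subst this
    rw [Nat.testBit_xor, Nat.testBit_two_pow_self, hi']
    rfl

theorem lin_ext {n : ℕ} {f g : ℕ → ℕ} (hf : LinBelow n f) (hg : LinBelow n g) (h0 : f 0 = g 0)
    (h : ∀ i, i < n → f (2 ^ i) = g (2 ^ i)) : ∀ v, v < 2 ^ n → f v = g v := by
  intro v hv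
  induction n generalizing v with
  | zero => obtain rfl : v = 0 := by simpa using hv
            exact h0
  | succ n ih =>
    have hlt : 2 ^ n < 2 ^ (n + 1) := Nat.pow_lt_pow_right (by norm_num) (Nat.lt_succ_self n)
    have hres : ∀ w, w < 2 ^ n → f w = g w :=
      ih (fun a b ha hb => hf a b (ha.trans hlt) (hb.trans hlt))
        (fun a b ha hb => hg a b (ha.trans hlt) (hb.trans hlt)) fun i hi => h i (by omega)
    obtain ⟨w, hw, rfl | rfl⟩ := split_top hv
    · exact hres v hw
    · rw [hf _ _ hlt (hw.trans hlt), hg _ _ hlt (hw.trans hlt), hres w hw, h n (Nat.lt_succ_self n)]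

/-- the unit matrix -/
def idM (n : ℕ) : List ℕ := (List.range n).map fun i => 2 ^ i

/-- composition of matrices -/
def mmul (A B : List ℕ) : List ℕ := B.map (app A)

theorem app_mmul (A : List ℕ) : ∀ (B : List ℕ) (v : ℕ), app (mmul A B) v = app A (app B v)
  | [], v => (app_zero A).symm
  | r :: B, v => by
      show (if Nat.testBit v 0 then app A r else 0) ^^^ app (mmul A B) (v / 2) =
        app A ((if Nat.testBit v 0 then r else 0) ^^^ app B (v / 2))
      rw [app_mmul A B, app_xor]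
      split <;> simp [app_zero]

theorem app_lt {n : ℕ} : ∀ (M : List ℕ), (∀ r ∈ M, r < 2 ^ n) → ∀ v, app M v < 2 ^ n
  | [], _, v => Nat.two_pow_pos n
  | r :: M, h, v => by
      refine Nat.xor_lt_two_pow ?_ (app_lt M (fun x hx => h x (List.mem_cons_of_mem _ hx)) _)
      split
      · exact h r List.mem_cons_self
      · exact Nat.two_pow_pos n

theorem mem_idM {n r : ℕ} (h : r ∈ idM n) : r < 2 ^ n := by
  obtain ⟨i, hi, rfl⟩ := List.mem_map.mp h
  exact Nat.pow_lt_pow_right (by norm_num) (List.mem_range.mp hi)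

theorem app_idM {v : ℕ} (hv : v < 2 ^ 20) : app (idM 20) v = v :=
  lin_ext (f := app (idM 20)) (g := fun x => x) (lin_app 20 _) (fun a b _ _ => rfl) (app_zero _)
    (by decide +kernel) v hv

/-! ### spans and subspaces -/

/-- the span of a list together with one more vector -/
def ext1 (x : ℕ) (s : List ℕ) : List ℕ := if x ∈ s then s else s ++ s.map (Nat.xor x)

/-- the span of a list -/
def spanL : List ℕ → List ℕ
  | [] => [0]
  | b :: bs => ext1 b (spanL bs)

/-- a list is closed under addition and contains zero -/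
structure Closed (s : List ℕ) : Prop where
  zero : 0 ∈ s
  add : ∀ a ∈ s, ∀ b ∈ s, a ^^^ b ∈ s
  nodup : s.Nodup

theorem Closed.ext1 {s : List ℕ} (h : Closed s) (x : ℕ) : Closed (ext1 x s) := by
  unfold USixTwenty.ext1
  split
  · exact h
  rename_i hx
  refine ⟨List.mem_append_left _ h.zero, ?_, List.nodup_append'.mpr ⟨h.nodup, ?_, ?_⟩⟩
  · intro a ha b hb
    rw [List.mem_append, List.mem_map] at ha hb ⊢
    rcases ha with ha | ⟨a, ha, rfl⟩ <;> rcases hb with hb | ⟨b, hb, rfl⟩
    · exact Or.inl (h.add a ha b hb)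
    · refine Or.inr ⟨a ^^^ b, h.add a ha b hb, ?_⟩
      show x ^^^ (a ^^^ b) = a ^^^ (x ^^^ b)
      rw [Nat.xor_left_comm]
    · refine Or.inr ⟨a ^^^ b, h.add a ha b hb, ?_⟩
      show x ^^^ (a ^^^ b) = (x ^^^ a) ^^^ b
      rw [Nat.xor_assoc]
    · refine Or.inl ?_
      show (x ^^^ a) ^^^ (x ^^^ b) ∈ s
      rw [Nat.xor_assoc, Nat.xor_left_comm a, xor_self_left]
      exact h.add a ha b hb
  · exact h.nodup.map fun a b hab => Nat.xor_right_inj.mp hab
  · intro a ha hb
    obtain ⟨b, hb', rfl⟩ := List.mem_map.mp hb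
    refine hx ?_
    have := h.add _ ha b hb'
    simpa [Nat.xor_assoc] using this

theorem closed_spanL : ∀ bs, Closed (spanL bs)
  | [] => ⟨by simp [spanL], by simp [spanL], by simp [spanL]⟩
  | b :: bs => (closed_spanL bs).ext1 b

/-- the subspaces of the span of a list, each once -/
def subsp : List ℕ → List (List ℕ)
  | [] => [[0]]
  | b :: bs =>
    let L := spanL bs
    let P := subsp bs
    if b ∈ L then P
    else P ++ P.flatMap fun W =>
      (L.filter fun y => W.all fun w => decide (y ≤ Nat.xor y w)).map fun y =>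
        W ++ W.map (Nat.xor (Nat.xor b y))

theorem subsp_complete : ∀ (bs : List ℕ) (p : ℕ → Prop), p 0 → (∀ a b, p a → p b → p (a ^^^ b)) →
    (∀ a, p a → a ∈ spanL bs) → ∃ W ∈ subsp bs, W.Nodup ∧ ∀ a, a ∈ W ↔ p a
  | [], p, h0, _, hs => ⟨[0], by simp [subsp], by simp, fun a => ⟨fun h => by
      obtain rfl := List.mem_singleton.mp h
      exact h0, fun h => hs a h⟩⟩
  | b :: bs, p, h0, ha, hs => by
    classical
    set L := spanL bs with hL
    have hC : Closed L := closed_spanL bs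
    by_cases hb : b ∈ L
    · have e1 : spanL (b :: bs) = L := by simp [spanL, ext1, ← hL, hb]
      rw [e1] at hs
      obtain ⟨W, hW, hW'⟩ := subsp_complete bs p h0 ha hs
      exact ⟨W, by simp [subsp, ← hL, hb, hW], hW'⟩
    have e1 : spanL (b :: bs) = L ++ L.map (Nat.xor b) := by simp [spanL, ext1, ← hL, hb]
    rw [e1] at hs
    obtain ⟨W, hW, hWn, hWp⟩ := subsp_complete bs (fun a => p a ∧ a ∈ L) ⟨h0, hC.zero⟩
      (fun a c x y => ⟨ha a c x.1 y.1, hC.add a x.2 c y.2⟩) fun a h => h.2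
    by_cases hall : ∀ a, p a → a ∈ L
    · refine ⟨W, by simp [subsp, ← hL, hb, hW], hWn, fun a => ?_⟩
      rw [hWp]
      exact ⟨fun h => h.1, fun h => ⟨h, hall a h⟩⟩
    push Not at hall
    obtain ⟨a₀, ha₀, haL⟩ := hall
    have hex : ∃ y, y ∈ L ∧ p (b ^^^ y) := by
      rcases List.mem_append.mp (hs a₀ ha₀) with h | h
      · exact absurd h haL
      · obtain ⟨y, hy, rfl⟩ := List.mem_map.mp h
        exact ⟨y, hy, ha₀⟩
    set y := Nat.find hex with hy
    obtain ⟨hyL, hyp⟩ := Nat.find_spec hex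
    rw [← hy] at hyL hyp
    have hmin : ∀ w ∈ W, y ≤ y ^^^ w := fun w hw => by
      obtain ⟨wp, wL⟩ := (hWp w).mp hw
      refine Nat.find_min' hex ⟨hC.add y hyL w wL, ?_⟩
      rw [← Nat.xor_assoc]
      exact ha _ _ hyp wp
    have hout : ∀ w ∈ W, (b ^^^ y) ^^^ w ∉ L := fun w hw h => hb (by
      have h2 := hC.add _ h (y ^^^ w) (hC.add y hyL w ((hWp w).mp hw).2)
      rwa [Nat.xor_assoc b, Nat.xor_assoc, Nat.xor_self, Nat.xor_zero] at h2)
    refine ⟨W ++ W.map (Nat.xor (b ^^^ y)), ?_, List.nodup_append'.mpr ⟨hWn, ?_, ?_⟩, fun a => ⟨?_, ?_⟩⟩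
    · simp only [subsp, ← hL, hb, if_false]
      refine List.mem_append_right _ (List.mem_flatMap.mpr ⟨W, hW, List.mem_map.mpr ⟨y, ?_, rfl⟩⟩)
      exact List.mem_filter.mpr ⟨hyL, List.all_eq_true.mpr fun w hw => decide_eq_true (hmin w hw)⟩
    · exact hWn.map fun u v huv => Nat.xor_right_inj.mp huv
    · intro u hu hu'
      obtain ⟨w, hw, rfl⟩ := List.mem_map.mp hu'
      exact hout w hw ((hWp _).mp hu).2
    · intro h
      rcases List.mem_append.mp h with h | h
      · exact ((hWp a).mp h).1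
      · obtain ⟨w, hw, rfl⟩ := List.mem_map.mp h
        exact ha _ _ hyp ((hWp w).mp hw).1
    · intro h
      rw [List.mem_append]
      rcases List.mem_append.mp (hs a h) with h' | h'
      · exact Or.inl ((hWp a).mpr ⟨h, h'⟩)
      · obtain ⟨z, hz, rfl⟩ := List.mem_map.mp h'
        refine Or.inr (List.mem_map.mpr ⟨y ^^^ z, (hWp _).mpr ⟨?_, hC.add y hyL z hz⟩, ?_⟩)
        · have := ha _ _ hyp h
          have e : (b ^^^ y) ^^^ Nat.xor b z = y ^^^ z := by
            show (b ^^^ y) ^^^ (b ^^^ z) = y ^^^ z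
            rw [Nat.xor_assoc, Nat.xor_left_comm y, xor_self_left]
          rwa [e] at this
        · show (b ^^^ y) ^^^ (y ^^^ z) = b ^^^ z
          rw [Nat.xor_assoc, xor_self_left]

end Cfsg.Agent.Lie.USixTwenty
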