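import Cfsg.Agent.Lib.Lie.USixTwenty.Defs

/-!
The kernel-checked tables of the model.
-/

set_option autoImplicit false
set_option maxRecDepth 100000
set_option maxHeartbeats 400000

namespace Cfsg.Agent.Lie.USixTwenty.Chk

theorem levi_one : (subsp (eBasis true)).all leviOK = true := by decide +kernel

theorem levi_two : (subsp (eBasis false)).all leviOK = true := by decide +kernel


end Cfsg.Agent.Lie.USixTwenty.Chk
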