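import Cfsg.Agent.Lib.Lie.USixTwenty.Layers
import Cfsg.Agent.Lib.Lie.USixTwenty.ChecksLevi

/-!
The bound on the common fixed vectors of an elementary subgroup in the Sylow two-subgroup of the model.
-/

set_option autoImplicit false
set_option maxRecDepth 100000

namespace Cfsg.Agent.Lie.USixTwenty

/-- a set of bit vectors closed under addition and containing zero -/
structure FClosed (C : Finset ℕ) : Prop where
  zero : 0 ∈ C
  add : ∀ a ∈ C, ∀ b ∈ C, a ^^^ b ∈ C

theorem FClosed.card_eq {C : Finset ℕ} (hC : FClosed C) {f : ℕ → ℕ} (hf : Lin f) :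
    C.card = (C.filter fun v => f v = 0).card * (C.image f).card := by
  rw [Finset.card_eq_sum_card_image f C, Finset.sum_const_nat fun w hw => ?_, Nat.mul_comm]
  obtain ⟨v₀, hv₀, rfl⟩ := Finset.mem_image.mp hw
  refine Finset.card_nbij' (fun v => v₀ ^^^ v) (fun v => v₀ ^^^ v) ?_ ?_ (fun v _ => xor_self_left _ _)
    (fun v _ => xor_self_left _ _)
  · intro v hv
    simp only [Finset.mem_coe, Finset.mem_filter] at hv ⊢
    exact ⟨hC.add _ hv₀ _ hv.1, by rw [hf, hv.2, Nat.xor_self]⟩
  · intro v hv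
    simp only [Finset.mem_coe, Finset.mem_filter] at hv ⊢
    exact ⟨hC.add _ hv₀ _ hv.1, by rw [hf, hv.2, Nat.xor_zero]⟩

theorem FClosed.filter {C : Finset ℕ} (hC : FClosed C) {f : ℕ → ℕ} (hf : Lin f) :
    FClosed (C.filter fun v => f v = 0) where
  zero := Finset.mem_filter.mpr ⟨hC.zero, hf.zero⟩
  add a ha b hb := by
    rw [Finset.mem_filter] at ha hb ⊢
    exact ⟨hC.add a ha.1 b hb.1, by rw [hf, ha.2, hb.2, Nat.xor_self]⟩

theorem FClosed.range (n : ℕ) : FClosed (Finset.range (2 ^ n)) where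
  zero := Finset.mem_range.mpr (Nat.two_pow_pos n)
  add _ ha _ hb := Finset.mem_range.mpr (Nat.xor_lt_two_pow (Finset.mem_range.mp ha) (Finset.mem_range.mp hb))

theorem FClosed.card_le {C : Finset ℕ} (hC : FClosed C) {f : ℕ → ℕ} (hf : Lin f) {m k : ℕ}
    (hm : (C.filter fun v => f v = 0).card ≤ m) (hk : (C.image f).card ≤ k) : C.card ≤ m * k := by
  rw [hC.card_eq hf]
  exact Nat.mul_le_mul hm hk

theorem FClosed.card_two_pow : ∀ {n : ℕ} {C : Finset ℕ}, FClosed C → C ⊆ Finset.range (2 ^ n) →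
    ∃ k, k ≤ n ∧ C.card = 2 ^ k
  | 0, C, hC, hn => ⟨0, le_rfl, by
      have : C = {0} := Finset.Subset.antisymm (by simpa using hn) (by simpa using hC.zero)
      rw [this]; rfl⟩
  | n + 1, C, hC, hn => by
      have hf := lin_div n
      obtain ⟨k, hk, hk'⟩ := FClosed.card_two_pow (n := n) (hC.filter hf) fun v hv => by
        rw [Finset.mem_filter] at hv
        rw [Finset.mem_range]
        exact Nat.lt_of_div_eq_zero (Nat.two_pow_pos n) hv.2
      have himg : C.image (fun v => v / 2 ^ n) ⊆ {0, 1} := fun w hw => by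
        obtain ⟨v, hv, rfl⟩ := Finset.mem_image.mp hw
        have h1 := Finset.mem_range.mp (hn hv)
        have : v / 2 ^ n < 2 := Nat.div_lt_of_lt_mul (by rwa [← pow_succ])
        simp only [Finset.mem_insert, Finset.mem_singleton]
        generalize v / 2 ^ n = z at this ⊢
        omega
      have h0 : 0 ∈ C.image (fun v => v / 2 ^ n) := Finset.mem_image.mpr ⟨0, hC.zero, Nat.zero_div _⟩
      have hle := Finset.card_le_card himg
      rw [hC.card_eq hf, hk']
      have hpos : 0 < (C.image (fun v => v / 2 ^ n)).card := Finset.card_pos.mpr ⟨0, h0⟩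
      have h2 : ({0, 1} : Finset ℕ).card = 2 := rfl
      obtain h | h : (C.image (fun v => v / 2 ^ n)).card = 1 ∨ (C.image (fun v => v / 2 ^ n)).card = 2 := by
        omega
      · exact ⟨k, by omega, by rw [h, Nat.mul_one]⟩
      · exact ⟨k + 1, by omega, by rw [h, pow_succ]⟩

theorem closed_spanUpto (bound : ℕ) : ∀ L : List ℕ, Closed (spanUpto bound L)
  | [] => ⟨by simp [spanUpto], by simp [spanUpto], by simp [spanUpto]⟩
  | r :: L => by
      have h := closed_spanUpto bound L
      simp only [spanUpto]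
      split
      · exact h
      · exact h.ext1 r

theorem mem_spanUpto {bound : ℕ} {P : ℕ → Prop} (h0 : P 0) (hadd : ∀ a b, P a → P b → P (a ^^^ b)) :
    ∀ L : List ℕ, (∀ r ∈ L, P r) → ∀ v ∈ spanUpto bound L, P v
  | [], _, v, hv => by
      obtain rfl : v = 0 := by simpa [spanUpto] using hv
      exact h0
  | r :: L, hL, v, hv => by
      have ih := mem_spanUpto (bound := bound) h0 hadd L (fun x hx => hL x (List.mem_cons_of_mem _ hx))
      simp only [spanUpto] at hv
      split at hv
      · exact ih v hv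
      · simp only [ext1] at hv
        split at hv
        · exact ih v hv
        · rcases List.mem_append.mp hv with h | h
          · exact ih v h
          · obtain ⟨w, hw, rfl⟩ := List.mem_map.mp h
            exact hadd r w (hL r List.mem_cons_self) (ih w hw)

/-- the forms annihilated by `x` -/
def annSet (x : ℕ) : Finset ℕ := (Finset.range (2 ^ 9)).filter fun h => cr h x = 0

theorem ann_bound {x : ℕ} (hx : x < 512) (hx0 : x ≠ 0) :
    (annSet x).card ≤ 32 ∧ (x ∉ Tab.rankOne → (annSet x).card ≤ 8) := by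
  have hs := Chk.ann
  simp only [List.all_eq_true, List.mem_range, Bool.or_eq_true, beq_iff_eq, Bool.and_eq_true,
    decide_eq_true_eq, List.contains_iff_mem] at hs
  have h := hs x hx
  set L := spanUpto 64 (crM x) with hL
  have hsub : L.toFinset ⊆ (Finset.range (2 ^ 9)).image fun h => cr h x := fun w hw => by
    refine mem_spanUpto (P := fun w => w ∈ (Finset.range (2 ^ 9)).image fun h => cr h x) ?_ ?_ _ ?_ w
      (List.mem_toFinset.mp hw)
    · exact Finset.mem_image.mpr ⟨0, by simp, (lin_cr_left x).zero⟩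
    · intro a b ha hb
      obtain ⟨p, hp, rfl⟩ := Finset.mem_image.mp ha
      obtain ⟨q, hq, rfl⟩ := Finset.mem_image.mp hb
      exact Finset.mem_image.mpr ⟨p ^^^ q, (FClosed.range 9).add p hp q hq, lin_cr_left x p q⟩
    · intro r hr
      obtain ⟨i, hi, rfl⟩ := List.getElem_of_mem hr
      refine Finset.mem_image.mpr ⟨2 ^ i, Finset.mem_range.mpr (Nat.pow_lt_pow_right (by norm_num) ?_), ?_⟩
      · have h9 : (crM x).length = 9 := by simp [crM, Tab.crT]
        omega
      · exact app_bit (crM x) i hi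
  have hcard := Finset.card_le_card hsub
  rw [List.toFinset_card_of_nodup (closed_spanUpto 64 _).nodup] at hcard
  have heq := (FClosed.range 9).card_eq (lin_cr_left x)
  rw [Finset.card_range] at heq
  have key : ∀ k, k ≤ L.length → (annSet x).card * k ≤ 2 ^ 9 := fun k hk =>
    (Nat.mul_le_mul_left _ (hk.trans hcard)).trans heq.ge
  rcases h with h | h | ⟨h, h'⟩
  · exact absurd h hx0
  · have := key 64 h
    exact ⟨by omega, fun _ => by omega⟩
  · have := key 16 h
    exact ⟨by omega, fun hn => absurd h' hn⟩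

theorem ann_pair {x y : ℕ} (hx : x < 512) (hy : y < 512) (hx0 : x ≠ 0) (hy0 : y ≠ 0) (hxy : x ≠ y) :
    (annSet x ∩ annSet y).card ≤ 8 := by
  by_cases h1 : x ∈ Tab.rankOne
  · by_cases h2 : y ∈ Tab.rankOne
    · have h3 : x ^^^ y ∉ Tab.rankOne := by
        have hs := Chk.rank_one
        simp only [List.all_eq_true, Bool.not_eq_true'] at hs
        intro hm
        have h5 := List.contains_iff_mem.mpr hm
        have h6 : Tab.rankOne.contains (x ^^^ y) = false := hs x h1 y h2
        rw [h5] at h6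
        exact absurd h6 (by decide)
      have h4 : x ^^^ y ≠ 0 := fun h => hxy (Nat.xor_eq_zero_iff.mp h)
      refine le_trans (Finset.card_le_card fun h hh => ?_)
        ((ann_bound (Nat.xor_lt_two_pow (n := 9) hx hy) h4).2 h3)
      simp only [annSet, Finset.mem_inter, Finset.mem_filter] at hh ⊢
      refine ⟨hh.1.1, ?_⟩
      rw [show cr h (x ^^^ y) = cr h x ^^^ cr h y from lin_cr_right h x y, hh.1.2, hh.2.2, Nat.xor_self]
    · exact le_trans (Finset.card_le_card Finset.inter_subset_right) ((ann_bound hy hy0).2 h2)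
  · exact le_trans (Finset.card_le_card Finset.inter_subset_left) ((ann_bound hx hx0).2 h1)

/-- the annihilator of a set of forms -/
def annOf (S : Finset ℕ) : Finset ℕ := (Finset.range (2 ^ 9)).filter fun x => ∀ s ∈ S, cr s x = 0

/-- the forms orthogonal to a set of forms -/
def perpOf (S : Finset ℕ) : Finset ℕ := (Finset.range (2 ^ 9)).filter fun y => ∀ s ∈ S, dot s y = 0

theorem exists_two {S : Finset ℕ} (h : 2 < S.card) : ∃ x ∈ S, ∃ y ∈ S, x ≠ 0 ∧ y ≠ 0 ∧ x ≠ y := by
  have h1 : 1 < (S.erase 0).card := by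
    have := Finset.pred_card_le_card_erase (a := 0) (s := S)
    omega
  obtain ⟨x, hx, y, hy, hxy⟩ := Finset.one_lt_card.mp h1
  rw [Finset.mem_erase] at hx hy
  exact ⟨x, hx.2, y, hy.2, hx.1, hy.1, hxy⟩

theorem annOf_le {S : Finset ℕ} (hS : S ⊆ Finset.range (2 ^ 9)) : (annOf S).card ≤ annBound S.card := by
  have hsym : ∀ s ∈ S, ∀ x, x ∈ annOf S → s ∈ annSet x ∧ x ∈ annSet s := fun s hs x hx => by
    simp only [annOf, annSet, Finset.mem_filter] at hx ⊢
    have h1 := hx.2 s hs
    refine ⟨⟨hS hs, h1⟩, ⟨hx.1, ?_⟩⟩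
    rw [cr_symm (Finset.mem_range.mp hx.1) (Finset.mem_range.mp (hS hs)), h1]
  have hlt : ∀ x ∈ annOf S, x < 512 := fun x hx => Finset.mem_range.mp (Finset.mem_filter.mp hx).1
  have hltS : ∀ s ∈ S, s < 512 := fun s hs => Finset.mem_range.mp (hS hs)
  unfold annBound
  split_ifs with h1 h2 h3 h4
  · exact le_trans (Finset.card_le_card (Finset.filter_subset _ _)) (by simp)
  · obtain ⟨s, hs, hs0⟩ : ∃ s ∈ S, s ≠ 0 := Finset.exists_mem_ne (by omega) 0
    exact le_trans (Finset.card_le_card fun x hx => (hsym s hs x hx).2) (ann_bound (hltS s hs) hs0).1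
  · obtain ⟨s, hs, t, ht, hs0, ht0, hst⟩ := exists_two (S := S) (by omega)
    exact le_trans (Finset.card_le_card fun x hx => Finset.mem_inter.mpr ⟨(hsym s hs x hx).2, (hsym t ht x hx).2⟩)
      (ann_pair (hltS s hs) (hltS t ht) hs0 ht0 hst)
  · by_contra hc
    obtain ⟨x, hx, y, hy, hx0, hy0, hxy⟩ := exists_two (S := annOf S) (by omega)
    have := le_trans (Finset.card_le_card fun s hs => Finset.mem_inter.mpr ⟨(hsym s hs x hx).1, (hsym s hs y hy).1⟩)
      (ann_pair (hlt x hx) (hlt y hy) hx0 hy0 hxy)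
    omega
  · by_contra hc
    obtain ⟨x, hx, hx0⟩ : ∃ x ∈ annOf S, x ≠ 0 := Finset.exists_mem_ne (by omega) 0
    have := le_trans (Finset.card_le_card fun s hs => (hsym s hs x hx).1) (ann_bound (hlt x hx) hx0).1
    omega

theorem perp_card {S : Finset ℕ} (hS : S ⊆ Finset.range (2 ^ 9)) (hC : FClosed S) :
    (perpOf S).card * S.card = 512 := by
  classical
  set χ : ℕ → ℕ → ℤ := fun s y => if dot s y = 0 then 1 else -1 with hχ
  have hchi : ∀ p : ℕ, ∀ q : ℕ, p < 2 → q < 2 →
      (if p ^^^ q = 0 then (1 : ℤ) else -1) = (if p = 0 then 1 else -1) * (if q = 0 then 1 else -1) := by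
    intro p q hp hq
    interval_cases p <;> interval_cases q <;> rfl
  have hzero : ∀ (T : Finset ℕ) (g : ℕ → ℤ) (t₀ : ℕ), FClosed T → t₀ ∈ T →
      (∀ t, g (t₀ ^^^ t) = -g t) → ∑ t ∈ T, g t = 0 := by
    intro T g t₀ hT ht₀ hg
    have h : ∑ t ∈ T, g t = ∑ t ∈ T, -g t :=
      Finset.sum_nbij' (fun t => t₀ ^^^ t) (fun t => t₀ ^^^ t) (fun t ht => hT.add _ ht₀ t ht)
        (fun t ht => hT.add _ ht₀ t ht) (fun t _ => xor_self_left _ _) (fun t _ => xor_self_left _ _)
        (fun t _ => by rw [hg, neg_neg])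
    rw [Finset.sum_neg_distrib] at h
    omega
  have hrow : ∀ y ∈ Finset.range (2 ^ 9), ∑ s ∈ S, χ s y = if y ∈ perpOf S then (S.card : ℤ) else 0 := by
    intro y hy
    split
    · rename_i h
      have h' := (Finset.mem_filter.mp h).2
      rw [Finset.sum_congr rfl (fun s hs => if_pos (h' s hs))]
      simp
    · rename_i h
      have : ∃ s ∈ S, dot s y ≠ 0 := by
        by_contra hc
        push Not at hc
        exact h (Finset.mem_filter.mpr ⟨hy, hc⟩)
      obtain ⟨s₀, hs₀, hd⟩ := this
      refine hzero S _ s₀ hC hs₀ fun s => ?_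
      show χ (s₀ ^^^ s) y = -χ s y
      simp only [hχ, show dot (s₀ ^^^ s) y = dot s₀ y ^^^ dot s y from lin_dot_left y s₀ s]
      rw [hchi _ _ (dot_le _ _) (dot_le _ _), if_neg hd]
      ring
  have hcol : ∀ s ∈ S, ∑ y ∈ Finset.range (2 ^ 9), χ s y = if s = 0 then 512 else 0 := by
    intro s hs
    split
    · rename_i h
      subst h
      rw [Finset.sum_congr rfl (fun y _ => if_pos ((lin_dot_left y).zero))]
      simp
    · rename_i h
      obtain ⟨i, hi⟩ := Nat.exists_testBit_of_ne_zero h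
      have hi9 : i < 9 := by
        by_contra hc
        rw [Nat.testBit_lt_two_pow (lt_of_lt_of_le (Finset.mem_range.mp (hS hs))
          (Nat.pow_le_pow_right (by norm_num) (by omega)))] at hi
        exact absurd hi (by decide)
      have hd : dot s (2 ^ i) = 1 := by
        have e : ∀ i < 9, app [1, 1, 1, 1, 1, 1, 1, 1, 1] (2 ^ i) = 1 := by decide +kernel
        have h2 : s &&& 2 ^ i = 2 ^ i := by rw [Nat.and_two_pow, hi]; simp
        unfold dot
        rw [h2, e i hi9]
      refine hzero _ _ (2 ^ i) (FClosed.range 9) (Finset.mem_range.mpr (Nat.pow_lt_pow_right (by norm_num) hi9))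
        fun y => ?_
      show χ s (2 ^ i ^^^ y) = -χ s y
      simp only [hχ, show dot s (2 ^ i ^^^ y) = dot s (2 ^ i) ^^^ dot s y from lin_dot_right s _ _]
      rw [hchi _ _ (dot_le _ _) (dot_le _ _), hd]
      simp only [one_ne_zero, if_false]
      ring
  have h1 := Finset.sum_comm (s := Finset.range (2 ^ 9)) (t := S) (f := fun y s => χ s y)
  rw [Finset.sum_congr rfl hrow, Finset.sum_congr rfl hcol, Finset.sum_ite_eq' S 0 fun _ => (512 : ℤ),
    if_pos hC.zero, ← Finset.sum_filter] at h1
  rw [Finset.sum_const, show (Finset.range (2 ^ 9)).filter (fun y => y ∈ perpOf S) = perpOf S from by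
    ext y; simp only [perpOf, Finset.mem_filter]; tauto, nsmul_eq_mul] at h1
  exact_mod_cast h1

/-- a configuration: translations `S`, unipotent elements `U`, common fixed vectors `C` -/
structure Conf (S U C : Finset ℕ) : Prop where
  S_lt : S ⊆ Finset.range (2 ^ 9)
  S_cl : FClosed S
  U_cl : FClosed U
  U_mem : ∃ t, ∀ a ∈ U, a ∈ spanL (eBasis t)
  C_lt : C ⊆ Finset.range (2 ^ 20)
  C_cl : FClosed C
  fixS : ∀ s ∈ S, ∀ v ∈ C, app (rM s) v = v
  fixU : ∀ a ∈ U, ∃ h, h < 2 ^ 9 ∧ ∀ v ∈ C, app (rM h) (app (uM a) v) = v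
  commute : ∀ a ∈ U, ∀ s ∈ S, actJ a s = s

theorem eBasis_lt {t : Bool} {a : ℕ} (h : a ∈ spanL (eBasis t)) : a < 64 := by
  have e : ∀ t : Bool, (spanL (eBasis t)).all (fun a => decide (a < 64)) = true := by decide +kernel
  have := e t
  simp only [List.all_eq_true, decide_eq_true_eq] at this
  exact this a h

theorem Conf.card_C {S U C : Finset ℕ} (h : Conf S U C) {A Y : Finset ℕ}
    (hA : ∀ v ∈ C, v < 2 ^ 19 → hi v ∈ A) (hY : ∀ v ∈ C, v < 2 ^ 10 → mid v ∈ Y) :
    C.card ≤ (if S.card ≤ 1 then 4 else 2) * A.card * Y.card := by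
  set C₁ := C.filter fun v => topc v = 0 with hC₁
  set C₂ := C₁.filter fun v => hi v = 0 with hC₂
  have c1 : FClosed C₁ := h.C_cl.filter lin_top
  have c2 : FClosed C₂ := c1.filter lin_hi
  have l1 : ∀ v ∈ C₁, v < 2 ^ 19 := fun v hv => by
    have := (Finset.mem_filter.mp hv).2
    unfold topc at this
    omega
  have l2 : ∀ v ∈ C₂, v < 2 ^ 10 := fun v hv => by
    have := (Finset.mem_filter.mp hv).2
    unfold hi at this
    omega
  have h3 : (C₂.filter fun v => mid v = 0).card ≤ 2 := by
    refine le_trans (Finset.card_le_card (t := Finset.range 2) fun v hv => ?_) (by simp)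
    rw [Finset.mem_filter] at hv
    have h1 := l2 v hv.1
    have h2 := hv.2
    unfold mid at h2
    rw [Finset.mem_range]
    omega
  have h2 : C₂.card ≤ 2 * Y.card := c2.card_le lin_mid h3 (Finset.card_le_card fun w hw => by
    obtain ⟨v, hv, rfl⟩ := Finset.mem_image.mp hw
    exact hY v (Finset.mem_filter.mp (Finset.mem_filter.mp hv).1).1 (l2 v hv))
  have h1 : C₁.card ≤ 2 * Y.card * A.card := c1.card_le lin_hi h2 (Finset.card_le_card fun w hw => by
    obtain ⟨v, hv, rfl⟩ := Finset.mem_image.mp hw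
    exact hA v (Finset.mem_filter.mp hv).1 (l1 v hv))
  split
  · have h0 : (C.image topc).card ≤ 2 := by
      refine le_trans (Finset.card_le_card (t := Finset.range 2) fun w hw => ?_) (by simp)
      obtain ⟨v, hv, rfl⟩ := Finset.mem_image.mp hw
      have := topc_le (Finset.mem_range.mp (h.C_lt hv))
      rw [Finset.mem_range]
      omega
    refine le_trans (h.C_cl.card_le lin_top h1 h0) (le_of_eq ?_)
    ring
  · rename_i hS
    obtain ⟨s, hs, hs0⟩ := Finset.exists_mem_ne (by omega : 1 < S.card) 0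
    have h0 : (C.image topc).card ≤ 1 := by
      refine le_trans (Finset.card_le_card (t := {0}) fun w hw => ?_) (by simp)
      obtain ⟨v, hv, rfl⟩ := Finset.mem_image.mp hw
      have hv20 := Finset.mem_range.mp (h.C_lt hv)
      have e := (rspec (Finset.mem_range.mp (h.S_lt hs))).top v hv20
      rw [h.fixS s hs v hv] at e
      rcases Nat.le_one_iff_eq_zero_or_eq_one.mp (topc_le hv20) with e' | e'
      · simp [e']
      · exfalso
        rw [e', Nat.mul_one] at e
        have := congrArg (fun x => hi v ^^^ x) e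
        simp only [Nat.xor_self, xor_self_left] at this
        exact hs0 this.symm
    refine le_trans (h.C_cl.card_le lin_top h1 h0) (le_of_eq ?_)
    ring

theorem Conf.low_mem {S U C : Finset ℕ} (h : Conf S U C) {v : ℕ} (hv : v ∈ C) :
    (v < 2 ^ 19 → hi v < 2 ^ 9 ∧ (∀ a ∈ U, actJ a (hi v) = hi v) ∧ ∀ s ∈ S, cr s (hi v) = 0) ∧
    (v < 2 ^ 10 → mid v < 2 ^ 9 ∧ (∀ a ∈ U, actY a (mid v) = mid v) ∧ ∀ s ∈ S, dot s (mid v) = 0) := by
  obtain ⟨t, ht⟩ := h.U_mem
  refine ⟨fun hl => ⟨hi_lt hl, fun a ha => ?_, fun s hs => ?_⟩, fun hl => ⟨mid_lt v, fun a ha => ?_, fun s hs => ?_⟩⟩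
  · obtain ⟨k, hk, hfix⟩ := h.fixU a ha
    have hr := rspec hk
    have e : hi (app (rM k) (app (uM a) v)) = hi v := by rw [hfix v hv]
    have hu : hi (app (uM a) v) = actJ a (hi v) := u_top (eBasis_lt (ht a ha)) hl
    have hult : app (uM a) v < 2 ^ 19 := lt_of_hi (n := 9) (by
      rw [hu]
      refine app_lt _ (fun r hr' => ?_) _
      have e2 : (Tab.ujT.all fun M => M.all fun r => decide (r < 2 ^ 9)) = true := by decide +kernel
      simp only [List.all_eq_true, decide_eq_true_eq] at e2
      have hlen : a < Tab.ujT.length := by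
        have : Tab.ujT.length = 64 := by decide +kernel
        exact this ▸ eBasis_lt (ht a ha)
      exact e2 _ (List.getElem_mem hlen) r (by simpa [List.getD_eq_getElem?_getD, hlen] using hr'))
    rw [hr.top _ (by omega), topc_zero hult, Nat.mul_zero, Nat.xor_zero, hu] at e
    exact e
  · have e := (rspec (Finset.mem_range.mp (h.S_lt hs))).middle v hl
    rw [h.fixS s hs v hv] at e
    have := congrArg (fun x => mid v ^^^ x) e
    simpa [xor_self_left] using this.symm
  · obtain ⟨k, hk, hfix⟩ := h.fixU a ha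
    have hr := rspec hk
    have hu := u_low (eBasis_lt (ht a ha)) hl
    have hy : actY a (mid v) < 2 ^ 9 := by
      refine app_lt _ (fun r hr' => ?_) _
      have e2 : (Tab.uyT.all fun M => M.all fun r => decide (r < 2 ^ 9)) = true := by decide +kernel
      simp only [List.all_eq_true, decide_eq_true_eq] at e2
      have hlen : a < Tab.uyT.length := by
        have : Tab.uyT.length = 64 := by decide +kernel
        exact this ▸ eBasis_lt (ht a ha)
      exact e2 _ (List.getElem_mem hlen) r (by simpa [List.getD_eq_getElem?_getD, hlen] using hr')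
    have hul : app (uM a) v < 2 ^ 10 := by
      rw [hu]
      exact Nat.xor_lt_two_pow (by omega) (by omega)
    have e : mid (app (rM k) (app (uM a) v)) = mid v := by rw [hfix v hv]
    rw [hr.middle _ (by omega), hi_zero hul, (lin_cr_right k).zero, Nat.xor_zero, hu, lin_mid] at e
    have e1 : mid (v % 2) = 0 := by
      unfold mid
      omega
    have e2 : mid (2 * actY a (mid v)) = actY a (mid v) := by
      show 2 * actY a (mid v) / 2 ^ 1 % 2 ^ 9 = _
      rw [pow_one, Nat.mul_div_cancel_left _ (by norm_num), Nat.mod_eq_of_lt hy]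
    rwa [e1, e2, Nat.xor_zero] at e
  · have e := (rspec (Finset.mem_range.mp (h.S_lt hs))).low v hl
    rw [h.fixS s hs v hv] at e
    have := congrArg (fun x => v ^^^ x) e
    simpa [xor_self_left] using this.symm

/-- the rank-three forms -/
def rankThreeSet : List ℕ := Tab.rankThree.map Prod.fst

/-- the bound, and in the exceptional cases an element moving ten dimensions -/
def GoodPair (S U : Finset ℕ) : Prop :=
  (∃ s ∈ S, s ∈ rankThreeSet) ∨ (4 ∈ U ∧ ∀ x ∈ Tab.excS, x ∈ S)

theorem rankThreeSet_facts : rankThreeSet.Nodup ∧ rankThreeSet.length = 280 ∧ ∀ x ∈ rankThreeSet, x < 512 := by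
  obtain ⟨h1, h2, h3⟩ := Chk.rank_three
  refine ⟨h2.imp (fun h => h.ne), by simpa [rankThreeSet] using h1, fun x hx => ?_⟩
  simp only [List.all_eq_true, Bool.and_eq_true, decide_eq_true_eq] at h3
  obtain ⟨p, hp, rfl⟩ := List.mem_map.mp hx
  exact (h3 p hp).1.1

theorem Conf.bound_zero {S U C : Finset ℕ} (h : Conf S U C) (hU : U.card = 1) (hS : 1 < S.card) :
    C.card * (4 * (S.card * U.card) ^ 2) < 2 ^ 20 ∨
      (C.card * (2 * (S.card * U.card)) < 2 ^ 20 ∧ 2 ^ 8 ≤ S.card * U.card ∧ GoodPair S U) := by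
  have hc := h.card_C (A := annOf S) (Y := perpOf S)
    (fun v hv hl => Finset.mem_filter.mpr ⟨Finset.mem_range.mpr ((h.low_mem hv).1 hl).1, ((h.low_mem hv).1 hl).2.2⟩)
    (fun v hv hl => Finset.mem_filter.mpr ⟨Finset.mem_range.mpr ((h.low_mem hv).2 hl).1, ((h.low_mem hv).2 hl).2.2⟩)
  rw [if_neg (by omega)] at hc
  have hA := annOf_le h.S_lt
  have hP := perp_card h.S_lt h.S_cl
  obtain ⟨k, hk, hk'⟩ := h.S_cl.card_two_pow h.S_lt
  rw [hU, Nat.mul_one]
  have key : C.card * (2 * S.card) ≤ 2 * annBound S.card * 512 * 2 := by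
    calc C.card * (2 * S.card) ≤ 2 * (annOf S).card * (perpOf S).card * (2 * S.card) := Nat.mul_le_mul_right _ hc
      _ = 2 * (annOf S).card * ((perpOf S).card * S.card) * 2 := by ring
      _ ≤ _ := by rw [hP]; gcongr
  by_cases hk8 : k ≤ 7
  · left
    calc C.card * (4 * S.card ^ 2) = C.card * (2 * S.card) * (2 * S.card) := by ring
      _ ≤ 2 * annBound S.card * 512 * 2 * (2 * S.card) := Nat.mul_le_mul_right _ key
      _ < 2 ^ 20 := by
        rw [hk']
        interval_cases k <;> simp_all [annBound]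
  · right
    refine ⟨lt_of_le_of_lt key (by rw [hk']; interval_cases k <;> simp [annBound]),
      hk' ▸ Nat.pow_le_pow_right (by norm_num) (by omega), Or.inl ?_⟩
    by_contra hc'
    push Not at hc'
    obtain ⟨hn, hl, hlt⟩ := rankThreeSet_facts
    have hd : Disjoint S rankThreeSet.toFinset :=
      Finset.disjoint_left.mpr fun s hs hs' => hc' s hs (List.mem_toFinset.mp hs')
    have hsub : S ∪ rankThreeSet.toFinset ⊆ Finset.range (2 ^ 9) := Finset.union_subset h.S_lt fun x hx =>
      Finset.mem_range.mpr (hlt x (List.mem_toFinset.mp hx))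
    have := Finset.card_le_card hsub
    rw [Finset.card_union_of_disjoint hd, List.toFinset_card_of_nodup hn, hl, hk', Finset.card_range] at this
    have : 2 ^ 8 ≤ 2 ^ k := Nat.pow_le_pow_right (by norm_num) (by omega)
    omega

theorem Conf.bound_levi {S U C : Finset ℕ} (h : Conf S U C) (hU : 1 < U.card) :
    C.card * (4 * (S.card * U.card) ^ 2) < 2 ^ 20 ∨
      (C.card * (2 * (S.card * U.card)) < 2 ^ 20 ∧ 2 ^ 8 ≤ S.card * U.card ∧ GoodPair S U) := by
  classical
  obtain ⟨t, ht⟩ := h.U_mem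
  obtain ⟨W, hW, hWn, hWm⟩ := subsp_complete (eBasis t) (· ∈ U) h.U_cl.zero (fun a b ha hb => h.U_cl.add a ha b hb) ht
  have hWU : W.length = U.card := by
    rw [← List.toFinset_card_of_nodup hWn]
    congr 1
    ext a
    simp [hWm]
  have hok : leviOK W = true := by
    cases t
    · exact List.all_eq_true.mp Chk.levi_two W hW
    · exact List.all_eq_true.mp Chk.levi_one W hW
  unfold leviOK at hok
  rw [if_neg (by omega)] at hok
  simp only [Bool.and_eq_true, List.all_eq_true, List.contains_iff_mem] at hok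
  obtain ⟨hfix, hpairs⟩ := hok
  have hSfix : ∀ s ∈ S, s ∈ fixJ W := fun s hs => List.mem_filter.mpr ⟨List.mem_range.mpr
    (Finset.mem_range.mp (h.S_lt hs)), List.all_eq_true.mpr fun a ha => beq_iff_eq.mpr (h.commute a ((hWm a).mp ha) s hs)⟩
  obtain ⟨T, hT, hTn, hTm⟩ := subsp_complete (basisOf (fixJ W)) (· ∈ S) h.S_cl.zero
    (fun a b ha hb => h.S_cl.add a ha b hb) (fun s hs => hfix s (hSfix s hs))
  have hTS : T.length = S.card := by
    rw [← List.toFinset_card_of_nodup hTn]
    congr 1
    ext a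
    simp [hTm]
  have hp := hpairs T hT
  set A : Finset ℕ := ((fixJ W).filter fun x => T.all fun s => cr s x == 0).toFinset with hAdef
  set Y : Finset ℕ := ((fixY W).filter fun y => T.all fun s => dot s y == 0).toFinset with hYdef
  have hA : ∀ v ∈ C, v < 2 ^ 19 → hi v ∈ A := fun v hv hl => by
    obtain ⟨h1, h2, h3⟩ := (h.low_mem hv).1 hl
    simp only [hAdef, List.mem_toFinset, List.mem_filter, fixJ, List.mem_range, List.all_eq_true, beq_iff_eq]
    exact ⟨⟨h1, fun a ha => h2 a ((hWm a).mp ha)⟩, fun s hs => h3 s ((hTm s).mp hs)⟩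
  have hY : ∀ v ∈ C, v < 2 ^ 10 → mid v ∈ Y := fun v hv hl => by
    obtain ⟨h1, h2, h3⟩ := (h.low_mem hv).2 hl
    simp only [hYdef, List.mem_toFinset, List.mem_filter, fixY, List.mem_range, List.all_eq_true, beq_iff_eq]
    exact ⟨⟨h1, fun a ha => h2 a ((hWm a).mp ha)⟩, fun s hs => h3 s ((hTm s).mp hs)⟩
  have hc := h.card_C hA hY
  have hYle : Y.card ≤ (fixY W).length :=
    le_trans (List.toFinset_card_le _) (List.length_filter_le _ _)
  have hAle : A.card ≤ min (fixJ W).length (annBound S.card) := le_min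
    (le_trans (List.toFinset_card_le _) (List.length_filter_le _ _))
    (le_trans (Finset.card_le_card fun x hx => by
      simp only [hAdef, List.mem_toFinset, List.mem_filter, fixJ, List.mem_range, List.all_eq_true, beq_iff_eq] at hx
      exact Finset.mem_filter.mpr ⟨Finset.mem_range.mpr hx.1.1, fun s hs => hx.2 s ((hTm s).mpr hs)⟩) (annOf_le h.S_lt))
  have hc2 : C.card ≤ exactBound (fixJ W) (fixY W) T := hc.trans (by
    unfold exactBound topFac
    rw [hTS]
    exact Nat.mul_le_mul (Nat.mul_le_mul_left _ (List.toFinset_card_le _)) (List.toFinset_card_le _))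
  have hc1 : C.card ≤ topFac S.card * min (fixJ W).length (annBound S.card) * (fixY W).length :=
    hc.trans (Nat.mul_le_mul (Nat.mul_le_mul_left _ hAle) hYle)
  simp only [pairOK, coarseOK, hTS, hWU, Bool.or_eq_true, Bool.and_eq_true, decide_eq_true_eq] at hp
  rcases hp with hlt | hlt | ⟨hexc, hlt⟩
  · exact Or.inl (lt_of_le_of_lt (Nat.mul_le_mul_right _ hc1) hlt)
  · exact Or.inl (lt_of_le_of_lt (Nat.mul_le_mul_right _ hc2) hlt)
  · simp only [isExc, Bool.and_eq_true, decide_eq_true_eq, List.all_eq_true, List.contains_iff_mem] at hexc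
    obtain ⟨⟨⟨hW16, hW4⟩, hT16⟩, hTexc⟩ := hexc
    refine Or.inr ⟨lt_of_le_of_lt (Nat.mul_le_mul_right _ hc2) hlt, ?_, Or.inr ?_⟩
    · rw [← hTS, ← hWU, hT16, hW16]
      norm_num
    refine ⟨(hWm 4).mp ?_, fun x hx => ?_⟩
    · have hsub : W.toFinset ⊆ (Finset.range 16).image (fun k => 4 * k) := fun a ha => by
        have ha' := List.mem_toFinset.mp ha
        have h64 := eBasis_lt (ht a ((hWm a).mp ha'))
        have h4 := hW4 a ha'
        exact Finset.mem_image.mpr ⟨a / 4, Finset.mem_range.mpr (by omega), by omega⟩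
      have := Finset.eq_of_subset_of_card_le hsub (by
        rw [List.toFinset_card_of_nodup hWn, hW16]; exact le_trans Finset.card_image_le (by simp))
      exact List.mem_toFinset.mp (this ▸ Finset.mem_image.mpr ⟨1, by simp, rfl⟩)
    · have hsub : T.toFinset ⊆ Tab.excS.toFinset := fun a ha =>
        List.mem_toFinset.mpr (hTexc a (List.mem_toFinset.mp ha))
      have := Finset.eq_of_subset_of_card_le hsub (by
        rw [List.toFinset_card_of_nodup hTn, hT16]; exact le_trans (List.toFinset_card_le _) (by decide +kernel))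
      exact (hTm x).mp (List.mem_toFinset.mp (this ▸ List.mem_toFinset.mpr hx))

theorem Conf.bound {S U C : Finset ℕ} (h : Conf S U C) (hne : 1 < S.card * U.card) :
    C.card * (4 * (S.card * U.card) ^ 2) < 2 ^ 20 ∨
      (C.card * (2 * (S.card * U.card)) < 2 ^ 20 ∧ 2 ^ 8 ≤ S.card * U.card ∧ GoodPair S U) := by
  rcases Nat.lt_or_ge 1 U.card with hU | hU
  · exact h.bound_levi hU
  · have hU1 : U.card = 1 := le_antisymm hU (Finset.card_pos.mpr ⟨0, h.U_cl.zero⟩)
    exact h.bound_zero hU1 (by rwa [hU1, Nat.mul_one] at hne)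

end Cfsg.Agent.Lie.USixTwenty
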