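import Cfsg.Agent.Lib.Lie.USixTwenty.Group
import Cfsg.Agent.Lib.Lie.USixTwenty.Count

/-!
The bound on the fixed subgroup of an elementary two-subgroup of `K₀`.
-/

set_option autoImplicit false
set_option maxRecDepth 100000

namespace Cfsg.Agent.Lie.USixTwenty

universe u v

variable {X : Type u} [Group X] {F : Type v} [Field F]

/-- the elements of `A` commuting with a set -/
def Data.fix (D : Data X F) (S : Set X) : Subgroup X := D.A ⊓ Subgroup.centralizer S

theorem Data.mem_fix {D : Data X F} {S : Set X} {x : X} :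
    x ∈ D.fix S ↔ x ∈ D.A ∧ ∀ s ∈ S, s * x = x * s :=
  ⟨fun h => ⟨h.1, Subgroup.mem_centralizer_iff.1 h.2⟩, fun h => ⟨h.1, Subgroup.mem_centralizer_iff.2 h.2⟩⟩

theorem Data.fix_le {D : Data X F} (S : Set X) : D.fix S ≤ D.A := inf_le_left

theorem Data.fix_anti {D : Data X F} {S T : Set X} (h : S ⊆ T) : D.fix T ≤ D.fix S :=
  inf_le_inf_left _ (Subgroup.centralizer_le h)

theorem Data.card_fix_le [Finite X] {D : Data X F} (S : Set X) : Nat.card (D.fix S) ≤ 2 ^ 20 :=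
  D.card ▸ Subgroup.card_le_of_le (Data.fix_le S)

/-- conjugating by an element of the normalizer does not change the size of a fixed subgroup -/
theorem Data.card_fix_conj [Finite X] {D : Data X F} {g : X} (hg : g ∈ D.H) (S T : Set X)
    (hST : ∀ s ∈ S, g * s * g⁻¹ ∈ T) (hTS : ∀ t ∈ T, g⁻¹ * t * g ∈ S) :
    Nat.card (D.fix T) = Nat.card (D.fix S) := by
  refine Nat.card_congr ⟨fun x => ⟨g⁻¹ * x * g, ?_⟩, fun x => ⟨g * x * g⁻¹, ?_⟩, fun x => ?_, fun x => ?_⟩
  · obtain ⟨hA, hc⟩ := Data.mem_fix.1 x.2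
    refine Data.mem_fix.2 ⟨?_, fun s hs => ?_⟩
    · have := Data.conj_mem (D.H.inv_mem hg) hA
      rwa [inv_inv] at this
    · have h1 := hc _ (hST s hs)
      calc s * (g⁻¹ * x * g) = g⁻¹ * (g * s * g⁻¹ * x) * g := by group
        _ = g⁻¹ * x * g * s := by rw [h1]; group
  · obtain ⟨hA, hc⟩ := Data.mem_fix.1 x.2
    refine Data.mem_fix.2 ⟨Data.conj_mem hg hA, fun t ht => ?_⟩
    have h1 := hc _ (hTS t ht)
    calc t * (g * x * g⁻¹) = g * (g⁻¹ * t * g * x) * g⁻¹ := by group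
      _ = g * x * g⁻¹ * t := by rw [h1]; group
  · apply Subtype.ext
    show g * (g⁻¹ * (x : X) * g) * g⁻¹ = x
    group
  · apply Subtype.ext
    show g⁻¹ * (g * (x : X) * g⁻¹) * g = x
    group

/-- all involutions in the coset `A q` commute with an element of order three -/
def Data.Good (D : Data X F) (q : X) : Prop :=
  ∀ z ∈ D.A, z * q * (z * q) = 1 → ∃ y ∈ D.H, orderOf y = 3 ∧ y * (z * q) = z * q * y

theorem Data.Good.conj {D : Data X F} {q g : X} (h : D.Good q) (hg : g ∈ D.H) : D.Good (g * q * g⁻¹) := by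
  intro z hz hzq
  have hz' : g⁻¹ * z * g ∈ D.A := by
    have := Data.conj_mem (D.H.inv_mem hg) hz
    rwa [inv_inv] at this
  obtain ⟨y, hy, ho, hc⟩ := h _ hz' (by
    calc g⁻¹ * z * g * q * (g⁻¹ * z * g * q) = g⁻¹ * (z * (g * q * g⁻¹) * (z * (g * q * g⁻¹))) * g := by group
      _ = 1 := by rw [hzq]; group)
  refine ⟨g * y * g⁻¹, D.H.mul_mem (D.H.mul_mem hg hy) (D.H.inv_mem hg), ?_, ?_⟩
  · exact (orderOf_injective (MulAut.conj g).toMonoidHom (MulAut.conj g).injective y).trans ho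
  · calc g * y * g⁻¹ * (z * (g * q * g⁻¹)) = g * (y * (g⁻¹ * z * g * q)) * g⁻¹ := by group
      _ = z * (g * q * g⁻¹) * (g * y * g⁻¹) := by rw [hc]; group

namespace Coord

variable {D : Data X F} {co : Coord D}

theorem K₀_le_H : D.K₀ ≤ D.H := D.le.trans Data.K_le

theorem Acts.list_eq [Finite X] {g : X} {M N : List ℕ} (hg : co.Acts g M) (hh : co.Acts g N)
    (hM : M.length = 20) (hN : N.length = 20) : M = N :=
  List.ext_getElem (by rw [hM, hN]) fun i h₁ h₂ => by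
    rw [← app_bit _ i h₁, ← app_bit _ i h₂]
    exact hg.app_eq hh (Nat.pow_lt_pow_right (by norm_num) (hM ▸ h₁))

theorem length_uM : ∀ a < 64, (uM a).length = 20 := by decide +kernel

theorem length_wmatrix : ∀ w : List ℕ, (wmatrix w).length = 20
  | [] => by simp [wmatrix, idM]
  | i :: w => by
      show (mmul (amatAt i) (wmatrix w)).length = 20
      simp [mmul, length_wmatrix w]

theorem good_base [Finite X] {h a : ℕ} (hha : (h, a) ∈ [(7, 0), (2, 4), (34, 4)]) :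
    D.Good (co.rG h * co.uG a) := by
  have hw := Chk.good_wit
  simp only [List.all_eq_true, List.any_eq_true, Bool.and_eq_true, beq_iff_eq, decide_eq_true_eq,
    List.mem_range] at hw
  obtain ⟨p, -, ⟨⟨hp1, hp2⟩, hw3⟩, ⟨⟨⟨hqq, hY⟩, hYq⟩, hH⟩, hhom⟩ := hw _ hha
  simp only at hp1 hp2
  rw [hp1, hp2] at hqq hYq hhom
  set H := p.2.2.2 with hHdef
  set Y := wmatrix p.2.2.1 with hYdef
  simp only [isThree, Bool.and_eq_true, bne_iff_ne, beq_iff_eq] at hY
  have ha : a < 64 := by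
    simp only [List.mem_cons, Prod.mk.injEq, List.not_mem_nil, or_false] at hha
    omega
  set q := co.rG h * co.uG a with hq
  have hA : co.Acts q (mmul (rM h) (uM a)) := (acts_rG h).mul (acts_uG ha)
  have hy := acts_el (co := co) hw3
  have hy3 : co.el p.2.2.1 * (co.el p.2.2.1 * co.el p.2.2.1) = 1 :=
    (hy.mul (hy.mul hy)).eq_of (hY.2 ▸ Acts.one)
  have hy1 : co.el p.2.2.1 ≠ 1 := fun e => hY.1 ((e ▸ hy).list_eq Acts.one (length_wmatrix _) (by simp [idM]))
  have hyq : co.el p.2.2.1 * q = q * co.el p.2.2.1 := (hy.mul hA).eq_of (hYq ▸ hA.mul hy)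
  have hq2 : q * q = 1 := (hA.mul hA).eq_of (hqq ▸ Acts.one)
  have hqi : q⁻¹ = q := inv_eq_of_mul_eq_one_right hq2
  intro z hz hzq
  obtain ⟨v, hv, rfl⟩ := co.ψ_surj hz
  have hfix : app (mmul (rM h) (uM a)) v = v := by
    refine co.ψ_inj (hA.lt v) hv ?_
    rw [← hA.conj v hv, hqi]
    have h1 := D.sq _ (co.ψ_mem v)
    calc q * co.ψ v * q = co.ψ v * co.ψ v * (q * co.ψ v * q) := by rw [h1, one_mul]
      _ = co.ψ v * (co.ψ v * q * (co.ψ v * q)) := by group
      _ = co.ψ v := by rw [hzq, mul_one]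
  set M := mmul (rM h) (uM a) with hM
  have hHlt : app H v < 2 ^ 20 := app_lt _ hH v
  have hv' : v = app M (app H v) ^^^ app H v := by
    have hl : Lin fun w => app H (app M w ^^^ w) ^^^ (app M (app H w) ^^^ app H w) :=
      ((lin_mat H).comp ((lin_mat M).xor lin_id)).xor (((lin_mat M).comp (lin_mat H)).xor (lin_mat H))
    have h1 : app H (app M v ^^^ v) ^^^ (app M (app H v) ^^^ app H v) = v :=
      hl.ext lin_id (fun i hi => hhom i hi) v hv
    rw [hfix, Nat.xor_self, app_zero, Nat.zero_xor] at h1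
    exact h1.symm
  set w := co.ψ (app H v) with hw'
  have hz' : co.ψ v * q = w * q * w⁻¹ := by
    have hwi : w⁻¹ = w := inv_eq_of_mul_eq_one_right (D.sq _ (co.ψ_mem _))
    have hm : co.ψ (app M (app H v)) * w = w * co.ψ (app M (app H v)) := Data.comm (co.ψ_mem _) (co.ψ_mem _)
    rw [congrArg co.ψ hv', co.ψ_add, hm, ← hA.conj _ hHlt, hwi]
    show w * (q * w * q⁻¹) * q = w * q * w
    group
  rw [hz']
  have hwH : w ∈ D.H := Data.A_le (co.ψ_mem _)
  refine ⟨w * co.el p.2.2.1 * w⁻¹, D.H.mul_mem (D.H.mul_mem hwH (K₀_le_H hy.mem)) (D.H.inv_mem hwH), ?_, ?_⟩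
  · rw [show w * co.el p.2.2.1 * w⁻¹ = (MulAut.conj w).toMonoidHom (co.el p.2.2.1) from rfl,
      orderOf_injective _ (MulAut.conj w).injective]
    haveI : Fact (Nat.Prime 3) := ⟨Nat.prime_three⟩
    exact orderOf_eq_prime (by rw [pow_succ, pow_two, mul_assoc]; exact hy3) hy1
  · calc w * co.el p.2.2.1 * w⁻¹ * (w * q * w⁻¹) = w * (co.el p.2.2.1 * q) * w⁻¹ := by group
      _ = _ := by rw [hyq]; group

/-- a generator of the Levi complement -/
theorem lG_spec {i : ℕ} (hi : i < 8) : co.el (Tab.lwords.getD i []) ∈ D.K₀ ∧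
    ∀ h, h < 2 ^ 9 → lJ i h < 2 ^ 9 ∧
      co.el (Tab.lwords.getD i []) * co.rG h = co.rG (lJ i h) * co.el (Tab.lwords.getD i []) := by
  have hs := Chk.l_words
  simp only [List.all_eq_true, List.mem_range, Bool.and_eq_true, beq_iff_eq, decide_eq_true_eq] at hs
  obtain ⟨⟨⟨⟨hw, he⟩, -⟩, -⟩, hk⟩ := hs i hi
  have hy := acts_el (co := co) hw
  rw [he] at hy
  refine ⟨hy.mem, fun h hh => bit_ind (n := 9) (P := fun h => lJ i h < 2 ^ 9 ∧
    co.el (Tab.lwords.getD i []) * co.rG h = co.rG (lJ i h) * co.el (Tab.lwords.getD i [])) ?_ ?_ ?_ h hh⟩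
  · rw [show lJ i 0 = 0 from app_zero _, rG_zero, mul_one, one_mul]
    exact ⟨by norm_num, rfl⟩
  · rintro a b - - ⟨ha, ea⟩ ⟨hb, eb⟩
    rw [show lJ i (a ^^^ b) = lJ i a ^^^ lJ i b from app_xor _ a b]
    exact ⟨Nat.xor_lt_two_pow ha hb, by rw [rG_xor, rG_xor, ← mul_assoc, ea, mul_assoc, eb, mul_assoc]⟩
  · intro k hk9
    obtain ⟨⟨⟨-, -⟩, hb⟩, he2⟩ := hk k hk9
    refine ⟨hb, (hy.mul (acts_rG _)).eq ((acts_rG _).mul hy) fun j hj => ?_⟩
    have e : ∀ i < 9, ∀ k < 20, app (rM (2 ^ i)) (2 ^ k) = app (Tab.rmat.getD i []) (2 ^ k) := by decide +kernel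
    rw [app_mmul, (lin_mat _).ext (lin_mat _) (e k hk9) _ (Nat.pow_lt_pow_right (by norm_num) hj),
      ← app_mmul, he2]

theorem good_rankThree [Finite X] {s : ℕ} (hs : s ∈ rankThreeSet) : D.Good (co.rG s) := by
  obtain ⟨-, -, h3⟩ := Chk.rank_three
  simp only [List.all_eq_true, Bool.and_eq_true, decide_eq_true_eq, beq_iff_eq] at h3
  obtain ⟨p, hp, rfl⟩ := List.mem_map.mp hs
  obtain ⟨⟨-, hlt⟩, hfold⟩ := h3 p hp
  have key : ∀ l : List ℕ, (∀ i ∈ l, i < 8) → l.foldr lJ 7 < 2 ^ 9 ∧ D.Good (co.rG (l.foldr lJ 7)) := by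
    intro l
    induction l with
    | nil => exact fun _ => ⟨by norm_num, by
        have := good_base (co := co) (h := 7) (a := 0) (by simp)
        rwa [uG_zero, mul_one] at this⟩
    | cons i l ih =>
      intro hl
      obtain ⟨hb, hg⟩ := ih fun j hj => hl j (List.mem_cons_of_mem _ hj)
      obtain ⟨hm, hspec⟩ := lG_spec (co := co) (hl i List.mem_cons_self)
      obtain ⟨hb', he⟩ := hspec _ hb
      refine ⟨hb', ?_⟩
      show D.Good (co.rG (lJ i _))
      have := hg.conj (K₀_le_H hm)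
      rwa [he, mul_inv_cancel_right] at this
  have := (key p.2 hlt).2
  rwa [hfold] at this

theorem spanL_eBasis {t : Bool} {a : ℕ} (ha : a < 64) (h : if t then a % 4 = 0 else a / 16 = 0) :
    a ∈ spanL (eBasis t) := by
  have he := Chk.e_span
  simp only [List.all_eq_true, List.mem_range, Bool.and_eq_true, List.contains_iff_mem] at he
  cases t
  · simp only [Bool.false_eq_true, if_false] at h
    exact (he a (by omega)).2
  · simp only [if_true] at h
    have := (he (a / 4) (by omega)).1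
    rwa [show 4 * (a / 4) = a by omega] at this

theorem uG_elem [Finite X] {t : Bool} {a b : ℕ} (ha : a < 64) (hb : b < 64)
    (hat : if t then a % 4 = 0 else a / 16 = 0) (hbt : if t then b % 4 = 0 else b / 16 = 0) :
    co.uG a * co.uG b = co.uG (a ^^^ b) := by
  have he := Chk.u_elem
  simp only [List.all_eq_true, List.mem_range, Bool.and_eq_true, beq_iff_eq] at he
  have hlt : a ^^^ b < 64 := Nat.xor_lt_two_pow (n := 6) ha hb
  refine (((acts_uG ha).mul (acts_uG hb)).eq (acts_uG hlt) fun i _ => ?_)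
  cases t
  · simp only [Bool.false_eq_true, if_false] at hat hbt
    rw [(he a (by omega) b (by omega)).2]
    rfl
  · simp only [if_true] at hat hbt
    have := (he (a / 4) (by omega) (b / 4) (by omega)).1
    rw [show 4 * (a / 4) = a by omega, show 4 * (b / 4) = b by omega] at this
    rw [this]
    rfl

/-- the bound for an elementary subgroup of the Sylow subgroup -/
theorem bound_sylow [Finite X] (Q : Subgroup X) (hQ : Q ≤ co.sylTwo) (hsq : ∀ x ∈ Q, x * x = 1) (hne : Q ≠ ⊥) :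
    Nat.card (D.fix (Q : Set X)) * (4 * Nat.card Q ^ 2) < 2 ^ 20 ∨
      (Nat.card (D.fix (Q : Set X)) * (2 * Nat.card Q) < 2 ^ 20 ∧ 2 ^ 8 ≤ Nat.card Q ∧
        ∃ q ∈ Q, q ≠ 1 ∧ D.Good q) := by
  classical
  set S : Finset ℕ := (Finset.range (2 ^ 9)).filter fun h => co.rG h ∈ Q with hS
  set U : Finset ℕ := (Finset.range 64).filter fun a => ∃ h, h < 2 ^ 9 ∧ co.rG h * co.uG a ∈ Q with hU
  set C : Finset ℕ := (Finset.range (2 ^ 20)).filter fun v => co.ψ v ∈ D.fix (Q : Set X) with hC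
  have memS : ∀ {h}, h ∈ S ↔ h < 2 ^ 9 ∧ co.rG h ∈ Q := fun {h} => by simp [hS]
  have memU : ∀ {a}, a ∈ U ↔ a < 64 ∧ ∃ h, h < 2 ^ 9 ∧ co.rG h * co.uG a ∈ Q := fun {a} => by simp [hU]
  have memC : ∀ {v}, v ∈ C ↔ v < 2 ^ 20 ∧ co.ψ v ∈ D.fix (Q : Set X) := fun {v} => by simp [hC]
  have hcomm : ∀ x ∈ Q, ∀ y ∈ Q, x * y = y * x := fun x hx y hy => by
    have h2 := inv_eq_of_mul_eq_one_right (hsq _ (Q.mul_mem hx hy))
    rw [mul_inv_rev, inv_eq_of_mul_eq_one_right (hsq x hx), inv_eq_of_mul_eq_one_right (hsq y hy)] at h2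
    exact h2.symm
  -- the product of two elements in coordinates
  have hprod : ∀ {h h' a a'}, h < 2 ^ 9 → h' < 2 ^ 9 → a < 64 → a' < 64 →
      co.rG h * co.uG a * (co.rG h' * co.uG a') = co.rG (h ^^^ actJ a h') * (co.uG a * co.uG a') := by
    intro h h' a a' hh hh' ha ha'
    obtain ⟨-, e⟩ := uG_conj (co := co) ha hh'
    rw [rG_xor, mul_assoc (co.rG h) (co.uG a), ← mul_assoc (co.uG a), e]
    simp only [mul_assoc]
  have husq : ∀ a ∈ U, co.uG a * co.uG a = 1 := by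
    intro a ha
    obtain ⟨ha64, h, hh, hq⟩ := memU.1 ha
    have h1 := hsq _ hq
    rw [hprod hh hh ha64 ha64] at h1
    obtain ⟨c, hc, ec⟩ := uSet_mul (co := co) ⟨a, ha64, rfl⟩ ⟨a, ha64, rfl⟩
    have hact : actJ a h < 2 ^ 9 := (uG_conj (co := co) ha64 hh).1
    rw [← ec, ← rG_zero (co := co), ← mul_one (co.rG 0), ← uG_zero (co := co)] at h1
    obtain ⟨-, rfl⟩ := pair_inj (Nat.xor_lt_two_pow hh hact) (by norm_num) hc (by norm_num) h1
    rw [← ec, uG_zero]
  have hucomm : ∀ a ∈ U, ∀ b ∈ U, co.uG a * co.uG b = co.uG b * co.uG a := by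
    intro a ha b hb
    obtain ⟨ha64, h, hh, hq⟩ := memU.1 ha
    obtain ⟨hb64, k, hk, hr⟩ := memU.1 hb
    have h1 := hcomm _ hq _ hr
    rw [hprod hh hk ha64 hb64, hprod hk hh hb64 ha64] at h1
    obtain ⟨c, hc, ec⟩ := uSet_mul (co := co) ⟨a, ha64, rfl⟩ ⟨b, hb64, rfl⟩
    obtain ⟨d, hd, ed⟩ := uSet_mul (co := co) ⟨b, hb64, rfl⟩ ⟨a, ha64, rfl⟩
    rw [← ec, ← ed] at h1
    obtain ⟨-, rfl⟩ := pair_inj (Nat.xor_lt_two_pow hh (uG_conj (co := co) ha64 hk).1)
      (Nat.xor_lt_two_pow hk (uG_conj (co := co) hb64 hh).1) hc hd h1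
    rw [← ec, ← ed]
  have hshape : ∀ a ∈ U, a % 4 = 0 ∨ a / 16 = 0 := by
    intro a ha
    have ha64 := (memU.1 ha).1
    have h1 := Chk.u_sq
    simp only [List.all_eq_true, List.mem_range, Bool.or_eq_true, bne_iff_ne, beq_iff_eq] at h1
    rcases h1 a ha64 with (h | h) | h
    · refine absurd ?_ h
      refine Acts.list_eq (g := (1 : X)) (co := co) (husq a ha ▸ (acts_uG ha64).mul (acts_uG ha64)) Acts.one ?_
        (by simp [idM])
      simp [mmul, length_uM a ha64]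
    · exact Or.inl h
    · exact Or.inr h
  obtain ⟨t, ht⟩ : ∃ t : Bool, ∀ a ∈ U, if t then a % 4 = 0 else a / 16 = 0 := by
    by_cases hex : ∃ a ∈ U, a % 4 = 0 ∧ a / 16 ≠ 0
    · obtain ⟨a, ha, ha4, ha16⟩ := hex
      refine ⟨true, fun b hb => ?_⟩
      show b % 4 = 0
      by_contra hb4
      have hb16 : b / 16 = 0 := (hshape b hb).resolve_left hb4
      have h1 := Chk.u_apart
      simp only [List.all_eq_true, List.mem_range] at h1
      have h2 := h1 a (memU.1 ha).1 b (memU.1 hb).1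
      rw [if_pos ⟨ha4, ha16, hb16, hb4⟩, bne_iff_ne] at h2
      refine h2 (Acts.list_eq (g := co.uG a * co.uG b) ((acts_uG (memU.1 ha).1).mul (acts_uG (memU.1 hb).1))
        (hucomm a ha b hb ▸ (acts_uG (memU.1 hb).1).mul (acts_uG (memU.1 ha).1)) ?_ ?_)
      · simp [mmul, length_uM b (memU.1 hb).1]
      · simp [mmul, length_uM a (memU.1 ha).1]
    · refine ⟨false, fun b hb => ?_⟩
      show b / 16 = 0
      rcases hshape b hb with h | h
      · by_contra hb16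
        exact hex ⟨b, hb, h, hb16⟩
      · exact h
  have hSconj : ∀ a ∈ U, ∀ s ∈ S, actJ a s = s := by
    intro a ha s hs
    obtain ⟨ha64, h, hh, hq⟩ := memU.1 ha
    obtain ⟨hs9, hsQ⟩ := memS.1 hs
    obtain ⟨hb, e⟩ := uG_conj (co := co) ha64 hs9
    have h1 := hcomm _ hq _ hsQ
    rw [mul_assoc (co.rG h), e, ← mul_assoc, ← rG_xor, ← mul_assoc (co.rG s), ← rG_xor] at h1
    have h2 := (pair_inj (Nat.xor_lt_two_pow hh hb) (Nat.xor_lt_two_pow hs9 hh) ha64 ha64 h1).1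
    rw [Nat.xor_comm s h] at h2
    exact Nat.xor_right_inj.mp h2
  have hUcl : FClosed U := by
    refine ⟨memU.2 ⟨by norm_num, 0, by norm_num, by rw [rG_zero, uG_zero, mul_one]; exact Q.one_mem⟩, fun a ha b hb => ?_⟩
    obtain ⟨ha64, h, hh, hq⟩ := memU.1 ha
    obtain ⟨hb64, k, hk, hr⟩ := memU.1 hb
    have h1 := Q.mul_mem hq hr
    rw [hprod hh hk ha64 hb64, uG_elem ha64 hb64 (ht a ha) (ht b hb)] at h1
    exact memU.2 ⟨Nat.xor_lt_two_pow (n := 6) ha64 hb64, _, Nat.xor_lt_two_pow hh (uG_conj (co := co) ha64 hk).1, h1⟩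
  have hSlt : S ⊆ Finset.range (2 ^ 9) := Finset.filter_subset _ _
  have hScl : FClosed S := ⟨memS.2 ⟨by norm_num, by rw [rG_zero]; exact Q.one_mem⟩, fun a ha b hb =>
    memS.2 ⟨Nat.xor_lt_two_pow (memS.1 ha).1 (memS.1 hb).1, by
      rw [rG_xor]; exact Q.mul_mem (memS.1 ha).2 (memS.1 hb).2⟩⟩
  have hCcl : FClosed C := ⟨memC.2 ⟨by norm_num, by rw [co.ψ_zero]; exact (D.fix _).one_mem⟩, fun a ha b hb =>
    memC.2 ⟨Nat.xor_lt_two_pow (memC.1 ha).1 (memC.1 hb).1, by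
      rw [co.ψ_add]; exact (D.fix _).mul_mem (memC.1 ha).2 (memC.1 hb).2⟩⟩
  have hfix : ∀ {g M}, co.Acts g M → g ∈ Q → ∀ v ∈ C, app M v = v := by
    intro g M hg hgQ v hv
    obtain ⟨hv20, hvf⟩ := memC.1 hv
    refine co.ψ_inj (hg.lt v) hv20 ?_
    rw [← hg.conj v hv20, (Data.mem_fix.1 hvf).2 g hgQ, mul_inv_cancel_right]
  have hconf : Conf S U C :=
    { S_lt := hSlt
      S_cl := hScl
      U_cl := hUcl
      U_mem := ⟨t, fun a ha => spanL_eBasis (memU.1 ha).1 (ht a ha)⟩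
      C_lt := Finset.filter_subset _ _
      C_cl := hCcl
      fixS := fun s hs => hfix (acts_rG s) (memS.1 hs).2
      fixU := fun a ha => by
        obtain ⟨ha64, h, hh, hq⟩ := memU.1 ha
        refine ⟨h, hh, fun v hv => ?_⟩
        rw [← app_mmul]
        exact hfix ((acts_rG h).mul (acts_uG ha64)) hq v hv
      commute := hSconj }
  -- the counts
  have hCcard : Nat.card (D.fix (Q : Set X)) = C.card := by
    rw [← Nat.card_eq_finsetCard C]
    refine (Nat.card_eq_of_bijective (fun v : C => (⟨co.ψ v.1, (memC.1 v.2).2⟩ : D.fix (Q : Set X))) ⟨?_, ?_⟩).symm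
    · intro v w e
      exact Subtype.ext (co.ψ_inj (memC.1 v.2).1 (memC.1 w.2).1 (congrArg Subtype.val e))
    · rintro ⟨x, hx⟩
      obtain ⟨v, hv, rfl⟩ := co.ψ_surj (Data.fix_le _ hx)
      exact ⟨⟨v, memC.2 ⟨hv, hx⟩⟩, rfl⟩
  choose k hk hkQ using fun a : U => (memU.1 a.2).2
  have hQcard : Nat.card Q = S.card * U.card := by
    let f : S × U → Q := fun p => ⟨co.rG p.1.1 * (co.rG (k p.2) * co.uG p.2.1),
      Q.mul_mem (memS.1 p.1.2).2 (hkQ p.2)⟩
    have hf : Function.Bijective f := by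
      refine ⟨fun p p' e => ?_, fun x => ?_⟩
      · have e1 := congrArg Subtype.val e
        simp only [f, ← mul_assoc, ← rG_xor] at e1
        obtain ⟨e2, e3⟩ := pair_inj (Nat.xor_lt_two_pow (memS.1 p.1.2).1 (hk p.2))
          (Nat.xor_lt_two_pow (memS.1 p'.1.2).1 (hk p'.2)) (memU.1 p.2.2).1 (memU.1 p'.2.2).1 e1
        have e4 : p.2 = p'.2 := Subtype.ext e3
        rw [← e4, Nat.xor_comm p.1.1, Nat.xor_comm p'.1.1] at e2
        exact Prod.ext (Subtype.ext (Nat.xor_right_inj.mp e2)) e4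
      · obtain ⟨h, hh, a, ha, e⟩ := mem_sylTwo.1 (hQ x.2)
        have haU : a ∈ U := memU.2 ⟨ha, h, hh, e ▸ x.2⟩
        have hsS : h ^^^ k ⟨a, haU⟩ ∈ S := memS.2 ⟨Nat.xor_lt_two_pow hh (hk _), by
          have h1 := Q.mul_mem (e ▸ x.2 : co.rG h * co.uG a ∈ Q) (Q.inv_mem (hkQ ⟨a, haU⟩))
          rw [show co.rG h * co.uG a * (co.rG (k ⟨a, haU⟩) * co.uG a)⁻¹ = co.rG h * (co.rG (k ⟨a, haU⟩))⁻¹ by group,
            inv_eq_of_mul_eq_one_right (rG_sq _), ← rG_xor] at h1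
          exact h1⟩
        refine ⟨(⟨_, hsS⟩, ⟨a, haU⟩), Subtype.ext ?_⟩
        show co.rG (h ^^^ _) * (co.rG (k ⟨a, haU⟩) * co.uG a) = _
        rw [← mul_assoc, ← rG_xor, Nat.xor_assoc, Nat.xor_self, Nat.xor_zero, e]
    rw [← Nat.card_eq_of_bijective f hf, Nat.card_prod, Nat.card_eq_finsetCard, Nat.card_eq_finsetCard]
  have hpos : 1 < Nat.card Q := Subgroup.one_lt_card_iff_ne_bot _ |>.2 hne
  rw [hCcard, hQcard]
  rcases hconf.bound (hQcard ▸ hpos) with h | ⟨h, h8, hgood⟩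
  · exact Or.inl h
  · refine Or.inr ⟨h, h8, ?_⟩
    rcases hgood with ⟨s, hs, hs3⟩ | ⟨h4, hexc⟩
    · refine ⟨co.rG s, (memS.1 hs).2, fun e => ?_, good_rankThree hs3⟩
      have h1 := rG_inj (co := co) (memS.1 hs).1 (by norm_num) (e.trans rG_zero.symm)
      have h2 : 0 ∉ rankThreeSet := by decide +kernel
      exact h2 (h1 ▸ hs3)
    · obtain ⟨-, k₀, hk₀, hq⟩ := memU.1 h4
      have h1 := hsq _ hq
      rw [hprod hk₀ hk₀ (by norm_num) (by norm_num), husq 4 h4, mul_one, ← rG_zero (co := co)] at h1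
      have h2 := rG_inj (Nat.xor_lt_two_pow hk₀ (uG_conj (co := co) (by norm_num : 4 < 64) hk₀).1) (by norm_num) h1
      have h3 := Chk.exc
      simp only [List.all_eq_true, List.mem_range, Bool.or_eq_true, bne_iff_ne, List.contains_iff_mem] at h3
      have hgo : ∀ x, x < 2 ^ 9 → k₀ ^^^ x ∈ Tab.excS → co.rG x * co.uG 4 ∈ Q := by
        intro x hx hmem
        have h5 := Q.mul_mem (memS.1 (hexc _ hmem)).2 hq
        rwa [← mul_assoc, ← rG_xor, Nat.xor_comm k₀ x, Nat.xor_assoc, Nat.xor_self, Nat.xor_zero] at h5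
      have hne1 : ∀ x, x < 2 ^ 9 → co.rG x * co.uG 4 ≠ 1 := fun x hx e => by
        rw [← rG_zero (co := co), ← mul_one (co.rG 0), ← uG_zero (co := co)] at e
        exact absurd (pair_inj hx (by norm_num) (by norm_num) (by norm_num) e).2 (by norm_num)
      rcases h3 k₀ (by simpa using hk₀) with (h6 | h6) | h6
      · exact absurd h2 h6
      · exact ⟨_, hgo 2 (by norm_num) h6, hne1 2 (by norm_num), good_base (by simp)⟩
      · exact ⟨_, hgo 34 (by norm_num) h6, hne1 34 (by norm_num), good_base (by simp)⟩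

end Coord

end Cfsg.Agent.Lie.USixTwenty
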