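/-!
Tables of the forty hyperplanes of the diagonal group and of the transpositions acting on them.
-/

set_option autoImplicit false

namespace Cfsg.Agent.Lie.USixTwenty

/-- the coefficient vectors -/
def chTab : List (List Nat) :=
  [[1, 1, 1, 0, 0, 0], [1, 1, 0, 1, 0, 0], [1, 1, 0, 0, 1, 0], [1, 1, 0, 0, 0, 1],
    [1, 0, 1, 1, 0, 0], [1, 0, 1, 0, 1, 0], [1, 0, 1, 0, 0, 1], [1, 0, 0, 1, 1, 0],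
    [1, 0, 0, 1, 0, 1], [1, 0, 0, 0, 1, 1], [0, 0, 0, 0, 1, 2], [0, 0, 0, 1, 0, 2],
    [0, 0, 0, 1, 2, 0], [0, 0, 1, 0, 0, 2], [0, 0, 1, 0, 2, 0], [0, 0, 1, 2, 0, 0],
    [0, 1, 0, 0, 0, 2], [0, 1, 0, 0, 2, 0], [0, 1, 0, 2, 0, 0], [0, 1, 1, 1, 1, 2],
    [0, 1, 1, 1, 2, 1], [0, 1, 1, 2, 1, 1], [0, 1, 2, 0, 0, 0], [0, 1, 2, 1, 1, 1],
    [0, 1, 2, 2, 2, 2], [0, 0, 1, 1, 2, 2], [0, 0, 1, 2, 1, 2], [0, 0, 1, 2, 2, 1],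
    [0, 1, 0, 1, 2, 2], [0, 1, 0, 2, 1, 2], [0, 1, 0, 2, 2, 1], [0, 1, 1, 0, 2, 2],
    [0, 1, 1, 2, 0, 2], [0, 1, 1, 2, 2, 0], [0, 1, 2, 0, 1, 2], [0, 1, 2, 0, 2, 1],
    [0, 1, 2, 1, 0, 2], [0, 1, 2, 1, 2, 0], [0, 1, 2, 2, 0, 1], [0, 1, 2, 2, 1, 0]]

/-- the adjacent transpositions on the indices -/
def trTab : List (List Nat) :=
  [[0, 1, 2, 3, 9, 8, 7, 6, 5, 4, 10, 11, 12, 13, 14, 15, 19, 20, 21, 16, 17, 18, 23, 22, 24, 25, 26, 27, 31, 32, 33, 28, 29, 30, 36, 37, 34, 35, 39, 38],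
    [0, 4, 5, 6, 1, 2, 3, 7, 8, 9, 10, 11, 12, 16, 17, 18, 13, 14, 15, 19, 20, 21, 22, 24, 23, 28, 29, 30, 25, 26, 27, 31, 32, 33, 35, 34, 38, 39, 36, 37],
    [1, 0, 2, 3, 4, 7, 8, 5, 6, 9, 10, 13, 14, 11, 12, 15, 16, 17, 22, 19, 20, 23, 18, 21, 24, 25, 27, 26, 31, 34, 35, 28, 36, 37, 29, 30, 32, 33, 38, 39],
    [0, 2, 1, 3, 5, 4, 6, 7, 9, 8, 11, 10, 12, 13, 15, 14, 16, 18, 17, 19, 21, 20, 22, 23, 24, 26, 25, 27, 29, 28, 30, 32, 31, 33, 36, 38, 34, 39, 35, 37],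
    [0, 1, 3, 2, 4, 6, 5, 8, 7, 9, 10, 12, 11, 14, 13, 15, 17, 16, 18, 20, 19, 21, 22, 23, 24, 25, 27, 26, 28, 30, 29, 31, 33, 32, 35, 34, 37, 36, 39, 38]]

end Cfsg.Agent.Lie.USixTwenty
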