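import Cfsg.Agent.Lib.Lie.USixTwenty.Monomial
import Cfsg.Agent.Lib.Lie.USixTwenty.CharTables
import Mathlib.Algebra.BigOperators.Group.Finset.Basic

/-!
The forty characters of the diagonal group and their finite checks.
-/

set_option autoImplicit false
set_option maxRecDepth 100000

namespace Cfsg.Agent.Lie.USixTwenty

/-- the `c`-th coefficient vector -/
def chv (c : Fin 40) : XV := fun i => ((chTab.getD c.val []).getD i.val 0 : ℕ)

/-- the value of the `c`-th character -/
def chi (c : Fin 40) (x : XV) : ZMod 3 := ∑ i, chv c i * x i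

/-- the exponent vectors of determinant one -/
def evs : Finset XV := Finset.univ.filter ev

/-- the kernel of the `c`-th character -/
def kerc (c : Fin 40) : Finset XV := evs.filter fun x => chi c x = 0

theorem card_evs : Even evs.card = False ∧ ∀ c, ¬ Even (kerc c).card := by
  decide +kernel

/-- vectors separating the characters -/
def sepTab : List (List Nat) :=
  [[0, 2, 1, 1, 1, 1], [0, 2, 2, 2, 2, 1], [0, 2, 2, 2, 1, 2], [0, 2, 2, 1, 2, 2],
    [0, 1, 1, 1, 0, 0], [0, 2, 1, 0, 0, 0], [0, 0, 1, 1, 1, 0], [0, 1, 0, 1, 0, 1],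
    [0, 1, 1, 0, 1, 0], [0, 1, 0, 1, 1, 0], [0, 0, 1, 0, 1, 1], [0, 2, 1, 2, 2, 2],
    [0, 0, 1, 1, 0, 1], [0, 1, 0, 0, 1, 1], [0, 2, 0, 1, 0, 0], [0, 1, 2, 1, 0, 2],
    [0, 0, 1, 0, 0, 2], [0, 1, 1, 0, 0, 1], [0, 1, 1, 2, 2, 0], [0, 0, 0, 1, 2, 0],
    [0, 0, 2, 1, 0, 0], [0, 2, 0, 2, 0, 2], [0, 0, 0, 0, 2, 1], [0, 0, 1, 2, 1, 2]]

/-- the `k`-th separating vector -/
def sepv (k : Fin 24) : XV := fun i => ((sepTab.getD k.val []).getD i.val 0 : ℕ)

theorem sepv_ev : ∀ k, ev (sepv k) := by decide +kernel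

theorem exists_sep_unit : ∀ c : Fin 40, ∃ k, chi c (sepv k) = 1 := by decide +kernel

theorem exists_sep : ∀ c c' : Fin 40, c ≠ c' → ∃ k, chi c (sepv k) = 1 ∧ chi c' (sepv k) = 0 := by
  decide +kernel

theorem exists_unit (c : Fin 40) : ∃ a ∈ evs, chi c a = 1 := by
  obtain ⟨k, hk⟩ := exists_sep_unit c
  exact ⟨_, Finset.mem_filter.2 ⟨Finset.mem_univ _, sepv_ev k⟩, hk⟩

theorem separate (c c' : Fin 40) (h : c ≠ c') : ∃ a ∈ evs, chi c a = 1 ∧ chi c' a = 0 := by
  obtain ⟨k, hk⟩ := exists_sep c c' h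
  exact ⟨_, Finset.mem_filter.2 ⟨Finset.mem_univ _, sepv_ev k⟩, hk⟩

/-- the character test on numbers -/
def chiN (row : List Nat) (a b c d e f : Nat) : Bool :=
  match row with
  | [r0, r1, r2, r3, r4, r5] => decide ((r0 * a + r1 * b + r2 * c + r3 * d + r4 * e + r5 * f) % 3 = 0)
  | _ => false

/-- the parity test on numbers -/
def parN (a b c d e f : Nat) : Bool :=
  !(decide ((a + b + c + d + e + f) % 3 = 0)) ||
    decide ((chTab.countP fun row => chiN row a b c d e f) % 2 = 0 ↔
      (a = b ∧ a = c ∧ a = d ∧ a = e ∧ a = f))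

theorem parN_ok : ((List.range 729).all fun n =>
    parN (n % 3) (n / 3 % 3) (n / 9 % 3) (n / 27 % 3) (n / 81 % 3) (n / 243 % 3)) = true := by decide +kernel

theorem chTab_row : ∀ c : Fin 40, chTab.getD c.val [] =
    [(chTab.getD c.val []).getD 0 0, (chTab.getD c.val []).getD 1 0, (chTab.getD c.val []).getD 2 0,
      (chTab.getD c.val []).getD 3 0, (chTab.getD c.val []).getD 4 0, (chTab.getD c.val []).getD 5 0] := by
  decide +kernel

theorem chi_iff (c : Fin 40) (x : XV) :
    chi c x = 0 ↔ chiN (chTab.getD c.val []) (x 0).val (x 1).val (x 2).val (x 3).val (x 4).val (x 5).val = true := by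
  rw [chTab_row c, chiN, decide_eq_true_eq, ← Nat.dvd_iff_mod_eq_zero, ← ZMod.natCast_eq_zero_iff]
  simp only [chi, chv, Fin.sum_univ_six, Nat.cast_add, Nat.cast_mul, ZMod.natCast_zmod_val]
  rfl

theorem chTab_map : (List.finRange 40).map (fun c : Fin 40 => chTab.getD c.val []) = chTab := by decide +kernel

theorem count_eq (x : XV) : ((Finset.univ : Finset (Fin 40)).filter fun c => chi c x = 0).card =
    chTab.countP fun row => chiN row (x 0).val (x 1).val (x 2).val (x 3).val (x 4).val (x 5).val := by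
  conv_rhs => rw [← chTab_map]
  rw [List.countP_map, Finset.card_def, Finset.filter_val]
  show (Multiset.filter _ (↑(List.finRange 40) : Multiset (Fin 40))).card = _
  rw [Multiset.filter_coe, Multiset.coe_card, ← List.countP_eq_length_filter]
  refine List.countP_congr fun c _ => ?_
  simp only [decide_eq_true_eq, Function.comp_apply]
  exact chi_iff c x

theorem parity (x : XV) (hx : x ∈ evs) :
    Even ((Finset.univ : Finset (Fin 40)).filter fun c => chi c x = 0).card ↔
      x 0 = x 1 ∧ x 0 = x 2 ∧ x 0 = x 3 ∧ x 0 = x 4 ∧ x 0 = x 5 := by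
  have hev : ev x := (Finset.mem_filter.1 hx).2
  rw [count_eq]
  have h0 := ZMod.val_lt (x 0); have h1 := ZMod.val_lt (x 1); have h2 := ZMod.val_lt (x 2)
  have h3 := ZMod.val_lt (x 3); have h4 := ZMod.val_lt (x 4); have h5 := ZMod.val_lt (x 5)
  set n := (x 0).val + 3 * (x 1).val + 9 * (x 2).val + 27 * (x 3).val + 81 * (x 4).val + 243 * (x 5).val with hn
  have h := List.all_eq_true.1 parN_ok n (List.mem_range.2 (by omega))
  rw [show n % 3 = (x 0).val by omega, show n / 3 % 3 = (x 1).val by omega, show n / 9 % 3 = (x 2).val by omega,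
    show n / 27 % 3 = (x 3).val by omega, show n / 81 % 3 = (x 4).val by omega,
    show n / 243 % 3 = (x 5).val by omega] at h
  have hs : ((x 0).val + (x 1).val + (x 2).val + (x 3).val + (x 4).val + (x 5).val) % 3 = 0 := by
    rw [← Nat.dvd_iff_mod_eq_zero, ← ZMod.natCast_eq_zero_iff]
    simp only [Nat.cast_add, ZMod.natCast_zmod_val]
    rw [← Fin.sum_univ_six]
    exact hev
  simp only [parN, hs, decide_true, Bool.not_true, Bool.false_or, decide_eq_true_eq] at h
  rw [Nat.even_iff]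
  have hv : ∀ a b : ZMod 3, a = b ↔ a.val = b.val := fun a b => (ZMod.val_injective 3).eq_iff.symm
  simp only [hv]
  exact h

theorem scalars : evs.filter (fun x => x 0 = x 1 ∧ x 0 = x 2 ∧ x 0 = x 3 ∧ x 0 = x 4 ∧ x 0 = x 5) =
    {fun _ => 0, fun _ => 1, fun _ => 2} := by decide +kernel

theorem scalars_card : ({fun _ => 0, fun _ => 1, fun _ => 2} : Finset XV).card = 3 := by decide +kernel

end Cfsg.Agent.Lie.USixTwenty
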