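import Cfsg.Agent.Lib.Lie.USixTwenty.Defs

/-!
The kernel-checked tables of the model.
-/

set_option autoImplicit false
set_option maxRecDepth 100000
set_option maxHeartbeats 400000

namespace Cfsg.Agent.Lie.USixTwenty.Chk

theorem bas_bound : Tab.bas.all (fun r => decide (r < 2 ^ 20)) = true ∧
    Tab.binv.all (fun r => decide (r < 2 ^ 20)) = true ∧
    Tab.amat.all (fun M => M.all fun r => decide (r < 2 ^ 20)) = true ∧
    genMat.all (fun M => M.all fun r => decide (r < 2 ^ 20)) = true := by decide +kernel

theorem bas_inv : (List.range 20).all (fun i =>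
    app Tab.bas (app Tab.binv (2 ^ i)) == 2 ^ i && app Tab.binv (app Tab.bas (2 ^ i)) == 2 ^ i) = true := by
  decide +kernel

theorem adapt : (List.range 11).all (fun i => (List.range 20).all fun j =>
    app Tab.bas (app (amatAt i) (2 ^ j)) == app (genMat.getD i []) (app Tab.bas (2 ^ j))) = true := by
  decide +kernel

theorem r_words : (List.range 9).all (fun j =>
    wOK (Tab.rwords.getD j []) && wmatrix (Tab.rwords.getD j []) == Tab.rmat.getD j []) = true := by
  decide +kernel

theorem r_comm : Tab.rmat.all (fun A => mmul A A == idM 20 && Tab.rmat.all fun B => mmul A B == mmul B A) = true := by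
  decide +kernel

theorem r_shape : (List.range 9).all (fun j =>
    let M := Tab.rmat.getD j []
    app M 1 == 1 && app M (2 ^ 19) / 1024 == Nat.xor 512 (2 ^ j) && (List.range 9).all fun k =>
      app M (2 ^ (1 + k)) == Nat.xor (2 ^ (1 + k)) (if j = k then 1 else 0) &&
      app M (2 ^ (10 + k)) / 1024 == 2 ^ k &&
      app M (2 ^ (10 + k)) / 2 % 512 == (Tab.crT.getD j []).getD k 0) = true := by decide +kernel

theorem cr_symm : (List.range 9).all (fun j => (List.range 9).all fun k =>
    cr (2 ^ j) (2 ^ k) == cr (2 ^ k) (2 ^ j)) = true := by decide +kernel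

theorem u_words : uM 0 = idM 20 ∧ (List.range 6).all (fun j =>
    wOK (Tab.uwords.getD j []) && wmatrix (Tab.uwords.getD j []) == uM (2 ^ j) &&
      (List.range (2 ^ j)).all fun n => uM (2 ^ j + n) == mmul (uM (2 ^ j)) (uM n)) = true := by decide +kernel

theorem u_shape : (List.range 64).all (fun a =>
    let M := uM a
    app M 1 == 1 && app M (2 ^ 19) == 2 ^ 19 && (List.range 9).all fun k =>
      app M (2 ^ (1 + k)) == 2 * actY a (2 ^ k) && app M (2 ^ (10 + k)) == 1024 * actJ a (2 ^ k) &&
      decide (actY a (2 ^ k) < 512) && decide (actJ a (2 ^ k) < 512)) = true := by decide +kernel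

theorem u_closed : (List.range 64).all (fun a => (List.range 6).all fun j =>
    Tab.umat.contains (mmul (uM a) (uM (2 ^ j)))) = true ∧ Tab.umat.length = 64 := by decide +kernel

theorem u_nodup : (List.range 64).all (fun a => (List.range a).all fun b => uM a != uM b) = true := by
  decide +kernel

theorem u_norm : (List.range 6).all (fun i => (List.range 9).all fun j =>
    mmul (uM (2 ^ i)) (Tab.rmat.getD j []) == mmul (rM (actJ (2 ^ i) (2 ^ j))) (uM (2 ^ i))) = true := by
  decide +kernel

theorem u_sq : (List.range 64).all (fun a =>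
    mmul (uM a) (uM a) != idM 20 || a % 4 == 0 || a / 16 == 0) = true := by decide +kernel

theorem u_elem : (List.range 16).all (fun a => (List.range 16).all fun b =>
    mmul (uM (4 * a)) (uM (4 * b)) == uM (Nat.xor (4 * a) (4 * b)) &&
      mmul (uM a) (uM b) == uM (Nat.xor a b)) = true := by decide +kernel

theorem u_apart : (List.range 64).all (fun a => (List.range 64).all fun b =>
    if a % 4 = 0 ∧ a / 16 ≠ 0 ∧ b / 16 = 0 ∧ b % 4 ≠ 0 then mmul (uM a) (uM b) != mmul (uM b) (uM a) else true)
      = true := by decide +kernel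

theorem e_span : (List.range 16).all (fun a => (spanL (eBasis true)).contains (4 * a) &&
    (spanL (eBasis false)).contains a) = true := by decide +kernel

theorem ann : (List.range 512).all (fun x =>
    x == 0 || (let n := (spanUpto 64 (crM x)).length
      decide (64 ≤ n) || (decide (16 ≤ n) && Tab.rankOne.contains x))) = true := by
  decide +kernel

theorem rank_one : Tab.rankOne.all (fun x => Tab.rankOne.all fun y =>
    !Tab.rankOne.contains (Nat.xor x y)) = true := by decide +kernel

theorem exc : (List.range 512).all (fun h =>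
    Nat.xor h (actJ 4 h) != 0 || Tab.excS.contains (Nat.xor h 2) || Tab.excS.contains (Nat.xor h 34)) = true := by
  decide +kernel

theorem l_words : (List.range 8).all (fun i =>
    wOK (Tab.lwords.getD i []) && wmatrix (Tab.lwords.getD i []) == lM i && app (lM i) 1 == 1 &&
      app (lM i) (2 ^ 19) == 2 ^ 19 && (List.range 9).all fun k =>
      app (lM i) (2 ^ (1 + k)) == 2 * lY i (2 ^ k) && decide (lY i (2 ^ k) < 512) &&
      decide (lJ i (2 ^ k) < 512) &&
      mmul (lM i) (Tab.rmat.getD k []) == mmul (rM (lJ i (2 ^ k))) (lM i)) = true := by decide +kernel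

theorem rank_three : Tab.rankThree.length = 280 ∧
    (Tab.rankThree.map Prod.fst).Pairwise (· < ·) ∧
    Tab.rankThree.all (fun p => decide (p.1 < 512) && p.2.all (fun i => decide (i < 8)) &&
      p.2.foldr lJ 7 == p.1) = true := by decide +kernel

theorem y_paths : (List.range 512).all (fun y =>
    let p := Tab.ypaths.getD y (0, [])
    [0, 1, 3, 7].contains p.1 && p.2.all (fun i => decide (i < 8)) && p.2.foldr lY p.1 == y) = true := by
  decide +kernel

theorem vec_wit : [0, 1, 3, 7].all (fun y => [0, 1].all fun d => Tab.vecWit.any fun p =>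
    p.1 == Nat.xor (Nat.xor (2 ^ 19) (2 * y)) d && wOK p.2.1 && wOK p.2.2 &&
      (let A := wmatrix p.2.1; let B := wmatrix p.2.2
       app A p.1 == p.1 && app B p.1 == p.1 && isThree A && isThree B && mmul A B == mmul B A &&
        B != A && B != mmul A A)) = true := by decide +kernel

theorem good_wit : [(7, 0), (2, 4), (34, 4)].all (fun hu => Tab.goodWit.any fun p =>
    p.1 == hu.1 && p.2.1 == hu.2 && wOK p.2.2.1 &&
      (let q := mmul (rM p.1) (uM p.2.1); let Y := wmatrix p.2.2.1; let H := p.2.2.2
       mmul q q == idM 20 && isThree Y && mmul Y q == mmul q Y && H.all (fun r => decide (r < 2 ^ 20)) &&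
        (List.range 20).all fun i =>
          Nat.xor (app H (Nat.xor (app q (2 ^ i)) (2 ^ i))) (Nat.xor (app q (app H (2 ^ i))) (app H (2 ^ i)))
            == 2 ^ i)) = true := by decide +kernel

theorem mono_gens : [[5], [6], [7], [8], [0, 1], [3, 4]].all (fun w => isThree (wmatrix w)) = true := by
  decide +kernel

theorem odd_wit : wOK Tab.w5 = true ∧ wOK Tab.w7 = true ∧ wOK Tab.w11 = true ∧
    (let M := wmatrix Tab.w5; M != idM 20 && mmul M (mmul (mmul M M) (mmul M M)) == idM 20 &&
      movesAtLeast 32 M) = true ∧
    (let M := wmatrix Tab.w7; let M3 := mmul M (mmul M M)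
     M != idM 20 && mmul M (mmul M3 M3) == idM 20 && movesAtLeast 32 M) = true ∧
    (let M := wmatrix Tab.w11; let M5 := mmul M (mmul (mmul M M) (mmul M M))
     M != idM 20 && mmul M (mmul M5 M5) == idM 20 && movesAtLeast 32 M) = true := by decide +kernel

end Cfsg.Agent.Lie.USixTwenty.Chk
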