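import Cfsg.Agent.Lib.Lie.USixTwenty.Defs

/-!
The kernel-checked tables of the model.
-/

set_option autoImplicit false
set_option maxRecDepth 100000
set_option maxHeartbeats 400000

namespace Cfsg.Agent.Lie.USixTwenty.Chk

theorem mono_e : (List.range 81).all (fun n => (List.range 4).all fun j =>
    (List.range 81).any fun m => mmul (eM n) (amatAt (5 + j)) == eM m) = true := by decide +kernel

theorem mono_p : (List.range 9).all (fun n => [[0, 1], [3, 4]].all fun w =>
    (List.range 9).any fun m => mmul (pM n) (wmatrix w) == pM m) = true := by decide +kernel

theorem mono_pe : (List.range 9).all (fun n => (List.range 4).all fun j =>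
    (List.range 81).any fun m => mmul (pM n) (amatAt (5 + j)) == mmul (eM m) (pM n)) = true := by
  decide +kernel

theorem mono_inj : (List.range 729).all (fun n =>
    let M := mmul (eM (n / 9)) (pM (n % 9))
    n == 0 || (M != idM 20 && (!isThree M || movesAtLeast 128 M))) = true := by decide +kernel


end Cfsg.Agent.Lie.USixTwenty.Chk
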