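import Cfsg.Agent.Lib.Lie.USixTwenty.Setup

/-!
The model of the module: twenty-bit vectors. A bit vector `v` stands for the element of the exterior
cube of the six-dimensional unitary space over the field `{0, 1, w, w + 1}` whose coordinates are
`x S = bit (2 i) + bit (2 i + 1) * w` at the `i`-th three-element subset `S` containing `0` (in
lexicographic order) and the conjugate value at the complement of `S`; the coordinates of the image of
`g` are the determinants of the three-rowed minors of `g` applied to them.

The eleven generators are: the five transpositions `(i, i+1)` of the coordinates, the five diagonal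
matrices with `w, w + 1` in the places `i, i + 1`, and the block
`[[1,1,1],[1,w,w+1],[1,w+1,w]] + 1` on the first three coordinates.
-/

set_option autoImplicit false

namespace Cfsg.Agent.Lie.USixTwenty

universe u v

/-- apply a matrix given by the images of the bits -/
def app : List ℕ → ℕ → ℕ
  | [], _ => 0
  | r :: rs, v => Nat.xor (if Nat.testBit v 0 then r else 0) (app rs (v / 2))

/-- the matrices of the eleven generators -/
def genMat : List (List ℕ) :=
  [[1, 2, 4, 8, 16, 32, 64, 128, 262144, 786432, 65536, 196608, 16384, 49152, 4096, 12288, 1024, 3072, 256, 768],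
    [1, 2, 256, 512, 1024, 2048, 4096, 8192, 4, 8, 16, 32, 64, 128, 16384, 32768, 65536, 131072, 262144, 524288],
    [4, 8, 1, 2, 16, 32, 64, 128, 256, 512, 16384, 32768, 65536, 131072, 1024, 2048, 4096, 8192, 262144, 524288],
    [1, 2, 16, 32, 4, 8, 64, 128, 1024, 2048, 256, 512, 4096, 8192, 16384, 32768, 262144, 524288, 65536, 131072],
    [1, 2, 4, 8, 64, 128, 16, 32, 256, 512, 4096, 8192, 1024, 2048, 65536, 131072, 16384, 32768, 262144, 524288],
    [1, 2, 4, 8, 16, 32, 64, 128, 512, 768, 2048, 3072, 8192, 12288, 32768, 49152, 131072, 196608, 524288, 786432],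
    [1, 2, 8, 12, 32, 48, 128, 192, 768, 256, 3072, 1024, 12288, 4096, 16384, 32768, 65536, 131072, 262144, 524288],
    [2, 3, 12, 4, 16, 32, 64, 128, 256, 512, 2048, 3072, 8192, 12288, 49152, 16384, 196608, 65536, 262144, 524288],
    [1, 2, 8, 12, 48, 16, 64, 128, 512, 768, 3072, 1024, 4096, 8192, 16384, 32768, 131072, 196608, 786432, 262144],
    [1, 2, 4, 8, 32, 48, 192, 64, 256, 512, 2048, 3072, 12288, 4096, 32768, 49152, 196608, 65536, 262144, 524288],
    [1, 2, 262668, 787204, 67632, 199696, 24768, 61504, 262920, 786700, 68640, 197680, 28800, 53440, 20544, 45248, 66576, 134192, 262404, 525068]]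

/-- number of generators -/
abbrev ngen : ℕ := 11

/-- the matrix of the `i`-th generator -/
def gmat (i : Fin ngen) : List ℕ := genMat.getD i.val []

/-- coordinates on the module in which given elements of `K₀` act by the generator matrices -/
structure Coord {X : Type u} [Group X] {F : Type v} [Field F] (D : Data X F) where
  φ : ℕ → X
  k : Fin ngen → X
  mem : ∀ a, a < 2 ^ 20 → φ a ∈ D.A
  surj : ∀ x ∈ D.A, ∃ a, a < 2 ^ 20 ∧ φ a = x
  add : ∀ a b, a < 2 ^ 20 → b < 2 ^ 20 → φ (Nat.xor a b) = φ a * φ b
  k_mem : ∀ i, k i ∈ D.K₀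
  act : ∀ i a, a < 2 ^ 20 → k i * φ a * (k i)⁻¹ = φ (app (gmat i) a)

end Cfsg.Agent.Lie.USixTwenty
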