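import Cfsg.Agent.Lib.Lie.USixTwenty.Planes
import Cfsg.Agent.Lib.Lie.USixTwenty.Model

/-!
Coordinates on the module: a fixed vector in the plane of `{0, 1, 2}` carried around by permutations. The
monomial generators act by the matrices of the model.
-/

set_option autoImplicit false
set_option maxRecDepth 100000

namespace Cfsg.Agent.Lie.USixTwenty

universe u

/-- the product of adjacent transpositions along a word -/
def permOf : List (Fin 5) → Equiv.Perm (Fin 6)
  | [] => 1
  | s :: w => tr s * permOf w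

theorem permOf_append : ∀ a b : List (Fin 5), permOf (a ++ b) = permOf a * permOf b
  | [], b => by rw [List.nil_append, permOf, one_mul]
  | s :: a, b => by rw [List.cons_append, permOf, permOf, permOf_append a b, mul_assoc]

/-- words carrying `{0, 1, 2}` to the ten subsets -/
def toS : List (List (Fin 5)) :=
  [[], [2], [3, 2], [4, 3, 2], [1, 2], [1, 3, 2], [1, 4, 3, 2], [2, 1, 3, 2], [2, 1, 4, 3, 2],
    [3, 2, 1, 4, 3, 2]]

/-- the permutation of the `i`-th plane -/
def piS (i : Fin 10) : Equiv.Perm (Fin 6) := permOf (toS.getD i.val [])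

/-- the word of the exchange of the two halves -/
def tauW : List (Fin 5) := [2, 1, 0, 3, 2, 1, 4, 3, 2]

/-- the stabiliser of the first pair -/
def stabW : List (List (Fin 5)) :=
  [[], [0], [1], [0, 1], [1, 0], [0, 1, 0]].flatMap fun a =>
    [[], [3], [4], [3, 4], [4, 3], [3, 4, 3]].flatMap fun b => [a ++ b, a ++ b ++ tauW]

/-- the diagonal vector seeing the first character as one -/
def a0 : XV := ![1, 0, 0, 2, 0, 0]

theorem a0_spec : ev a0 ∧ chi 0 a0 = 1 := by decide +kernel

variable {M : Type u} [AddCommGroup M] (R : Rep M)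

theorem pm_swap_fix : ∀ s : Fin 5, s ≠ 2 → trIdx s 0 = 0 ∧ chi 0 (a0 ∘ tr s) = 1 := by decide +kernel

theorem tau_fix : (tauW.foldr trIdx 0) = 0 := by decide +kernel

theorem permOf_tau : permOf tauW * permOf tauW = 1 := by decide +kernel

theorem Rep.inP_word {c : Fin 40} {v : M} (hv : R.InP c v) :
    ∀ w : List (Fin 5), R.InP (w.foldr trIdx c) (R.pp (permOf w) v)
  | [] => by rw [permOf, R.pp_one]; exact hv
  | s :: w => by
    rw [permOf, R.pp_mul, List.foldr_cons]
    exact R.inP_pp (Rep.inP_word hv w) s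

theorem Rep.exists_u0 : ∃ u, R.InP 0 u ∧ u ≠ 0 ∧ R.pp (permOf tauW) u = u := by
  obtain ⟨v, hv, hv0⟩ := R.ten_planes 0 (by decide)
  have h1 := R.inP_word hv tauW
  rw [tau_fix] at h1
  by_cases h : R.pp (permOf tauW) v = v
  · exact ⟨v, hv, hv0, h⟩
  · refine ⟨v + R.pp (permOf tauW) v, R.inP_add hv h1, fun e => h ?_, ?_⟩
    · exact (neg_eq_of_add_eq_zero_right e).symm.trans (neg_eq_of_add_eq_zero_right (R.two v))
    · show R.act (pm (permOf tauW)) (v + R.pp (permOf tauW) v) = _
      rw [R.act_add]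
      show R.pp _ v + R.pp _ (R.pp _ v) = _
      rw [← R.pp_mul, permOf_tau, R.pp_one, add_comm]

/-- the fixed vector -/
noncomputable def Rep.u0 : M := R.exists_u0.choose

theorem Rep.u0_mem : R.InP 0 R.u0 := R.exists_u0.choose_spec.1

theorem Rep.u0_ne : R.u0 ≠ 0 := R.exists_u0.choose_spec.2.1

theorem Rep.u0_tau : R.pp (permOf tauW) R.u0 = R.u0 := R.exists_u0.choose_spec.2.2

theorem Rep.u0_swap (s : Fin 5) (hs : s ≠ 2) : R.pp (tr s) R.u0 = R.u0 := by
  obtain ⟨h1, h2⟩ := pm_swap_fix s hs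
  have hsq : ∀ v, R.pp (tr s) (R.pp (tr s) v) = v := fun v => by
    rw [← R.pp_mul, tr, Equiv.swap_mul_self, R.pp_one]
  obtain ⟨ha, hc⟩ := a0_spec
  have hmem := R.inP_pp R.u0_mem s
  rw [h1] at hmem
  -- the image commutes with the scalar, so is one of the three non-zero vectors
  have hcomm : ∀ k : ℕ, R.pp (tr s) (R.dd (k • a0) R.u0) = R.dd (k • a0) (R.pp (tr s) R.u0) := fun k => by
    have hk : ev (k • a0) := by
      show ∑ i, k • a0 i = 0
      rw [← Finset.smul_sum, ha, smul_zero]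
    rw [R.dd_pp hk]
    congr 1
    refine R.dd_congr R.u0_mem hk (ev_comp hk _) ?_
    have e : ∀ y : XV, chi 0 (k • y) = k • chi 0 y := fun y => by
      simp only [chi, Pi.smul_apply, Finset.smul_sum, mul_smul_comm]
    rw [e, show (k • a0) ∘ tr s = k • (a0 ∘ tr s) from rfl, e, h2, hc]
  set f := R.pp (tr s) R.u0 with hf
  have hcases : f = R.u0 ∨ f = R.dd a0 R.u0 ∨ f = R.dd (a0 + a0) R.u0 := by
    obtain ⟨i, hi⟩ := R.plane_four (c := 0) (by decide) R.u0_mem R.u0_ne ha hc hmem
    fin_cases i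
    · exact absurd (R.act_inj (hi.trans (R.act_zero _).symm)) R.u0_ne
    · exact Or.inl hi
    · exact Or.inr (Or.inl hi)
    · exact Or.inr (Or.inr hi)
  have e1 := hcomm 1
  have e2 := hcomm 2
  rw [one_smul] at e1
  rw [two_smul] at e2
  rcases hcases with h | h | h
  · exact h
  · exfalso
    have h3 : R.pp (tr s) f = R.u0 := hsq R.u0
    rw [h, e1, h, ← R.dd_add ha ha] at h3
    exact absurd (R.quad_inj R.u0_mem R.u0_ne ha hc (a₁ := 3) (a₂ := 1) h3) (by decide)
  · exfalso
    have h3 : R.pp (tr s) f = R.u0 := hsq R.u0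
    rw [h, e2, h, ← R.dd_add (ev_add ha ha) (ev_add ha ha),
      show a0 + a0 + (a0 + a0) = a0 by decide +kernel] at h3
    exact absurd (R.quad_inj R.u0_mem R.u0_ne ha hc (a₁ := 2) (a₂ := 1) h3) (by decide)

theorem stabW_letters : ∀ w ∈ stabW, ∃ a, (∀ s ∈ a, s ≠ 2) ∧ (w = a ∨ w = a ++ tauW) := by
  intro w hw
  simp only [stabW, List.mem_flatMap, List.mem_cons, List.not_mem_nil, or_false] at hw
  obtain ⟨a, ha, b, hb, hw⟩ := hw
  refine ⟨a ++ b, ?_, hw⟩
  intro s hs
  have h1 : ∀ a ∈ ([[], [0], [1], [0, 1], [1, 0], [0, 1, 0]] : List (List (Fin 5))), ∀ s ∈ a, s ≠ 2 := by decide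
  have h2 : ∀ b ∈ ([[], [3], [4], [3, 4], [4, 3], [3, 4, 3]] : List (List (Fin 5))), ∀ s ∈ b, s ≠ 2 := by decide
  rcases List.mem_append.1 hs with h | h
  · exact h1 a (by simpa using ha) s h
  · exact h2 b (by simpa using hb) s h

theorem Rep.u0_word : ∀ w : List (Fin 5), (∀ s ∈ w, s ≠ 2) → R.pp (permOf w) R.u0 = R.u0
  | [], _ => R.pp_one _
  | s :: w, h => by
    rw [permOf, R.pp_mul, Rep.u0_word w (fun t ht => h t (List.mem_cons_of_mem _ ht))]
    exact R.u0_swap s (h s List.mem_cons_self)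

theorem Rep.u0_stab {w : List (Fin 5)} (hw : w ∈ stabW) : R.pp (permOf w) R.u0 = R.u0 := by
  obtain ⟨a, ha, rfl | rfl⟩ := stabW_letters w hw
  · exact R.u0_word _ ha
  · rw [permOf_append, R.pp_mul, R.u0_tau, R.u0_word _ ha]

/-- a plane vector: `w ^ k` times the fixed vector, carried to the `i`-th plane -/
noncomputable def Rep.pv (i : Fin 10) (k : ZMod 3) : M := R.pp (piS i) (R.dd (k • a0) R.u0)

/-- the basis -/
noncomputable def Rep.bas (j : ℕ) : M :=
  R.pv ⟨j / 2 % 10, Nat.mod_lt _ (by norm_num)⟩ (j % 2 : ℕ)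

/-- combination along the bits -/
noncomputable def comb : List M → ℕ → M
  | [], _ => 0
  | r :: rs, v => (if Nat.testBit v 0 then r else 0) + comb rs (v / 2)

/-- the coordinate map -/
noncomputable def Rep.ψ (a : ℕ) : M := comb ((List.range 20).map R.bas) a

include R in
theorem Rep.comb_xor : ∀ (l : List M) (a b : ℕ), comb l (Nat.xor a b) = comb l a + comb l b
  | [], _, _ => (add_zero 0).symm
  | r :: rs, a, b => by
    show (if Nat.testBit (a ^^^ b) 0 then r else 0) + comb rs ((a ^^^ b) / 2) = _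
    rw [Nat.testBit_xor, show (a ^^^ b) / 2 = Nat.xor (a / 2) (b / 2) from Nat.xor_div_two, Rep.comb_xor rs]
    simp only [comb]
    cases Nat.testBit a 0 <;> cases Nat.testBit b 0
    · simp
    · simp only [Bool.xor_true, Bool.not_false, if_true, Bool.false_eq_true, if_false]; abel
    · simp only [Bool.xor_false, if_true, Bool.false_eq_true, if_false]; abel
    · simp only [Bool.xor_true, Bool.not_true, if_true, Bool.false_eq_true, if_false]
      rw [add_add_add_comm, R.two]

theorem comb_zero : ∀ l : List M, comb l 0 = 0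
  | [] => rfl
  | r :: rs => by simp [comb, comb_zero rs]

theorem comb_map (f : M →+ M) : ∀ (l : List M) (a : ℕ), f (comb l a) = comb (l.map f) a
  | [], _ => map_zero f
  | r :: rs, a => by
    simp only [comb, List.map_cons, map_add, comb_map f rs]
    cases Nat.testBit a 0 <;> simp

theorem Rep.ψ_xor (a b : ℕ) : R.ψ (Nat.xor a b) = R.ψ a + R.ψ b := R.comb_xor _ a b

theorem Rep.ψ_app : ∀ (L : List ℕ) (a : ℕ), R.ψ (app L a) = comb (L.map R.ψ) a
  | [], _ => comb_zero _
  | r :: rs, a => by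
    simp only [app, List.map_cons, comb]
    rw [R.ψ_xor, Rep.ψ_app rs]
    cases Nat.testBit a 0 <;> simp [Rep.ψ, comb_zero]

/-- an element acts by a matrix -/
def Rep.Acts (g : SU6) (L : List ℕ) : Prop := ∀ a, R.act g (R.ψ a) = R.ψ (app L a)

theorem Rep.acts_of_basis {g : SU6} {L : List ℕ} (hL : L.length = 20)
    (h : ∀ j < 20, R.act g (R.bas j) = R.ψ (L.getD j 0)) : R.Acts g L := by
  intro a
  refine (comb_map (R.ρ g : M →+ M) _ a).trans ?_
  rw [R.ψ_app]
  congr 1
  refine List.ext_getElem (by simp [hL]) fun j h1 h2 => ?_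
  simp only [List.getElem_map, List.getElem_range]
  rw [List.getElem_eq_getD 0]
  exact h j (by simpa using h1)

/-- the code of a plane vector -/
def code (i : Fin 10) (k : ZMod 3) : ℕ :=
  if k = 0 then 2 ^ (2 * i.val) else if k = 1 then 2 ^ (2 * i.val + 1) else 3 * 2 ^ (2 * i.val)

theorem code_app : ∀ (i : Fin 10) (k : ZMod 3), code i k < 2 ^ 20 ∧
    ∀ j < 20, Nat.testBit (code i k) j =
      if j = 2 * i.val then decide (k ≠ 1) else if j = 2 * i.val + 1 then decide (k ≠ 0) else false := by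
  decide +kernel

theorem comb_bits : ∀ (l : List M) (a : ℕ), (∀ j < l.length, Nat.testBit a j = false) → comb l a = 0
  | [], _, _ => rfl
  | r :: rs, a, h => by
    rw [comb, h 0 (by simp), comb_bits rs (a / 2) fun j hj => by
      rw [← Nat.testBit_add_one]; exact h (j + 1) (by simpa using hj)]
    simp

theorem comb_sum : ∀ (l : List M) (a : ℕ),
    comb l a = ∑ j ∈ Finset.range l.length, if Nat.testBit a j then l.getD j 0 else 0
  | [], _ => by simp [comb]
  | r :: rs, a => by
    rw [comb, comb_sum rs, List.length_cons, Finset.sum_range_succ', add_comm]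
    simp [Nat.testBit_add_one]

theorem Rep.ψ_sum (a : ℕ) : R.ψ a = ∑ j ∈ Finset.range 20, if Nat.testBit a j then R.bas j else 0 := by
  rw [Rep.ψ, comb_sum, List.length_map, List.length_range]
  refine Finset.sum_congr rfl fun j hj => ?_
  rw [Finset.mem_range] at hj
  simp [List.getD_eq_getElem?_getD, List.getElem?_map, List.getElem?_range hj]

theorem Rep.ψ_code (i : Fin 10) (k : ZMod 3) : R.ψ (code i k) = R.pv i k := by
  have hi : ∀ b < 2, (⟨(2 * i.val + b) / 2 % 10, Nat.mod_lt _ (by norm_num)⟩ : Fin 10) = i := fun b hb =>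
    Fin.ext (by show (2 * i.val + b) / 2 % 10 = i.val; omega)
  have hb : ∀ b < 2, R.bas (2 * i.val + b) = R.pv i (b : ℕ) := fun b hb => by
    rw [Rep.bas, hi b hb, show (2 * i.val + b) % 2 = b by omega]
  have hi2 := i.isLt
  rw [R.ψ_sum, Finset.sum_congr rfl fun j hj => by rw [(code_app i k).2 j (Finset.mem_range.1 hj)]]
  rw [Finset.sum_eq_add (2 * i.val + 0) (2 * i.val + 1) (by omega)
    (fun j _ hj => by
      obtain ⟨hj1, hj2⟩ := hj
      rw [if_neg (show ¬ j = 2 * i.val by omega), if_neg (show ¬ j = 2 * i.val + 1 by omega)]; simp)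
    (fun h => absurd (Finset.mem_range.2 (by omega)) h) (fun h => absurd (Finset.mem_range.2 (by omega)) h)]
  rw [hb 0 (by norm_num), hb 1 (by norm_num)]
  have hk : k = 0 ∨ k = 1 ∨ k = 2 := by revert k; decide
  rcases hk with rfl | rfl | rfl
  · simp
  · simp
  · simp only [add_zero, if_true, show 2 * i.val + 1 ≠ 2 * i.val by omega, if_false,
      show decide ((2 : ZMod 3) ≠ 1) = true by decide, show decide ((2 : ZMod 3) ≠ 0) = true by decide,
      Nat.cast_zero, Nat.cast_one]
    have hs := R.line_sum R.u0_mem a0_spec.1 a0_spec.2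
    simp only [Rep.pv, zero_smul, one_smul, R.dd_zero, show (2 : ZMod 3) • a0 = a0 + a0 by decide +kernel]
    show R.act _ _ + R.act _ _ = _
    rw [← R.act_add]
    exact congrArg _ ((eq_neg_of_add_eq_zero_left hs).trans (neg_eq_of_add_eq_zero_left (R.two _)))

theorem Rep.dd_u0 {x : XV} (hx : ev x) : R.dd x R.u0 = R.dd (chi 0 x • a0) R.u0 :=
  R.dd_congr R.u0_mem hx (ev_smul a0_spec.1 _) (by rw [chi_smul, a0_spec.2, mul_one])

/-- the normal form of a monomial image of the fixed vector -/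
theorem Rep.mono_vec {σ : Equiv.Perm (Fin 6)} {x : XV} (hx : ev x) {i : Fin 10} {w : List (Fin 5)}
    (hw : w ∈ stabW) (h : σ = piS i * permOf w) :
    R.pp σ (R.dd x R.u0) = R.ψ (code i (chi 0 (x ∘ (permOf w).symm))) := by
  rw [R.ψ_code, Rep.pv, h, R.pp_mul, ← R.dd_u0 (ev_comp hx _)]
  congr 1
  have e : x = (x ∘ (permOf w).symm) ∘ (permOf w) := funext fun j => by simp
  conv_lhs => rw [e]
  rw [← R.dd_pp (ev_comp hx _), R.u0_stab hw]

/-- the generator of a transposition -/
def gS (s : Fin 5) : Fin ngen := ⟨s.val, lt_of_lt_of_le s.isLt (by decide)⟩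

/-- the generator of a diagonal element -/
def gD (s : Fin 5) : Fin ngen := ⟨5 + s.val, lt_of_lt_of_le (Nat.add_lt_add_left s.isLt 5) (by decide)⟩

theorem swap_table : ∀ (s : Fin 5) (i : Fin 10), ∃ i' : Fin 10, ∃ w ∈ stabW, tr s * piS i = piS i' * permOf w ∧
    ∀ b : Fin 2, code i' (chi 0 ((((b.val : ℕ) : ZMod 3) • a0) ∘ (permOf w).symm)) =
      (gmat (gS s)).getD (2 * i.val + b.val) 0 := by
  decide +kernel

/-- the exponent vector of the `s`-th diagonal generator -/
def dgen (s : Fin 5) : XV := fun i => if i = s.castSucc then 1 else if i = s.succ then 2 else 0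

theorem diag_table : ∀ (s : Fin 5) (i : Fin 10) (b : Fin 2), ev (dgen s ∘ piS i + ((b.val : ℕ) : ZMod 3) • a0) ∧
    code i (chi 0 (dgen s ∘ piS i + ((b.val : ℕ) : ZMod 3) • a0)) =
      (gmat (gD s)).getD (2 * i.val + b.val) 0 ∧ ev (dgen s) := by
  decide +kernel

theorem gmat_len : ∀ g : Fin ngen, (gmat g).length = 20 := by decide +kernel

theorem Rep.bas_eq {j : ℕ} (hj : j < 20) :
    ∃ (i : Fin 10) (b : Fin 2), j = 2 * i.val + b.val ∧ R.bas j = R.pv i (b.val : ℕ) :=
  ⟨⟨j / 2 % 10, Nat.mod_lt _ (by norm_num)⟩, ⟨j % 2, Nat.mod_lt _ (by norm_num)⟩,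
    by show j = 2 * (j / 2 % 10) + j % 2; omega, rfl⟩

theorem Rep.acts_swap (s : Fin 5) : R.Acts (pm (tr s)) (gmat (gS s)) := by
  refine R.acts_of_basis (gmat_len _) fun j hj => ?_
  obtain ⟨i, b, rfl, e⟩ := R.bas_eq hj
  obtain ⟨i', w, hw, hp, hb⟩ := swap_table s i
  rw [e, Rep.pv]
  show R.pp (tr s) _ = _
  rw [← R.pp_mul, R.mono_vec (ev_smul a0_spec.1 _) hw hp, hb b]

theorem Rep.acts_diag (s : Fin 5) : R.Acts (dg (dgen s)) (gmat (gD s)) := by
  refine R.acts_of_basis (gmat_len _) fun j hj => ?_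
  obtain ⟨i, b, rfl, e⟩ := R.bas_eq hj
  obtain ⟨h1, h2, h3⟩ := diag_table s i b
  rw [e, Rep.pv]
  show R.dd (dgen s) _ = _
  rw [R.dd_pp h3, ← R.dd_add (ev_comp h3 _) (ev_smul a0_spec.1 _), R.dd_u0 h1, ← h2, R.ψ_code, Rep.pv]

theorem piS_idx : ∀ i : Fin 10, (toS.getD i.val []).foldr trIdx 0 = Fin.castLE (by norm_num) i := by decide +kernel

theorem Rep.pv_mem (i : Fin 10) (k : ZMod 3) : R.InP (Fin.castLE (by norm_num) i) (R.pv i k) := by
  rw [← piS_idx i]
  exact R.inP_word (R.inP_dd R.u0_mem (ev_smul a0_spec.1 k)) _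

/-- the coordinate map is a bijection -/
theorem Rep.ψ_bij : Function.Bijective (fun a : Fin (2 ^ 20) => R.ψ a.val) := by
  haveI : Finite M := Nat.finite_of_card_ne_zero (by rw [R.card]; norm_num)
  refine (Nat.bijective_iff_injective_and_card _).2 ⟨?_, by rw [Nat.card_eq_fintype_card, Fintype.card_fin, R.card]⟩
  intro a a' h
  simp only at h
  have h0 : R.ψ (Nat.xor a.val a'.val) = 0 := by rw [R.ψ_xor, h, R.two]
  set d := Nat.xor a.val a'.val with hd
  have hbits : ∀ j < 20, Nat.testBit d j = false := by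
    intro j hj
    let f : Fin 10 → M := fun i => (if Nat.testBit d (2 * i.val) then R.pv i 0 else 0) +
      (if Nat.testBit d (2 * i.val + 1) then R.pv i 1 else 0)
    have hf : ∀ i, R.InP (Fin.castLE (by norm_num) i) (f i) := fun i => by
      refine R.inP_add ?_ ?_ <;> (split_ifs <;> [exact R.pv_mem i _; exact R.inP_zero _])
    have hsum : ∑ i, f i = 0 := by
      rw [← h0, R.ψ_sum]
      simp only [Fin.sum_univ_succ, Fin.sum_univ_zero, Finset.sum_range_succ, Finset.sum_range_zero]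
      simp [f, Rep.bas]
      abel
    have hle : (10 : ℕ) ≤ 40 := by decide
    have hi : f ⟨j / 2, by omega⟩ = 0 := by
      have h1 := R.pr_combo (Fin.castLE hle) (Fin.castLE_injective hle) f hf ⟨j / 2, by omega⟩
      rw [hsum, R.pr_zero] at h1
      exact h1.symm
    have hne : ∀ k, R.pv ⟨j / 2, by omega⟩ k ≠ 0 := fun k e =>
      R.u0_ne (R.act_inj ((R.act_inj (e.trans (R.act_zero _).symm)).trans (R.act_zero _).symm))
    have h12 : R.pv ⟨j / 2, by omega⟩ 0 + R.pv ⟨j / 2, by omega⟩ 1 ≠ 0 := fun e => by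
      have := (eq_neg_of_add_eq_zero_left e).trans (neg_eq_of_add_eq_zero_left (R.two _))
      have h2 := R.act_inj this
      rw [zero_smul, one_smul, R.dd_zero] at h2
      exact absurd (R.quad_inj R.u0_mem R.u0_ne a0_spec.1 a0_spec.2 (a₁ := 1) (a₂ := 2) h2) (by decide)
    simp only [f] at hi
    rcases Nat.even_or_odd j with ⟨t, rfl⟩ | ⟨t, rfl⟩
    · have e : (t + t) / 2 = t := by omega
      simp only [e] at hi hne h12
      rw [show t + t = 2 * t by omega]
      by_contra hb
      rw [Bool.not_eq_false] at hb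
      rw [hb] at hi
      cases h1 : Nat.testBit d (2 * t + 1) <;> simp [h1] at hi
      · exact hne 0 hi
      · exact h12 hi
    · have e : (2 * t + 1) / 2 = t := by omega
      simp only [e] at hi hne h12
      by_contra hb
      rw [Bool.not_eq_false] at hb
      rw [hb] at hi
      cases h1 : Nat.testBit d (2 * t) <;> simp [h1] at hi
      · exact hne 1 hi
      · exact h12 hi
  have hd0 : d = 0 := Nat.eq_of_testBit_eq fun j => by
    rw [Nat.zero_testBit]
    by_cases hj : j < 20
    · exact hbits j hj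
    · have hlt : d < 2 ^ j := lt_of_lt_of_le (Nat.xor_lt_two_pow a.isLt a'.isLt)
        (Nat.pow_le_pow_right (by norm_num) (by omega))
      exact Nat.testBit_lt_two_pow hlt
  exact Fin.ext (Nat.xor_eq_zero_iff.1 hd0)

end Cfsg.Agent.Lie.USixTwenty
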