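import Cfsg.Agent.Lib.Lie.USixTwenty.Tab

/-!
The functions of the model that the checks and the facts use.
-/

set_option autoImplicit false

namespace Cfsg.Agent.Lie.USixTwenty

/-- the adapted matrix of a generator -/
def amatAt (i : ℕ) : List ℕ := Tab.amat.getD i []

/-- the adapted matrix of a word -/
def wmatrix (w : List ℕ) : List ℕ := w.foldr (fun i M => mmul (amatAt i) M) (idM 20)

/-- all letters are generators -/
def wOK (w : List ℕ) : Bool := w.all fun i => decide (i < 11)

/-- product of matrices selected by the bits of a number -/
def mprod : List (List ℕ) → ℕ → List ℕ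
  | [], _ => idM 20
  | g :: gs, h => if Nat.testBit h 0 then mmul g (mprod gs (h / 2)) else mprod gs (h / 2)

/-- the translation by a hermitian form -/
def rM (h : ℕ) : List ℕ := mprod Tab.rmat h

/-- an element of the unipotent group of the Levi complement -/
def uM (a : ℕ) : List ℕ := Tab.umat.getD a []

/-- its action on hermitian forms -/
def actJ (a h : ℕ) : ℕ := app (Tab.ujT.getD a []) h

/-- its action on dual forms -/
def actY (a y : ℕ) : ℕ := app (Tab.uyT.getD a []) y

/-- generators of the Levi complement -/
def lM (i : ℕ) : List ℕ := Tab.lmat.getD i []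

def lJ (i h : ℕ) : ℕ := app (Tab.ljT.getD i []) h

def lY (i y : ℕ) : ℕ := app (Tab.lyT.getD i []) y

/-- the polar of the adjugate -/
def crM (x : ℕ) : List ℕ := Tab.crT.map fun r => app r x

def cr (h x : ℕ) : ℕ := app (crM x) h

/-- the trace pairing -/
def dot (h y : ℕ) : ℕ := app [1, 1, 1, 1, 1, 1, 1, 1, 1] (h &&& y)

/-- a spanning list of the image, stopping at a given size -/
def spanUpto (bound : ℕ) : List ℕ → List ℕ
  | [] => [0]
  | r :: rs =>
    let s := spanUpto bound rs
    if bound ≤ s.length then s else ext1 r s

/-- greedy spanning set of the image of `M + 1`, stopping at a given size -/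
def imgs (bound : ℕ) (M : List ℕ) : List ℕ → List ℕ
  | [] => [0]
  | i :: is =>
    let s := imgs bound M is
    if bound ≤ s.length then s else ext1 (Nat.xor (app M (2 ^ i)) (2 ^ i)) s

/-- `M + 1` has image of size at least `bound` -/
def movesAtLeast (bound : ℕ) (M : List ℕ) : Bool :=
  decide (bound ≤ (imgs bound M (List.range 20)).length)

/-- order three -/
def isThree (M : List ℕ) : Bool := M != idM 20 && mmul M (mmul M M) == idM 20

/-- the first elementary group of the Levi complement -/
def eBasis (t : Bool) : List ℕ := if t then [4, 8, 16, 32] else [1, 2, 4, 8]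

/-- a greedy basis -/
def basisOf : List ℕ → List ℕ
  | [] => []
  | x :: xs => let b := basisOf xs; if x ∈ spanL b then b else x :: b

/-- forms fixed by a set of unipotent elements -/
def fixJ (U : List ℕ) : List ℕ := (List.range 512).filter fun h => U.all fun a => actJ a h == h

def fixY (U : List ℕ) : List ℕ := (List.range 512).filter fun y => U.all fun a => actY a y == y

/-- a bound for the annihilator of a subspace of given size -/
def annBound (n : ℕ) : ℕ :=
  if n ≤ 1 then 512 else if n ≤ 2 then 32 else if n ≤ 8 then 8 else if n ≤ 32 then 2 else 1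

/-- the exceptional pair -/
def isExc (U S : List ℕ) : Bool :=
  decide (U.length = 16) && U.all (fun a => decide (a % 4 = 0)) && decide (S.length = 16) &&
    S.all (fun s => Tab.excS.contains s)

/-- the contribution of the top bit -/
def topFac (n : ℕ) : ℕ := if n ≤ 1 then 4 else 2

/-- the coarse bound suffices -/
def coarseOK (U fJ fY S : List ℕ) : Bool :=
  decide (topFac S.length * min fJ.length (annBound S.length) * fY.length *
    (4 * (S.length * U.length) ^ 2) < 2 ^ 20)

/-- a bound for the fixed vectors from the exact annihilators -/
def exactBound (fJ fY S : List ℕ) : ℕ :=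
  topFac S.length * (fJ.filter fun x => S.all fun s => cr s x == 0).length *
    (fY.filter fun y => S.all fun s => dot s y == 0).length

/-- the verification for one pair of subspaces -/
def pairOK (U fJ fY S : List ℕ) : Bool :=
  coarseOK U fJ fY S ||
    (let e := exactBound fJ fY S
     decide (e * (4 * (S.length * U.length) ^ 2) < 2 ^ 20) ||
       (isExc U S && decide (e * (2 * (S.length * U.length)) < 2 ^ 20)))

/-- the verification for one subspace of the Levi part -/
def leviOK (U : List ℕ) : Bool :=
  if U.length ≤ 1 then true else
    let fJ := fixJ U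
    let fY := fixY U
    let bs := basisOf fJ
    let L := spanL bs
    fJ.all (fun h => L.contains h) && (subsp bs).all fun S => pairOK U fJ fY S

/-- base-three products of powers of given matrices -/
def tprod : List (List ℕ) → ℕ → List ℕ
  | [], _ => idM 20
  | g :: gs, n =>
    if n % 3 = 0 then tprod gs (n / 3) else
      if n % 3 = 1 then mmul g (tprod gs (n / 3)) else mmul g (mmul g (tprod gs (n / 3)))

/-- the diagonal group of order 81 -/
def eM (n : ℕ) : List ℕ := tprod ([5, 6, 7, 8].map amatAt) n

/-- the permutation group of order 9 -/
def pM (n : ℕ) : List ℕ := tprod ([[0, 1], [3, 4]].map wmatrix) n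

end Cfsg.Agent.Lie.USixTwenty
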