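import Cfsg.Agent.Lib.Lie.USixTwenty.Bound

/-!
Elementary subgroups of the normalizer and orbits of pointwise stabilisers, given lower bounds for the
vectors moved by single elements.
-/

set_option autoImplicit false

namespace Cfsg.Agent.Lie.USixTwenty

universe u v

variable {X : Type u} [Group X] [Finite X] {F : Type v} [Field F]

/-- the two bounds for single elements -/
structure Data.MoveFact (D : Data X F) : Prop where
  prime : ∀ g ∈ D.K₀, (orderOf g).Prime → Nat.card (D.fix {g}) * 32 ≤ 2 ^ 20 ∧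
    (orderOf g = 3 → Nat.card (D.fix {g}) * 128 ≤ 2 ^ 20)
  single : ∀ k ∈ D.K, k ≠ 1 → Nat.card (D.fix {k}) * 4 < 2 ^ 20

variable {D : Data X F}

omit [Finite X] in
theorem Data.proj_unique {a a' k k' : X} (ha : a ∈ D.A) (ha' : a' ∈ D.A) (hk : k ∈ D.K) (hk' : k' ∈ D.K)
    (e : a * k = a' * k') : k = k' := by
  have h1 : a'⁻¹ * a = k' * k⁻¹ := by
    rw [eq_mul_inv_iff_mul_eq, mul_assoc, e, inv_mul_cancel_left]
  have h2 : k' * k⁻¹ ∈ D.A ⊓ D.K :=
    ⟨h1 ▸ D.A.mul_mem (D.A.inv_mem ha') ha, D.K.mul_mem hk' (D.K.inv_mem hk)⟩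
  rw [D.inf, Subgroup.mem_bot, mul_inv_eq_one] at h2
  exact h2.symm

/-- the projection of the normalizer onto the complement -/
theorem Data.exists_proj (D : Data X F) : ∃ π : D.H →* X, ∀ x : D.H, π x ∈ D.K ∧ (x : X) * (π x)⁻¹ ∈ D.A := by
  choose a ha k hk e using fun x : D.H => Data.exists_mul x.2
  refine ⟨MonoidHom.mk' k fun x y => ?_, fun x => ⟨hk x, ?_⟩⟩
  · refine Data.proj_unique (D := D) (ha (x * y)) (D.A.mul_mem (ha x)
      (Data.conj_mem (Data.K_le (hk x)) (ha y))) (hk _) (D.K.mul_mem (hk x) (hk y)) ?_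
    calc a (x * y) * k (x * y) = ((x * y : D.H) : X) := (e _).symm
      _ = a x * k x * (a y * k y) := by rw [Subgroup.coe_mul, e x, e y]
      _ = _ := by group
  · show (x : X) * (k x)⁻¹ ∈ D.A
    rw [show (x : X) * (k x)⁻¹ = a x by rw [e x, mul_inv_cancel_right]]
    exact ha x

/-- the image in `K` of an elementary subgroup of the normalizer -/
theorem Data.exists_image {R : Subgroup X} (hR : R ≤ D.H) (hsq : ∀ x ∈ R, x * x = 1) :
    ∃ Q : Subgroup X, Q ≤ D.K ∧ (∀ q ∈ Q, q * q = 1) ∧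
      Nat.card R = Nat.card (R ⊓ D.A : Subgroup X) * Nat.card Q ∧
      R ⊓ D.A ≤ D.fix (Q : Set X) ∧ (∀ q ∈ Q, ∃ z ∈ D.A, z * q ∈ R) ∧ (Q = ⊥ → R ≤ D.A) := by
  obtain ⟨π, hπ⟩ := D.exists_proj
  set f : R →* X := π.comp (Subgroup.inclusion hR) with hf
  have hdec : ∀ r : R, f r ∈ D.K ∧ (r : X) * (f r)⁻¹ ∈ D.A := fun r => hπ (Subgroup.inclusion hR r)
  have hker : ∀ r : R, r ∈ f.ker ↔ (r : X) ∈ D.A := fun r => by
    obtain ⟨h1, h2⟩ := hdec r
    rw [MonoidHom.mem_ker]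
    refine ⟨fun h => by rwa [h, inv_one, mul_one] at h2, fun h => ?_⟩
    have h3 : f r ∈ D.A ⊓ D.K := ⟨by
      have := D.A.mul_mem (D.A.inv_mem h2) h
      rwa [mul_inv_rev, inv_inv, mul_assoc, inv_mul_cancel, mul_one] at this, h1⟩
    rwa [D.inf, Subgroup.mem_bot] at h3
  have hlift : ∀ q ∈ f.range, ∃ z ∈ D.A, z * q ∈ R := by
    rintro _ ⟨r, rfl⟩
    exact ⟨_, (hdec r).2, by rw [inv_mul_cancel_right]; exact r.2⟩
  refine ⟨f.range, ?_, ?_, ?_, ?_, hlift, fun h r hr => ?_⟩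
  · rintro _ ⟨r, rfl⟩
    exact (hdec r).1
  · rintro _ ⟨r, rfl⟩
    rw [← map_mul, show r * r = 1 from Subtype.ext (hsq r r.2), map_one]
  · rw [← Subgroup.card_mul_index f.ker, Subgroup.index_ker]
    congr 1
    exact Nat.card_congr ⟨fun r => ⟨r.1.1, r.1.2, (hker r.1).1 r.2⟩, fun x => ⟨⟨x.1, x.2.1⟩, (hker _).2 x.2.2⟩,
      fun r => rfl, fun x => rfl⟩
  · rintro x ⟨hxR, hxA⟩
    refine Data.mem_fix.2 ⟨hxA, fun q hq => ?_⟩
    obtain ⟨z, hz, hzq⟩ := hlift q hq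
    have hcomm : z * q * x = x * (z * q) := by
      have h2 := inv_eq_of_mul_eq_one_right (hsq _ (R.mul_mem hzq hxR))
      rw [mul_inv_rev, inv_eq_of_mul_eq_one_right (hsq _ hzq), inv_eq_of_mul_eq_one_right (hsq x hxR)] at h2
      exact h2.symm
    refine mul_left_cancel (a := z) ?_
    rw [← mul_assoc, ← mul_assoc, hcomm, Data.comm hz hxA, mul_assoc]
  · refine (hker ⟨r, hr⟩).1 (MonoidHom.mem_ker.2 ?_)
    have : f ⟨r, hr⟩ ∈ f.range := ⟨_, rfl⟩
    rwa [h, Subgroup.mem_bot] at this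

variable [Fintype F]

/-- the bound for an elementary subgroup of `K₀` -/
theorem Coord.bound_inner (co : Coord D) (hF : Fintype.card F = 4) (Q : Subgroup X) (hQ : Q ≤ D.K₀)
    (hsq : ∀ x ∈ Q, x * x = 1) (hne : Q ≠ ⊥) :
    Nat.card (D.fix (Q : Set X)) * (4 * Nat.card Q ^ 2) < 2 ^ 20 ∨
      (Nat.card (D.fix (Q : Set X)) * (2 * Nat.card Q) < 2 ^ 20 ∧ ∃ q ∈ Q, q ≠ 1 ∧ D.Good q) := by
  haveI : Fact (Nat.Prime 2) := ⟨Nat.prime_two⟩
  have hp : IsPGroup 2 Q := fun x => ⟨1, by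
    apply Subtype.ext
    simp only [pow_one, pow_two, Subgroup.coe_mul, Subgroup.coe_one]
    exact hsq x x.2⟩
  obtain ⟨g, hg, hgQ⟩ := conj_into (H := D.K₀) (P := co.sylTwo) (n := 15) Coord.sylTwo_le Coord.card_sylTwo
    (by rw [card_K₀ hF]; norm_num) hp hQ
  have hgH : g ∈ D.H := Coord.K₀_le_H hg
  set Q' := Q.map (MulAut.conj g).toMonoidHom with hQ'
  have hQ'le : Q' ≤ co.sylTwo := by
    rintro _ ⟨x, hx, rfl⟩
    exact hgQ x hx
  have hsq' : ∀ x ∈ Q', x * x = 1 := by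
    rintro _ ⟨x, hx, rfl⟩
    rw [← map_mul, hsq x hx, map_one]
  have hne' : Q' ≠ ⊥ := fun e => hne ((Subgroup.map_eq_bot_iff_of_injective _ (MulAut.conj g).injective).1 e)
  have hc : Nat.card (D.fix (Q' : Set X)) = Nat.card (D.fix (Q : Set X)) := by
    refine Data.card_fix_conj hgH _ _ (fun s hs => ⟨s, hs, rfl⟩) ?_
    rintro _ ⟨x, hx, rfl⟩
    show g⁻¹ * (g * x * g⁻¹) * g ∈ Q
    rw [show g⁻¹ * (g * x * g⁻¹) * g = x by group]
    exact hx
  have hn : Nat.card Q' = Nat.card Q := Subgroup.card_map_of_injective (MulAut.conj g).injective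
  rcases Coord.bound_sylow Q' hQ'le hsq' hne' with h | ⟨h, -, q, ⟨x, hx, rfl⟩, hq1, hgood⟩
  · exact Or.inl (by rwa [hc, hn] at h)
  · refine Or.inr ⟨by rwa [hc, hn] at h, x, hx, fun e => hq1 (by rw [e, map_one]), ?_⟩
    have := hgood.conj (D.H.inv_mem hgH)
    rwa [show g⁻¹ * (MulAut.conj g).toMonoidHom x * g⁻¹⁻¹ = x from
      show g⁻¹ * (g * x * g⁻¹) * g⁻¹⁻¹ = x by group] at this

/-- the bound for an elementary subgroup of `K` -/
theorem Coord.bound_all (co : Coord D) (hF : Fintype.card F = 4) (hm : D.MoveFact) (Q : Subgroup X)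
    (hQ : Q ≤ D.K) (hsq : ∀ x ∈ Q, x * x = 1) (hne : Q ≠ ⊥) :
    Nat.card (D.fix (Q : Set X)) * Nat.card Q ^ 2 < 2 ^ 20 ∨
      (Nat.card (D.fix (Q : Set X)) * Nat.card Q < 2 ^ 20 ∧ ∃ q ∈ Q, q ≠ 1 ∧ D.Good q) := by
  set Q₀ := Q ⊓ D.K₀ with hQ₀
  have hn : Nat.card Q ≤ 2 * Nat.card Q₀ := by
    have h1 := Subgroup.relIndex_mul_relIndex (⊥ : Subgroup X) Q₀ Q bot_le inf_le_left
    rw [Subgroup.relIndex_bot_left, Subgroup.relIndex_bot_left, Subgroup.inf_relIndex_left] at h1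
    have h2 : D.K₀.relIndex Q ≤ 2 :=
      (Subgroup.relIndex_le_of_le_right hQ Subgroup.index_ne_zero_of_finite).trans D.index
    rw [← h1, Nat.mul_comm 2]
    exact Nat.mul_le_mul_left _ h2
  by_cases h0 : Q₀ = ⊥
  · left
    obtain ⟨k, hk, hk1⟩ := (Subgroup.bot_or_exists_ne_one Q).resolve_left hne
    have hk2 : Nat.card Q ≤ 2 := by rwa [h0, Subgroup.card_bot, Nat.mul_one] at hn
    have hle : Nat.card (D.fix (Q : Set X)) ≤ Nat.card (D.fix {k}) :=
      Subgroup.card_le_of_le (Data.fix_anti (Set.singleton_subset_iff.2 hk))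
    calc Nat.card (D.fix (Q : Set X)) * Nat.card Q ^ 2 ≤ Nat.card (D.fix {k}) * 2 ^ 2 :=
          Nat.mul_le_mul hle (Nat.pow_le_pow_left hk2 2)
      _ < 2 ^ 20 := hm.single k (hQ hk) hk1
  · have hle : Nat.card (D.fix (Q : Set X)) ≤ Nat.card (D.fix (Q₀ : Set X)) :=
      Subgroup.card_le_of_le (Data.fix_anti fun x hx => hx.1)
    rcases co.bound_inner hF Q₀ inf_le_right (fun x hx => hsq x hx.1) h0 with h | ⟨h, q, hq, hq1, hg⟩
    · left
      refine lt_of_le_of_lt ?_ h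
      calc Nat.card (D.fix (Q : Set X)) * Nat.card Q ^ 2
          ≤ Nat.card (D.fix (Q₀ : Set X)) * (2 * Nat.card Q₀) ^ 2 := Nat.mul_le_mul hle (Nat.pow_le_pow_left hn 2)
        _ = _ := by ring
    · exact Or.inr ⟨lt_of_le_of_lt (Nat.mul_le_mul hle hn) h, q, hq.1, hq1, hg⟩

theorem Coord.weakFact (co : Coord D) (hF : Fintype.card F = 4) (hm : D.MoveFact) : D.WeakFact := by
  intro J hJ hsq hcard
  obtain ⟨Q, hQK, hQsq, hc, hfix, -, hbot⟩ := Data.exists_image hJ hsq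
  by_cases hQ : Q = ⊥
  · exact Subgroup.eq_of_le_of_card_ge (hbot hQ) (by rw [hcard, D.card])
  exfalso
  have hd := Subgroup.card_le_of_le hfix
  have hlt : Nat.card (D.fix (Q : Set X)) * Nat.card Q < 2 ^ 20 := by
    rcases co.bound_all hF hm Q hQK hQsq hQ with h | h
    · refine lt_of_le_of_lt (Nat.mul_le_mul_left _ ?_) h
      exact Nat.le_self_pow two_ne_zero _
    · exact h.1
  have := Nat.mul_le_mul_right (Nat.card Q) hd
  rw [← hc, hcard] at this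
  exact absurd hlt (not_lt.2 this)

theorem Coord.badFact (co : Coord D) (hF : Fintype.card F = 4) (hm : D.MoveFact) : D.BadFact := by
  intro R hR hsq hRA hpure
  obtain ⟨Q, hQK, hQsq, hc, hfix, hlift, hbot⟩ := Data.exists_image hR hsq
  have hQ : Q ≠ ⊥ := fun e => hRA (hbot e)
  rcases co.bound_all hF hm Q hQK hQsq hQ with h | ⟨-, q, hq, hq1, hgood⟩
  · rw [D.card, hc]
    have hd := Subgroup.card_le_of_le hfix
    have hpos : 0 < Nat.card (R ⊓ D.A : Subgroup X) := Nat.card_pos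
    calc (Nat.card (R ⊓ D.A : Subgroup X) * Nat.card Q) ^ 2
        = Nat.card (R ⊓ D.A : Subgroup X) * Nat.card Q ^ 2 * Nat.card (R ⊓ D.A : Subgroup X) := by ring
      _ ≤ Nat.card (D.fix (Q : Set X)) * Nat.card Q ^ 2 * Nat.card (R ⊓ D.A : Subgroup X) := by gcongr
      _ < 2 ^ 20 * Nat.card (R ⊓ D.A : Subgroup X) := Nat.mul_lt_mul_of_pos_right h hpos
  · exfalso
    obtain ⟨z, hz, hzq⟩ := hlift q hq
    have hnA : z * q ∉ D.A := fun h => hq1 (by
      have h3 : q ∈ D.A ⊓ D.K := ⟨by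
        have := D.A.mul_mem (D.A.inv_mem hz) h
        rwa [inv_mul_cancel_left] at this, hQK hq⟩
      rwa [D.inf, Subgroup.mem_bot] at h3)
    obtain ⟨y, hy, ho, hc'⟩ := hgood z hz (hsq _ hzq)
    exact hpure _ hzq hnA y hy ho hc'

theorem orbit_exponent : ∀ m ≤ 20, 0 < m → (2 ^ m - 1) ∣ 2 * 9196830720 →
    m = 1 ∨ ((m = 2 ∨ m = 4 ∨ m = 6) ∧ 3 ∣ 2 ^ m - 1) ∨ m = 3 := by decide +kernel

theorem Coord.orbitFact (co : Coord D) (hF : Fintype.card F = 4) (hm : D.MoveFact) : D.OrbitFact := by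
  intro B hBA ⟨k₁, hk₁, hk₁1, hk₁B⟩
  obtain ⟨a, ha, haB⟩ : ∃ a ∈ D.A, a ∉ B := by
    by_contra hc
    push Not at hc
    exact hk₁1 (D.faithful k₁ hk₁ fun x hx => hk₁B x (hc x hx))
  by_contra hcon
  push Not at hcon
  have hex : ∀ b ∈ D.A, b ∉ B → ∃ k ∈ D.K ⊓ Subgroup.centralizer (B : Set X), b⁻¹ * (k * a * k⁻¹) ∈ B := by
    intro b hb hbB
    obtain ⟨k, hk, hkB, hkb⟩ := hcon a ha b hb haB hbB
    obtain ⟨z, hz, k', hk', rfl⟩ := Data.exists_mul hk
    refine ⟨k', ⟨hk', Subgroup.mem_centralizer_iff.2 fun c hc => ?_⟩, ?_⟩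
    · have h1 := hkB c hc
      refine (mul_left_cancel (a := z) ?_).symm
      rw [← mul_assoc, h1, ← mul_assoc, ← mul_assoc, Data.comm hz (hBA hc)]
    · have h2 : z * k' * a * (z * k')⁻¹ = k' * a * k'⁻¹ := by
        calc z * k' * a * (z * k')⁻¹ = z * (k' * a * k'⁻¹) * z⁻¹ := by group
          _ = k' * a * k'⁻¹ := by
              rw [Data.comm hz (Data.conj_mem (Data.K_le hk') ha), mul_inv_cancel_right]
      rwa [h2] at hkb
  set G := D.K ⊓ Subgroup.centralizer (B : Set X) with hG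
  have hfixB : ∀ k ∈ G, ∀ c ∈ B, k * c * k⁻¹ = c := fun k hk c hc => by
    rw [← (Subgroup.mem_centralizer_iff.1 hk.2) c hc, mul_inv_cancel_right]
  have hGA : ∀ k : G, (k : X) * a * (k : X)⁻¹ ∈ D.A := fun k => Data.conj_mem (Data.K_le k.2.1) ha
  -- the action on the cosets of `B`
  let St : Subgroup G := finSub {k : G | a⁻¹ * ((k : X) * a * (k : X)⁻¹) ∈ B}
    (by
      show a⁻¹ * ((1 : X) * a * (1 : X)⁻¹) ∈ B
      rw [one_mul, inv_one, mul_one, inv_mul_cancel]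
      exact B.one_mem)
    (fun k hk l hl => by
      show a⁻¹ * (((k : X) * l) * a * ((k : X) * l)⁻¹) ∈ B
      have e : a⁻¹ * (((k : X) * l) * a * ((k : X) * l)⁻¹) =
          a⁻¹ * ((k : X) * a * (k : X)⁻¹) * ((k : X) * (a⁻¹ * ((l : X) * a * (l : X)⁻¹)) * (k : X)⁻¹) := by group
      rw [e, hfixB k k.2 _ hl]
      exact B.mul_mem hk hl)
  let mk : G → D.A ⧸ B.subgroupOf D.A := fun k => QuotientGroup.mk (⟨_, hGA k⟩ : D.A)
  have hmk : ∀ k l : G, mk k = mk l ↔ k⁻¹ * l ∈ St := fun k l => by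
    rw [QuotientGroup.eq, Subgroup.mem_subgroupOf]
    show ((k : X) * a * (k : X)⁻¹)⁻¹ * ((l : X) * a * (l : X)⁻¹) ∈ B ↔
      a⁻¹ * ((k : X)⁻¹ * l * a * ((k : X)⁻¹ * l)⁻¹) ∈ B
    have e : ((k : X) * a * (k : X)⁻¹)⁻¹ * ((l : X) * a * (l : X)⁻¹) =
        (k : X) * (a⁻¹ * ((k : X)⁻¹ * l * a * ((k : X)⁻¹ * l)⁻¹)) * (k : X)⁻¹ := by group
    rw [e]
    refine ⟨fun h => ?_, fun h => by rw [hfixB k k.2 _ h]; exact h⟩
    have h1 := hfixB _ (G.inv_mem k.2) _ h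
    rw [show (k : X)⁻¹ * ((k : X) * (a⁻¹ * ((k : X)⁻¹ * l * a * ((k : X)⁻¹ * l)⁻¹)) * (k : X)⁻¹) * (k : X)⁻¹⁻¹ =
      a⁻¹ * ((k : X)⁻¹ * l * a * ((k : X)⁻¹ * l)⁻¹) by group] at h1
    exact h1.symm ▸ h
  set e₀ : D.A ⧸ B.subgroupOf D.A := QuotientGroup.mk (1 : D.A) with he₀
  have hne : ∀ k : G, mk k ≠ e₀ := fun k h => haB (by
    rw [eq_comm, QuotientGroup.eq, Subgroup.mem_subgroupOf] at h
    have h1 : (k : X) * a * (k : X)⁻¹ ∈ B := by simpa using h
    have h2 := hfixB _ (G.inv_mem k.2) _ h1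
    rw [show (k : X)⁻¹ * ((k : X) * a * (k : X)⁻¹) * (k : X)⁻¹⁻¹ = a by group] at h2
    exact h2 ▸ h1)
  let f : G ⧸ St → ({e₀}ᶜ : Set (D.A ⧸ B.subgroupOf D.A)) :=
    Quotient.lift (fun k => ⟨mk k, hne k⟩) fun k l h => Subtype.ext ((hmk k l).2 (QuotientGroup.leftRel_apply.1 h))
  have hf : Function.Bijective f := by
    refine ⟨fun x y => ?_, ?_⟩
    · induction x using Quotient.inductionOn with
      | h k => induction y using Quotient.inductionOn with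
        | h l => exact fun e => QuotientGroup.eq.2 ((hmk k l).1 (congrArg Subtype.val e))
    · rintro ⟨x, hx⟩
      induction x using QuotientGroup.induction_on with
      | H b =>
        have hbB : (b : X) ∉ B := fun h => hx (by
          show QuotientGroup.mk b = e₀
          rw [he₀, eq_comm, QuotientGroup.eq, Subgroup.mem_subgroupOf]
          simpa using h)
        obtain ⟨k, hk, hkb⟩ := hex b b.2 hbB
        refine ⟨QuotientGroup.mk (⟨k, hk⟩ : G), Subtype.ext ?_⟩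
        show mk ⟨k, hk⟩ = QuotientGroup.mk b
        rw [eq_comm, QuotientGroup.eq, Subgroup.mem_subgroupOf]
        exact hkb
  -- the exponent
  obtain ⟨m, hm20, hidx⟩ : ∃ m ≤ 20, B.relIndex D.A = 2 ^ m := by
    have h : B.relIndex D.A ∣ 2 ^ 20 := D.card ▸ Subgroup.index_dvd_card (B.subgroupOf D.A)
    exact (Nat.dvd_prime_pow Nat.prime_two).1 h
  have hcB : Nat.card B * 2 ^ m = 2 ^ 20 := by
    have h1 := Subgroup.relIndex_mul_relIndex (⊥ : Subgroup X) B D.A bot_le hBA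
    rwa [Subgroup.relIndex_bot_left, Subgroup.relIndex_bot_left, hidx, D.card] at h1
  have hΩ : Nat.card ({e₀}ᶜ : Set (D.A ⧸ B.subgroupOf D.A)) = 2 ^ m - 1 := by
    have hq : Nat.card (D.A ⧸ B.subgroupOf D.A) = 2 ^ m := hidx
    rw [Nat.card_coe_set_eq, Set.ncard_compl, Set.ncard_singleton, hq]
  have hdvd : (2 ^ m - 1) ∣ Nat.card G := by
    rw [← hΩ, ← Nat.card_eq_of_bijective f hf]
    exact Subgroup.index_dvd_card St
  have hK : Nat.card D.K ∣ 2 * 9196830720 := by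
    have h1 := Subgroup.card_mul_index (D.K₀.subgroupOf D.K)
    rw [Nat.card_congr (Subgroup.subgroupOfEquivOfLe D.le).toEquiv, card_K₀ hF D] at h1
    have h2 : (D.K₀.subgroupOf D.K).index ∣ 2 := by
      have := D.index
      have h3 : (D.K₀.subgroupOf D.K).index ≠ 0 := Subgroup.index_ne_zero_of_finite
      obtain h | h : (D.K₀.subgroupOf D.K).index = 1 ∨ (D.K₀.subgroupOf D.K).index = 2 := by omega
      · rw [h]; norm_num
      · rw [h]
    rw [← h1, Nat.mul_comm]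
    exact Nat.mul_dvd_mul h2 (dvd_refl _)
  have hm0 : 0 < m := by
    rcases Nat.eq_zero_or_pos m with rfl | h
    · exfalso
      refine haB (?_ : a ∈ B)
      have : D.A ≤ B := Subgroup.relIndex_eq_one.1 hidx
      exact this ha
    · exact h
  -- an element fixing `B`
  have hsmall : ∀ k ∈ G, 2 ^ 20 ≤ Nat.card (D.fix {k}) * 2 ^ m := fun k hk => by
    rw [← hcB]
    refine Nat.mul_le_mul_right _ (Subgroup.card_le_of_le fun c hc => Data.mem_fix.2 ⟨hBA hc, ?_⟩)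
    rintro _ rfl
    exact ((Subgroup.mem_centralizer_iff.1 hk.2) c hc).symm
  have hodd : ∀ p : ℕ, p.Prime → p ≠ 2 → p ∣ 2 ^ m - 1 →
      ∃ k ∈ D.K₀, k ∈ G ∧ orderOf k = p := by
    intro p hp hp2 hpd
    haveI := Fact.mk hp
    obtain ⟨k, hk⟩ := exists_prime_orderOf_dvd_card' (G := G) p (hpd.trans hdvd)
    have hko : orderOf (k : X) = p := by rw [Subgroup.orderOf_coe, hk]
    refine ⟨k, ?_, k.2, hko⟩
    haveI : (D.K₀.subgroupOf D.K).Normal := ⟨fun x hx y => by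
      rw [Subgroup.mem_subgroupOf] at hx ⊢
      exact D.normal y y.2 x hx⟩
    have h2 : ((k : X)) ^ 2 ∈ D.K₀ := by
      have h1 := Subgroup.pow_index_mem (D.K₀.subgroupOf D.K) (⟨k, k.2.1⟩ : D.K)
      rw [Subgroup.mem_subgroupOf] at h1
      have h3 : (D.K₀.subgroupOf D.K).index ≠ 0 := Subgroup.index_ne_zero_of_finite
      have h4 := D.index
      obtain h | h : (D.K₀.subgroupOf D.K).index = 1 ∨ (D.K₀.subgroupOf D.K).index = 2 := by omega
      · rw [h, pow_one] at h1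
        rw [pow_two]
        exact D.K₀.mul_mem h1 h1
      · rw [h] at h1
        simpa using h1
    obtain ⟨j, hj⟩ := hp.odd_of_ne_two hp2
    have h5 := D.K₀.pow_mem h2 (j + 1)
    rwa [← pow_mul, show 2 * (j + 1) = p + 1 by omega, pow_succ, ← hko, pow_orderOf_eq_one, one_mul] at h5
  rcases orbit_exponent m hm20 hm0 (hdvd.trans ((Subgroup.card_dvd_of_le inf_le_left).trans hK)) with
    rfl | ⟨hm246, h3⟩ | rfl
  · have h1 := hm.single k₁ hk₁ hk₁1
    have h2 := hsmall k₁ ⟨hk₁, Subgroup.mem_centralizer_iff.2 fun c hc => (hk₁B c hc).symm⟩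
    omega
  · obtain ⟨k, hk0, hkG, hko⟩ := hodd 3 Nat.prime_three (by norm_num) h3
    have h1 := (hm.prime k hk0 (hko ▸ Nat.prime_three)).2 hko
    have h2 := hsmall k hkG
    rcases hm246 with rfl | rfl | rfl <;> omega
  · obtain ⟨k, hk0, hkG, hko⟩ := hodd 7 (by norm_num) (by norm_num) (by norm_num)
    have h1 := (hm.prime k hk0 (hko.symm ▸ (by norm_num : Nat.Prime 7))).1
    have h2 := hsmall k hkG
    omega

end Cfsg.Agent.Lie.USixTwenty
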