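import Cfsg.Agent.Lib.Lie.USixTwenty.Model

/-!
The finite checks which pin down the matrix of the Fourier block. A block is a set of bits left invariant
by the block; the image of its first bit determines the images of the others, and only the model's
values satisfy the relations.
-/

set_option autoImplicit false
set_option maxRecDepth 100000

namespace Cfsg.Agent.Lie.USixTwenty

/-- product of matrices -/
def fmul (A B : List ℕ) : List ℕ := B.map (app A)

/-- sum of matrices -/
def madd (A B : List ℕ) : List ℕ := List.zipWith Nat.xor A B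

/-- the identity matrix -/
def idMat : List ℕ := (List.range 20).map fun j => 2 ^ j

/-- the matrix of a word in the monomial generators -/
def wMat : List (Fin 10) → List ℕ
  | [] => idMat
  | g :: w => fmul (genMat.getD g.val []) (wMat w)

/-- all combinations of the rows -/
def span : List ℕ → List ℕ
  | [] => [0]
  | r :: rs => if Nat.beq r 0 then span rs else span rs ++ (span rs).map (Nat.xor r)

/-- a matrix of order three, squared and added -/
def moved (z : List ℕ) : List ℕ := madd z (fmul z z)

/-- projection onto the fixed vectors of an element of order three -/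
def fixd (z : List ℕ) : List ℕ := madd idMat (moved z)

/-- the words commuted past the block -/
def relW : List (List (Fin 10) × List (Fin 10)) :=
  [([1], [1]), ([0], [6, 1]), ([6], [1, 0]), ([8], [8]), ([9], [9]), ([1, 0], [6, 6]), ([8, 8], [8, 8])]

/-- the projections onto the four blocks -/
def projB : Fin 4 → List ℕ
  | 0 => fmul (fixd (wMat [8])) (fixd (wMat [9]))
  | 1 => fmul (moved (wMat [8])) (fixd (wMat [9]))
  | 2 => fmul (moved (wMat [8])) (moved (wMat [9]))
  | 3 => fmul (fixd (wMat [8])) (moved (wMat [9]))

/-- derivations of the bits of the three blocks of six bits from their first bit -/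
def derive : Fin 4 → List (ℕ × List ℕ)
  | 0 => [(0, [])]
  | 1 => [(2, []), (8, [0]), (18, [0, 1]), (3, [2]), (9, [0, 3]), (19, [0, 1, 6])]
  | 2 => [(4, []), (10, [0]), (16, [0, 1]), (5, [2]), (17, [0, 1, 3]), (11, [0, 4])]
  | 3 => [(6, []), (12, [0]), (14, [0, 1]), (7, [2]), (15, [0, 1, 4]), (13, [2, 5])]

/-- apply the left members of the relations along a derivation -/
def pushL (seq : List ℕ) (v : ℕ) : ℕ :=
  seq.foldl (fun u k => app (wMat (relW.getD k ([], [])).1) u) v

/-- apply the right members of the relations along a derivation -/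
def pushR (seq : List ℕ) (v : ℕ) : ℕ :=
  seq.foldl (fun u k => app (wMat (relW.getD k ([], [])).2) u) v

/-- the candidate matrix of a six-bit block -/
def cand (t : Fin 4) (v : ℕ) : List ℕ :=
  (List.range 20).map fun j => match (derive t).lookup j with
    | some seq => pushR seq v
    | none => 0

/-- the square and commutation conditions on a block -/
def good (t : Fin 4) (N : List ℕ) : Bool :=
  (derive t).all fun bs =>
    Nat.beq (app N (N.getD bs.1 0)) (app (wMat [1]) (2 ^ bs.1)) &&
      relW.all fun r => Nat.beq (app (wMat r.2) (N.getD bs.1 0)) (app N (app (wMat r.1) (2 ^ bs.1)))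

/-- the first bit of a block -/
def base (t : Fin 4) : ℕ := ((derive t).headD (0, [])).1

theorem derive_spec : ∀ t : Fin 4, t ≠ 0 → ∀ bs ∈ derive t,
    pushL bs.2 (2 ^ base t) = 2 ^ bs.1 ∧ ∀ k ∈ bs.2, k < relW.length := by
  decide +kernel

theorem proj_spec : ∀ t : Fin 4, ∀ j < 20, (projB t).getD j 0 =
    if t = 0 then (if j < 2 then 2 ^ j else 0) else (if ((derive t).lookup j).isSome then 2 ^ j else 0) := by
  decide +kernel

theorem rel_stay : ∀ t : Fin 4, t ≠ 0 → ∀ bs ∈ derive t, ∀ r ∈ relW,
    app (projB t) (app (wMat r.1) (2 ^ bs.1)) = app (wMat r.1) (2 ^ bs.1) := by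
  decide +kernel

theorem block_one : ∀ v ∈ span (projB 1), good 1 (cand 1 v) = true →
    ∀ j ∈ [2, 3, 8, 9, 18, 19], (cand 1 v).getD j 0 = (gmat 10).getD j 0 := by
  decide +kernel

theorem block_two : ∀ v ∈ span (projB 2), good 2 (cand 2 v) = true →
    ∀ j ∈ [4, 5, 10, 11, 16, 17], (cand 2 v).getD j 0 = (gmat 10).getD j 0 := by
  decide +kernel

theorem block_three : ∀ v ∈ span (projB 3), good 3 (cand 3 v) = true →
    ∀ j ∈ [6, 7, 12, 13, 14, 15], (cand 3 v).getD j 0 = (gmat 10).getD j 0 := by
  decide +kernel

/-- the word of the exchange of the halves -/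
def tauG : List (Fin 10) := [2, 1, 0, 3, 2, 1, 4, 3, 2]

/-- a map of the first plane -/
def planeMat (a b : ℕ) : List ℕ := [a, b] ++ List.replicate 18 0

/-- the conjugate of a block by the exchange -/
def conjT (N : List ℕ) : List ℕ := fmul (wMat tauG) (fmul N (wMat tauG))

/-- its conjugate by a diagonal element -/
def conjD (N : List ℕ) : List ℕ := fmul (wMat [7]) (fmul (conjT N) (wMat [7, 7]))

/-- the conditions on the first plane -/
def goodPlane (N : List ℕ) : Bool :=
  [0, 1].all fun b =>
    Nat.beq (app N (N.getD b 0)) (app (wMat [1]) (2 ^ b)) &&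
      Nat.beq (app N (app (conjT N) (2 ^ b))) (app (conjT N) (app N (2 ^ b))) &&
      Nat.beq (app N (app (conjD N) (2 ^ b))) (app (conjD N) (app N (2 ^ b)))

theorem plane_ok : ∀ a ∈ span (projB 0), ∀ b ∈ span (projB 0), goodPlane (planeMat a b) = true →
    a = (gmat 10).getD 0 0 ∧ b = (gmat 10).getD 1 0 := by
  decide +kernel

end Cfsg.Agent.Lie.USixTwenty
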