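import Cfsg.Agent.Lib.Lie.USixTwenty.Coords
import Cfsg.Agent.Lib.Lie.USixTwenty.FourierChecks

/-!
The Fourier block acts by the last matrix of the model.
-/

set_option autoImplicit false
set_option maxRecDepth 100000

namespace Cfsg.Agent.Lie.USixTwenty

universe u

/-- the monomial generators -/
def el (g : Fin 10) : SU6 :=
  if h : g.val < 5 then pm (tr ⟨g.val, h⟩) else dg (dgen ⟨g.val - 5, by omega⟩)

/-- the element of a word -/
def elW : List (Fin 10) → SU6
  | [] => 1
  | g :: w => el g * elW w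

theorem rel_group : ∀ r ∈ relW, fE * elW r.1 = elW r.2 * fE := by decide +kernel

theorem fE_sq : fE * fE = elW [1] := by decide +kernel

theorem fE_conjT : fE * (elW tauG * fE * elW tauG) = elW tauG * fE * elW tauG * fE := by decide +kernel

theorem fE_conjD : fE * (elW [7] * (elW tauG * fE * elW tauG) * elW [7, 7]) =
    elW [7] * (elW tauG * fE * elW tauG) * elW [7, 7] * fE := by decide +kernel

theorem rel_lt : ∀ r ∈ relW, (∀ x ∈ wMat r.1, x < 2 ^ 20) ∧ ∀ x ∈ wMat r.2, x < 2 ^ 20 := by decide +kernel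

theorem proj_lt : ∀ t : Fin 4, (projB t).length = 20 ∧ ∀ x ∈ projB t, x < 2 ^ 20 := by decide +kernel

theorem plane_stay : ∀ w ∈ ([tauG, [7], [7, 7]] : List (List (Fin 10))), ∀ j < 20,
    app (projB 0) (app (wMat w) ((projB 0).getD j 0)) = app (wMat w) ((projB 0).getD j 0) := by
  decide +kernel

theorem gmat_ten_lt : ∀ j < 20, (gmat 10).getD j 0 < 2 ^ 20 := by decide +kernel

theorem app_lt20 : ∀ (L : List ℕ) (a : ℕ), (∀ x ∈ L, x < 2 ^ 20) → app L a < 2 ^ 20
  | [], _, _ => by simp [app]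
  | r :: rs, a, h => by
    refine Nat.xor_lt_two_pow ?_ (app_lt20 rs _ fun x hx => h x (List.mem_cons_of_mem _ hx))
    split_ifs
    · exact h r List.mem_cons_self
    · norm_num

theorem span_zero : ∀ L : List ℕ, 0 ∈ span L
  | [] => List.mem_singleton_self 0
  | r :: rs => by
    unfold span
    cases h : Nat.beq r 0
    · exact List.mem_append_left _ (span_zero rs)
    · exact span_zero rs

theorem app_mem_span : ∀ (L : List ℕ) (a : ℕ), app L a ∈ span L
  | [], _ => List.mem_singleton_self 0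
  | r :: rs, a => by
    have h0 : ∀ x, Nat.xor 0 x = x := fun x => Nat.zero_xor x
    have ih := app_mem_span rs (a / 2)
    unfold span app
    cases h : Nat.beq r 0
    · cases Nat.testBit a 0
      · simp only [Bool.false_eq_true, if_false, h0]
        exact List.mem_append_left _ ih
      · simp only [if_true]
        exact List.mem_append_right _ (List.mem_map_of_mem ih)
    · have hr : r = 0 := Nat.eq_of_beq_eq_true h
      subst hr
      simp only [ite_self, h0]
      exact ih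

variable {M : Type u} [AddCommGroup M] (R : Rep M)

/-- a map acts by a matrix -/
def Rep.Lin (f : AddMonoid.End M) (L : List ℕ) : Prop := ∀ a, f (R.ψ a) = R.ψ (app L a)

theorem Rep.lin_mul {f g : AddMonoid.End M} {A B : List ℕ} (hf : R.Lin f A) (hg : R.Lin g B) :
    R.Lin (f * g) (fmul A B) := by
  intro a
  show f (g (R.ψ a)) = _
  rw [hg a, R.ψ_app, R.ψ_app]
  refine (comb_map (f : M →+ M) _ a).trans ?_
  rw [fmul, List.map_map, List.map_map]
  congr 1
  exact List.map_congr_left fun x _ => hf x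

theorem comb_add : ∀ (A B : List M), A.length = B.length → ∀ a : ℕ,
    comb (List.zipWith (· + ·) A B) a = comb A a + comb B a
  | [], [], _, _ => (add_zero 0).symm
  | x :: xs, y :: ys, h, a => by
    simp only [List.zipWith_cons_cons, comb, comb_add xs ys (by simpa using h)]
    cases Nat.testBit a 0 <;> simp <;> abel

include R in
theorem Rep.map_madd : ∀ A B : List ℕ, (madd A B).map R.ψ = List.zipWith (· + ·) (A.map R.ψ) (B.map R.ψ)
  | [], _ => rfl
  | _ :: _, [] => rfl
  | x :: xs, y :: ys => by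
    show R.ψ (Nat.xor x y) :: (madd xs ys).map R.ψ = _
    rw [R.ψ_xor, Rep.map_madd xs ys]
    rfl

theorem Rep.lin_add {f g : AddMonoid.End M} {A B : List ℕ} (hf : R.Lin f A) (hg : R.Lin g B)
    (h : A.length = B.length) : R.Lin (f + g) (madd A B) := by
  intro a
  show f (R.ψ a) + g (R.ψ a) = _
  rw [hf a, hg a, R.ψ_app, R.ψ_app, R.ψ_app, R.map_madd, comb_add _ _ (by simp [h])]

theorem code_pow : ∀ (i : Fin 10) (b : Fin 2), code i (b.val : ℕ) = 2 ^ (2 * i.val + b.val) := by decide +kernel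

theorem Rep.ψ_pow {j : ℕ} (hj : j < 20) : R.ψ (2 ^ j) = R.bas j := by
  obtain ⟨i, b, rfl, e⟩ := R.bas_eq hj
  rw [e, ← code_pow i b, R.ψ_code]

theorem Rep.lin_one : R.Lin 1 idMat := by
  intro a
  show R.ψ a = _
  rw [R.ψ_app, Rep.ψ, idMat, List.map_map]
  congr 1
  exact List.map_congr_left fun j hj => (R.ψ_pow (List.mem_range.1 hj)).symm

theorem Rep.lin_el (g : Fin 10) : R.Lin (R.ρ (el g)) (genMat.getD g.val []) := by
  intro a
  fin_cases g
  · exact R.acts_swap 0 a
  · exact R.acts_swap 1 a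
  · exact R.acts_swap 2 a
  · exact R.acts_swap 3 a
  · exact R.acts_swap 4 a
  · exact R.acts_diag 0 a
  · exact R.acts_diag 1 a
  · exact R.acts_diag 2 a
  · exact R.acts_diag 3 a
  · exact R.acts_diag 4 a

theorem Rep.lin_word : ∀ w : List (Fin 10), R.Lin (R.ρ (elW w)) (wMat w)
  | [] => by rw [elW, map_one]; exact R.lin_one
  | g :: w => by
    rw [elW, map_mul]
    exact R.lin_mul (R.lin_el g) (Rep.lin_word w)

theorem Rep.inj {a b : ℕ} (ha : a < 2 ^ 20) (hb : b < 2 ^ 20) (h : R.ψ a = R.ψ b) : a = b :=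
  congrArg Fin.val (R.ψ_bij.injective (a₁ := ⟨a, ha⟩) (a₂ := ⟨b, hb⟩) h)

theorem Rep.exists_index (v : M) : ∃ n, n < 2 ^ 20 ∧ R.ψ n = v := by
  obtain ⟨a, ha⟩ := R.ψ_bij.surjective v
  exact ⟨a.val, a.isLt, ha⟩

/-- the projection operators -/
noncomputable def Rep.proj : Fin 4 → AddMonoid.End M
  | 0 => (1 + (R.ρ (elW [8]) + R.ρ (elW [8]) * R.ρ (elW [8]))) * (1 + (R.ρ (elW [9]) + R.ρ (elW [9]) * R.ρ (elW [9])))
  | 1 => (R.ρ (elW [8]) + R.ρ (elW [8]) * R.ρ (elW [8])) * (1 + (R.ρ (elW [9]) + R.ρ (elW [9]) * R.ρ (elW [9])))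
  | 2 => (R.ρ (elW [8]) + R.ρ (elW [8]) * R.ρ (elW [8])) * (R.ρ (elW [9]) + R.ρ (elW [9]) * R.ρ (elW [9]))
  | 3 => (1 + (R.ρ (elW [8]) + R.ρ (elW [8]) * R.ρ (elW [8]))) * (R.ρ (elW [9]) + R.ρ (elW [9]) * R.ρ (elW [9]))

theorem Rep.lin_proj (t : Fin 4) : R.Lin (R.proj t) (projB t) := by
  have hm : ∀ w : List (Fin 10), R.Lin (R.ρ (elW w) + R.ρ (elW w) * R.ρ (elW w)) (moved (wMat w)) := fun w =>
    R.lin_add (R.lin_word w) (R.lin_mul (R.lin_word w) (R.lin_word w)) (by simp [fmul])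
  have hlen : ∀ w ∈ ([[8], [9]] : List (List (Fin 10))), idMat.length = (moved (wMat w)).length := by decide +kernel
  have hf : ∀ w ∈ ([[8], [9]] : List (List (Fin 10))),
      R.Lin (1 + (R.ρ (elW w) + R.ρ (elW w) * R.ρ (elW w))) (fixd (wMat w)) := fun w hw =>
    R.lin_add R.lin_one (hm w) (hlen w hw)
  fin_cases t
  · exact R.lin_mul (hf [8] (by simp)) (hf [9] (by simp))
  · exact R.lin_mul (hm [8]) (hf [9] (by simp))
  · exact R.lin_mul (hm [8]) (hm [9])
  · exact R.lin_mul (hf [8] (by simp)) (hm [9])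

theorem Rep.commute_proj (t : Fin 4) : Commute (R.ρ fE) (R.proj t) := by
  have h : ∀ w ∈ ([[8], [9]] : List (List (Fin 10))), Commute (R.ρ fE) (R.ρ (elW w)) := by
    intro w hw
    refine Commute.map ?_ R.ρ
    simp only [List.mem_cons, List.not_mem_nil, or_false] at hw
    rcases hw with rfl | rfl
    · exact rel_group ([8], [8]) (by decide)
    · exact rel_group ([9], [9]) (by decide)
  have hm : ∀ w ∈ ([[8], [9]] : List (List (Fin 10))),
      Commute (R.ρ fE) (R.ρ (elW w) + R.ρ (elW w) * R.ρ (elW w)) := fun w hw =>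
    (h w hw).add_right ((h w hw).mul_right (h w hw))
  have hf : ∀ w ∈ ([[8], [9]] : List (List (Fin 10))),
      Commute (R.ρ fE) (1 + (R.ρ (elW w) + R.ρ (elW w) * R.ρ (elW w))) := fun w hw =>
    (Commute.one_right _).add_right (hm w hw)
  fin_cases t
  · exact (hf [8] (by simp)).mul_right (hf [9] (by simp))
  · exact (hm [8] (by simp)).mul_right (hf [9] (by simp))
  · exact (hm [8] (by simp)).mul_right (hm [9] (by simp))
  · exact (hf [8] (by simp)).mul_right (hm [9] (by simp))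

/-- the image of a bit -/
noncomputable def Rep.row (j : ℕ) : ℕ := (R.exists_index (R.act fE (R.ψ (2 ^ j)))).choose

theorem Rep.row_spec (j : ℕ) : R.row j < 2 ^ 20 ∧ R.ψ (R.row j) = R.act fE (R.ψ (2 ^ j)) :=
  (R.exists_index _).choose_spec

/-- a vector of the block is fixed by the projection -/
theorem Rep.fix_of_app {t : Fin 4} {a : ℕ} (h : app (projB t) a = a) : R.proj t (R.ψ a) = R.ψ a := by
  rw [R.lin_proj t a, h]

theorem Rep.fix_fE {t : Fin 4} {v : M} (h : R.proj t v = v) : R.proj t (R.act fE v) = R.act fE v := by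
  have := congrArg (fun f : AddMonoid.End M => f v) (R.commute_proj t).eq
  show R.proj t (R.ρ fE v) = R.ρ fE v
  refine this.symm.trans ?_
  show R.ρ fE (R.proj t v) = _
  rw [h]

theorem Rep.app_row {t : Fin 4} {j : ℕ} (h : app (projB t) (2 ^ j) = 2 ^ j) :
    app (projB t) (R.row j) = R.row j := by
  refine R.inj (app_lt20 _ _ (proj_lt t).2) (R.row_spec j).1 ?_
  rw [← R.lin_proj t, (R.row_spec j).2, R.fix_fE (R.fix_of_app h)]

theorem Rep.rel_act {r : List (Fin 10) × List (Fin 10)} (hr : r ∈ relW) (a : ℕ) :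
    R.act fE (R.ψ (app (wMat r.1) a)) = R.act (elW r.2) (R.act fE (R.ψ a)) := by
  rw [← R.act_mul, ← rel_group r hr, R.act_mul]
  exact congrArg (R.act fE) (R.lin_word r.1 a).symm

theorem Rep.push : ∀ (seq : List ℕ), (∀ k ∈ seq, k < relW.length) → ∀ a b : ℕ, b < 2 ^ 20 →
    R.act fE (R.ψ a) = R.ψ b → pushR seq b < 2 ^ 20 ∧ R.act fE (R.ψ (pushL seq a)) = R.ψ (pushR seq b)
  | [], _, _, _, hb, h => ⟨hb, h⟩
  | k :: ks, hk, a, b, _, h => by
    have hr : relW.getD k ([], []) ∈ relW := by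
      rw [List.getD_eq_getElem?_getD, List.getElem?_eq_getElem (hk k List.mem_cons_self)]
      exact List.getElem_mem _
    refine Rep.push ks (fun x hx => hk x (List.mem_cons_of_mem _ hx)) (app (wMat (relW.getD k ([], [])).1) a)
      (app (wMat (relW.getD k ([], [])).2) b) (app_lt20 _ _ (rel_lt _ hr).2) ?_
    rw [R.rel_act hr, h]
    exact R.lin_word _ b

theorem lookup_mem : ∀ (l : List (ℕ × List ℕ)) (j : ℕ) (s : List ℕ), l.lookup j = some s → (j, s) ∈ l
  | (k, v) :: l, j, s, h => by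
    rw [List.lookup_cons] at h
    by_cases e : j = k
    · subst e
      simp at h
      simp [h]
    · rw [beq_false_of_ne e] at h
      exact List.mem_cons_of_mem _ (lookup_mem l j s h)

theorem derive_lt : ∀ t : Fin 4, base t < 20 ∧ ∀ bs ∈ derive t, bs.1 < 20 ∧
    app (projB t) (2 ^ bs.1) = 2 ^ bs.1 ∧ (derive t).lookup bs.1 = some bs.2 := by decide +kernel

theorem base_mem : ∀ t : Fin 4, app (projB t) (2 ^ base t) = 2 ^ base t := by decide +kernel

theorem Rep.pow_fix {t : Fin 4} {v : M} (h : R.proj t v = v) : R.ρ fE (R.proj t v) = R.act fE v := by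
  rw [h]
  rfl

/-- the six-bit blocks -/
theorem Rep.block_row (t : Fin 4) (ht : t ≠ 0) :
    good t (cand t (R.row (base t))) = true ∧ R.row (base t) ∈ span (projB t) ∧
      ∀ bs ∈ derive t, (cand t (R.row (base t))).getD bs.1 0 = R.row bs.1 := by
  set v := R.row (base t) with hv
  have hb := base_mem t
  have hmem : v ∈ span (projB t) := by
    rw [hv, ← R.app_row hb]
    exact app_mem_span _ _
  have hpush : ∀ bs ∈ derive t, pushR bs.2 v = R.row bs.1 := by
    intro bs hbs
    obtain ⟨h1, h2⟩ := derive_spec t ht bs hbs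
    obtain ⟨h3, h4⟩ := R.push bs.2 h2 (2 ^ base t) v (R.row_spec _).1 (R.row_spec _).2.symm
    refine R.inj h3 (R.row_spec _).1 ?_
    rw [← h4, h1, (R.row_spec _).2]
  have hget : ∀ bs ∈ derive t, (cand t v).getD bs.1 0 = R.row bs.1 := by
    intro bs hbs
    obtain ⟨h1, -, h2⟩ := (derive_lt t).2 bs hbs
    rw [cand, List.getD_eq_getElem?_getD, List.getElem?_map, List.getElem?_range h1]
    simp [h2, hpush bs hbs]
  refine ⟨?_, hmem, hget⟩
  set C := cand t v with hC
  have hClin : R.Lin (R.ρ fE * R.proj t) C := by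
    intro a
    show R.ρ fE (R.proj t (R.ψ a)) = _
    rw [R.lin_proj t a, R.ψ_app, R.ψ_app]
    refine (comb_map (R.ρ fE : M →+ M) _ a).trans ?_
    congr 1
    refine List.ext_getElem (by simp [hC, cand, (proj_lt t).1]) fun j h1 h2 => ?_
    have hj : j < 20 := by simpa [(proj_lt t).1] using h1
    simp only [List.getElem_map]
    rw [List.getElem_eq_getD (fallback := 0), List.getElem_eq_getD (fallback := 0), proj_spec t j hj, if_neg ht]
    cases hl : (derive t).lookup j with
    | none =>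
      rw [hC, cand, List.getD_eq_getElem?_getD, List.getElem?_map, List.getElem?_range hj]
      simp [hl, Rep.ψ, comb_zero]
      exact map_zero (R.ρ fE)
    | some s =>
      have hm := lookup_mem _ j s hl
      rw [hget (j, s) hm]
      simp only [Option.isSome_some, if_true]
      exact (R.row_spec j).2.symm
  have hClt : ∀ x ∈ C, x < 2 ^ 20 := by
    intro x hx
    rw [hC, cand, List.mem_map] at hx
    obtain ⟨j, -, rfl⟩ := hx
    cases hl : (derive t).lookup j with
    | none => norm_num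
    | some s =>
      have hm := lookup_mem _ j s hl
      show pushR s v < _
      rw [hpush _ hm]
      exact (R.row_spec j).1
  rw [good, List.all_eq_true]
  intro bs hbs
  obtain ⟨hj, hfix, -⟩ := (derive_lt t).2 bs hbs
  rw [hget bs hbs, Bool.and_eq_true, List.all_eq_true]
  have hF : R.proj t (R.act fE (R.ψ (2 ^ bs.1))) = R.act fE (R.ψ (2 ^ bs.1)) := R.fix_fE (R.fix_of_app hfix)
  refine ⟨?_, fun r hr => ?_⟩
  · rw [Nat.beq_eq]
    refine R.inj (app_lt20 _ _ hClt) (app_lt20 _ _ (rel_lt ([1], [1]) (by decide)).1) ?_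
    rw [← hClin, ← R.lin_word, (R.row_spec _).2]
    show R.ρ fE (R.proj t _) = _
    rw [R.pow_fix hF, ← R.act_mul, fE_sq]
    rfl
  · rw [Nat.beq_eq]
    refine R.inj (app_lt20 _ _ (rel_lt r hr).2) (app_lt20 _ _ hClt) ?_
    rw [← hClin, ← R.lin_word, (R.row_spec _).2]
    show R.act (elW r.2) _ = R.ρ fE (R.proj t _)
    rw [R.pow_fix (R.fix_of_app (rel_stay t ht bs hbs r hr)), R.rel_act hr]

theorem Rep.stay {w : List (Fin 10)} (hw : w ∈ ([tauG, [7], [7, 7]] : List (List (Fin 10)))) {v : M}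
    (hv : R.proj 0 v = v) : R.proj 0 (R.ρ (elW w) v) = R.ρ (elW w) v := by
  have e : R.proj 0 * R.ρ (elW w) * R.proj 0 = R.ρ (elW w) * R.proj 0 := by
    refine AddMonoidHom.ext fun m => ?_
    obtain ⟨a, -, rfl⟩ := R.exists_index m
    show R.proj 0 (R.ρ (elW w) (R.proj 0 (R.ψ a))) = R.ρ (elW w) (R.proj 0 (R.ψ a))
    rw [R.lin_proj 0 a, R.ψ_app]
    have h1 := comb_map (R.proj 0 * R.ρ (elW w) : M →+ M) ((projB 0).map R.ψ) a
    have h2 := comb_map (R.ρ (elW w) : M →+ M) ((projB 0).map R.ψ) a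
    refine h1.trans (Eq.trans ?_ h2.symm)
    rw [List.map_map, List.map_map]
    congr 1
    refine List.map_congr_left fun x hx => ?_
    obtain ⟨j, hj, rfl⟩ := List.getElem_of_mem hx
    rw [List.getElem_eq_getD (fallback := 0)]
    have h3 := plane_stay w hw j (by simpa [(proj_lt 0).1] using hj)
    show R.proj 0 (R.ρ (elW w) (R.ψ _)) = R.ρ (elW w) (R.ψ _)
    rw [R.lin_word w, R.fix_of_app h3]
  have := congrArg (fun f : AddMonoid.End M => f v) e
  show _ = _
  change R.proj 0 (R.ρ (elW w) (R.proj 0 v)) = R.ρ (elW w) (R.proj 0 v) at this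
  rwa [hv] at this

theorem plane_fixed : ∀ b ∈ ([0, 1] : List ℕ), app (projB 0) (2 ^ b) = 2 ^ b := by decide +kernel

theorem plane_lt : ∀ w ∈ ([tauG, [7], [7, 7]] : List (List (Fin 10))), ∀ x ∈ wMat w, x < 2 ^ 20 := by decide +kernel

theorem Rep.plane_row : R.row 0 = (gmat 10).getD 0 0 ∧ R.row 1 = (gmat 10).getD 1 0 := by
  have hm : ∀ b ∈ ([0, 1] : List ℕ), R.row b ∈ span (projB 0) := fun b hb => by
    rw [← R.app_row (plane_fixed b hb)]
    exact app_mem_span _ _
  refine plane_ok _ (hm 0 (by simp)) _ (hm 1 (by simp)) ?_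
  set C := planeMat (R.row 0) (R.row 1) with hC
  have hClt : ∀ x ∈ C, x < 2 ^ 20 := by
    intro x hx
    simp only [hC, planeMat, List.mem_append, List.mem_cons, List.not_mem_nil, or_false, List.mem_replicate] at hx
    rcases hx with (rfl | rfl) | ⟨-, rfl⟩
    · exact (R.row_spec 0).1
    · exact (R.row_spec 1).1
    · norm_num
  have hClin : R.Lin (R.ρ fE * R.proj 0) C := by
    intro a
    show R.ρ fE (R.proj 0 (R.ψ a)) = _
    rw [R.lin_proj 0 a, R.ψ_app, R.ψ_app]
    refine (comb_map (R.ρ fE : M →+ M) _ a).trans ?_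
    congr 1
    refine List.ext_getElem (by simp [hC, planeMat, (proj_lt 0).1]) fun j h1 h2 => ?_
    have hj : j < 20 := by simpa [(proj_lt 0).1] using h1
    simp only [List.getElem_map]
    rw [List.getElem_eq_getD (fallback := 0), List.getElem_eq_getD (fallback := 0), proj_spec 0 j hj, if_pos rfl]
    rcases j with _ | _ | j
    · exact (R.row_spec 0).2.symm
    · exact (R.row_spec 1).2.symm
    · rw [if_neg (by omega)]
      show R.ρ fE (R.ψ 0) = R.ψ _
      have e : C.getD (j + 1 + 1) 0 = 0 := by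
        rw [hC, planeMat, List.getD_eq_getElem?_getD, List.getElem?_append_right (by simp), List.getElem?_replicate]
        split_ifs <;> rfl
      rw [e]
      simp only [Rep.ψ, comb_zero]
      exact map_zero (R.ρ fE)
  set T := R.ρ (elW tauG) with hT
  set D1 := R.ρ (elW [7]) with hD1
  set D2 := R.ρ (elW [7, 7]) with hD2
  set P := R.proj 0 with hP
  set f := R.ρ fE with hf
  have hT' : R.Lin (T * (f * P * T)) (conjT C) := R.lin_mul (R.lin_word _) (R.lin_mul hClin (R.lin_word _))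
  have hD' : R.Lin (D1 * (T * (f * P * T) * D2)) (conjD C) := R.lin_mul (R.lin_word _) (R.lin_mul hT' (R.lin_word _))
  have hf' : ∀ {v : M}, P v = v → P (f v) = f v := fun {v} h => R.fix_fE h
  have hTs : ∀ {v : M}, P v = v → P (T v) = T v := fun {v} h => R.stay (by simp) h
  have h1s : ∀ {v : M}, P v = v → P (D1 v) = D1 v := fun {v} h => R.stay (by simp) h
  have h2s : ∀ {v : M}, P v = v → P (D2 v) = D2 v := fun {v} h => R.stay (by simp) h
  rw [goodPlane, List.all_eq_true]
  intro b hb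
  have hv := R.fix_of_app (plane_fixed b hb)
  rw [← hP] at hv
  have hget : C.getD b 0 = R.row b := by
    simp only [List.mem_cons, List.not_mem_nil, or_false] at hb
    rcases hb with rfl | rfl <;> rfl
  have hlt1 : ∀ x ∈ conjT C, x < 2 ^ 20 := by
    intro x hx
    simp only [conjT, fmul, List.mem_map] at hx
    obtain ⟨y, -, rfl⟩ := hx
    exact app_lt20 _ _ (plane_lt _ (by simp))
  have hlt2 : ∀ x ∈ conjD C, x < 2 ^ 20 := by
    intro x hx
    simp only [conjD, fmul, List.mem_map] at hx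
    obtain ⟨y, -, rfl⟩ := hx
    exact app_lt20 _ _ (plane_lt _ (by simp))
  rw [hget, Bool.and_eq_true, Bool.and_eq_true, Nat.beq_eq, Nat.beq_eq, Nat.beq_eq]
  refine ⟨⟨?_, ?_⟩, ?_⟩
  · refine R.inj (app_lt20 _ _ hClt) (app_lt20 _ _ (rel_lt ([1], [1]) (by decide)).1) ?_
    rw [← hClin, ← R.lin_word, (R.row_spec _).2]
    show f (P (R.act fE _)) = _
    rw [show P (R.act fE (R.ψ (2 ^ b))) = R.act fE (R.ψ (2 ^ b)) from hf' hv]
    show R.act fE (R.act fE _) = _
    rw [← R.act_mul, fE_sq]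
    rfl
  · refine R.inj (app_lt20 _ _ hClt) (app_lt20 _ _ hlt1) ?_
    rw [← hClin, ← hT', ← hT', ← hClin]
    show f (P (T (f (P (T (R.ψ (2 ^ b))))))) = T (f (P (T (f (P (R.ψ (2 ^ b)))))))
    rw [hTs hv, hTs (hf' (hTs hv)), hv, hTs (hf' hv)]
    have := congrArg (fun g => R.ρ g (R.ψ (2 ^ b))) fE_conjT
    simp only [map_mul] at this
    exact this
  · refine R.inj (app_lt20 _ _ hClt) (app_lt20 _ _ hlt2) ?_
    rw [← hClin, ← hD', ← hD', ← hClin]
    show f (P (D1 (T (f (P (T (D2 (R.ψ (2 ^ b))))))))) = D1 (T (f (P (T (D2 (f (P (R.ψ (2 ^ b)))))))))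
    rw [hTs (h2s hv), h1s (hTs (hf' (hTs (h2s hv)))), hv, hTs (h2s (hf' hv))]
    have := congrArg (fun g => R.ρ g (R.ψ (2 ^ b))) fE_conjD
    simp only [map_mul] at this
    exact this

/-- the Fourier block acts by the matrix of the model -/
theorem Rep.acts_fourier : R.Acts fE (gmat 10) := by
  refine R.acts_of_basis (gmat_len _) fun j hj => ?_
  rw [← R.ψ_pow hj, ← (R.row_spec j).2]
  congr 1
  obtain ⟨g1, m1, r1⟩ := R.block_row 1 (by decide)
  obtain ⟨g2, m2, r2⟩ := R.block_row 2 (by decide)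
  obtain ⟨g3, m3, r3⟩ := R.block_row 3 (by decide)
  have e1 := block_one _ m1 g1
  have e2 := block_two _ m2 g2
  have e3 := block_three _ m3 g3
  have hcov : ∀ j < 20, j ∈ [0, 1] ∨ (∃ bs ∈ derive 1, bs.1 = j ∧ j ∈ [2, 3, 8, 9, 18, 19]) ∨
      (∃ bs ∈ derive 2, bs.1 = j ∧ j ∈ [4, 5, 10, 11, 16, 17]) ∨
      (∃ bs ∈ derive 3, bs.1 = j ∧ j ∈ [6, 7, 12, 13, 14, 15]) := by decide +kernel
  rcases hcov j hj with h | ⟨bs, hbs, rfl, hm⟩ | ⟨bs, hbs, rfl, hm⟩ | ⟨bs, hbs, rfl, hm⟩
  · simp only [List.mem_cons, List.not_mem_nil, or_false] at h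
    rcases h with rfl | rfl
    · exact R.plane_row.1
    · exact R.plane_row.2
  · rw [← r1 bs hbs]; exact e1 _ hm
  · rw [← r2 bs hbs]; exact e2 _ hm
  · rw [← r3 bs hbs]; exact e3 _ hm

end Cfsg.Agent.Lie.USixTwenty
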