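import Mathlib.GroupTheory.OrderOfElement
import Mathlib.GroupTheory.Index
import Mathlib.Tactic.Group

/-!
A subgroup `M` controlling every fusion inside an elementary `2`-subgroup `V`, into which every conjugate
of an element of `V` lying in `M` falls, is the whole group as soon as `V` meets two classes.
-/

set_option autoImplicit false

namespace Cfsg.Agent.Lie.USixTwenty

/-- the dihedral argument -/
theorem eq_top_of_fusion {G : Type*} [Group G] [Finite G] (V M : Subgroup G) (hVM : V ≤ M)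
    (hsq : ∀ a ∈ V, a * a = 1)
    (hfus : ∀ (g : G), ∀ a ∈ V, a ≠ 1 → g * a * g⁻¹ ∈ V → g ∈ M)
    (hclo : ∀ (g : G), ∀ a ∈ V, a ≠ 1 → g * a * g⁻¹ ∈ M → g * a * g⁻¹ ∈ V)
    {u v : G} (hu : u ∈ V) (hv : v ∈ V) (hu1 : u ≠ 1) (hv1 : v ≠ 1)
    (hne : ∀ g : G, g * u * g⁻¹ ≠ v) : M = ⊤ := by
  refine eq_top_iff.2 fun g _ => ?_
  set y := g * v * g⁻¹ with hy
  have hy2 : y * y = 1 := by
    calc y * y = g * (v * v) * g⁻¹ := by rw [hy]; group
      _ = 1 := by rw [hsq v hv]; group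
  have huu := hsq u hu
  set d := u * y with hd
  have e1 : u * d = d⁻¹ * u := by
    rw [hd, mul_inv_rev, inv_eq_of_mul_eq_one_right huu, inv_eq_of_mul_eq_one_right hy2, mul_assoc y u u,
      huu, mul_one, ← mul_assoc, huu, one_mul]
  have hud : ∀ j : ℕ, u * d ^ j = (d ^ j)⁻¹ * u := fun j => by
    induction j with
    | zero => simp
    | succ j ih => rw [pow_succ, ← mul_assoc, ih, mul_assoc, e1, ← mul_assoc, ← mul_inv_rev, ← pow_succ',
        ← pow_succ]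
  have hyd : y = u * d := by rw [hd, ← mul_assoc, huu, one_mul]
  have heven : ∀ j : ℕ, u * d ^ (j + j) = (d ^ j)⁻¹ * u * ((d ^ j)⁻¹)⁻¹ := fun j => by
    rw [inv_inv, ← hud, pow_add, mul_assoc]
  have hodd : ∀ j : ℕ, u * d ^ (2 * j + 1) = (d ^ j)⁻¹ * y * ((d ^ j)⁻¹)⁻¹ := fun j => by
    rw [inv_inv, hyd, ← mul_assoc ((d ^ j)⁻¹) u d, ← hud, mul_assoc u, mul_assoc u, ← pow_succ, ← pow_add,
      show j + 1 + j = 2 * j + 1 by ring]
  have hpar : ∀ k : ℕ, ∃ w : G, ∃ z ∈ V, z ≠ 1 ∧ u * d ^ k = w * z * w⁻¹ := by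
    intro k
    rcases Nat.even_or_odd k with ⟨j, rfl⟩ | ⟨j, rfl⟩
    · exact ⟨_, u, hu, hu1, heven j⟩
    · refine ⟨(d ^ j)⁻¹ * g, v, hv, hv1, ?_⟩
      rw [hodd j, hy]
      group
  have hnodd : ¬ Odd (orderOf d) := by
    rintro ⟨j, hj⟩
    have h2 := hodd j
    rw [← hj, pow_orderOf_eq_one, mul_one] at h2
    refine hne (((d ^ j)⁻¹ * g)⁻¹) ?_
    calc ((d ^ j)⁻¹ * g)⁻¹ * u * (((d ^ j)⁻¹ * g)⁻¹)⁻¹
        = ((d ^ j)⁻¹ * g)⁻¹ * ((d ^ j)⁻¹ * y * ((d ^ j)⁻¹)⁻¹) * (((d ^ j)⁻¹ * g)⁻¹)⁻¹ := by rw [← h2]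
      _ = v := by rw [hy]; group
  obtain ⟨m, hm⟩ := Nat.not_odd_iff_even.1 hnodd
  set c := d ^ m with hc
  have hcc : c * c = 1 := by rw [hc, ← pow_add, ← hm, pow_orderOf_eq_one]
  have hc1 : c ≠ 1 := by
    intro e
    have h1 := orderOf_dvd_of_pow_eq_one e
    have h2 := orderOf_pos d
    have := Nat.le_of_dvd (by omega) h1
    omega
  have hcu : Commute u c := by
    show u * c = c * u
    rw [hc, hud, ← hc, inv_eq_of_mul_eq_one_right hcc]
  have hcy : Commute c y := by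
    rw [hyd]
    exact hcu.symm.mul_right ((Commute.refl d).pow_left m)
  have hcM : c ∈ M := hfus c u hu hu1 (by rw [← hcu.eq, mul_inv_cancel_right]; exact hu)
  have hucM : u * c ∈ M := M.mul_mem (hVM hu) hcM
  have hcV : c ∈ V := by
    obtain ⟨w, z, hz, hz1, e⟩ := hpar m
    rw [← hc] at e
    have := hclo w z hz hz1 (e ▸ hucM)
    rw [← e] at this
    have := V.mul_mem (V.inv_mem hu) this
    rwa [inv_mul_cancel_left] at this
  have hyM : y ∈ M := hfus y c hcV hc1 (by rw [← hcy.eq, mul_inv_cancel_right]; exact hcV)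
  exact hfus g v hv hv1 (hclo g v hv hv1 hyM)

end Cfsg.Agent.Lie.USixTwenty
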