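import Cfsg.Agent.Lib.Lie.USixTwenty.Local
import Cfsg.Agent.Lib.Lie.USixTwenty.TwoClasses
import Cfsg.Agent.Lib.Solv.Generation
import Mathlib.GroupTheory.Transfer

/-!
Downward induction over the subgroups of `A`: every centraliser of a subgroup of `A` lies in the
normalizer of `A`, which is therefore the whole group.
-/

set_option autoImplicit false

open scoped Pointwise

namespace Cfsg.Agent.Lie.USixTwenty

universe u v

variable {X : Type u} [Group X] [Finite X] {F : Type v} [Field F] {D : Data X F}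

/-- the hypothesis of the induction: the centralisers of the larger subgroups lie in `H` -/
def Data.Above (D : Data X F) (B : Subgroup X) : Prop :=
  ∀ B' : Subgroup X, B < B' → B' ≤ D.A → Subgroup.centralizer (B' : Set X) ≤ D.H

omit [Finite X] in
theorem Data.A_le_cent {B : Subgroup X} (hB : B ≤ D.A) : D.A ≤ Subgroup.centralizer (B : Set X) :=
  fun _ ha _ hb => Data.comm (hB hb) ha

omit [Finite X] in
theorem Data.fix_of_cent {B : Subgroup X} {g b : X} (hg : g ∈ Subgroup.centralizer (B : Set X))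
    (hb : b ∈ B) : g * b * g⁻¹ = b := by
  rw [← Subgroup.mem_centralizer_iff.1 hg b hb, mul_inv_cancel_right]

/-- a centralising element carrying an element outside `B` into `A` lies in `H` -/
theorem Data.key (hw : D.WeakFact) (hH : Subgroup.normalizer (D.A : Set X) = D.H) {B : Subgroup X}
    (hB : B ≤ D.A) (hup : D.Above B) {g : X} (hg : g ∈ Subgroup.centralizer (B : Set X)) {a : X}
    (ha : a ∈ D.A) (haB : a ∉ B) (hga : g * a * g⁻¹ ∈ D.A) : g ∈ D.H := by
  have hnot : g * a * g⁻¹ ∉ B := fun h => haB (by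
    have h1 := Data.fix_of_cent (Subgroup.inv_mem _ hg) h
    rw [show g⁻¹ * (g * a * g⁻¹) * g⁻¹⁻¹ = a by group] at h1
    exact h1 ▸ h)
  have hlt : B < B ⊔ Subgroup.zpowers (g * a * g⁻¹) :=
    lt_of_le_of_ne le_sup_left fun e => hnot (e ▸ Subgroup.mem_sup_right (Subgroup.mem_zpowers _))
  have hC := hup _ hlt (sup_le hB (Subgroup.zpowers_le.2 hga))
  have hJ : D.A.map (MulAut.conj g).toMonoidHom ≤ D.H := by
    refine le_trans ?_ hC
    rw [Subgroup.le_centralizer_iff]
    refine sup_le (fun b hb => ?_) (Subgroup.zpowers_le.2 ?_)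
    · rintro _ ⟨c, hc, rfl⟩
      have h1 := Data.fix_of_cent hg hb
      show g * c * g⁻¹ * b = b * (g * c * g⁻¹)
      conv_lhs => rw [← h1]
      conv_rhs => rw [← h1]
      exact (Commute.conj_iff g).2 (Data.comm hc (hB hb))
    · rintro _ ⟨c, hc, rfl⟩
      exact (Commute.conj_iff g).2 (Data.comm hc ha)
  have hJA : D.A.map (MulAut.conj g).toMonoidHom = D.A := by
    refine hw _ hJ ?_ ?_
    · rintro _ ⟨c, hc, rfl⟩
      show g * c * g⁻¹ * (g * c * g⁻¹) = 1
      rw [show g * c * g⁻¹ * (g * c * g⁻¹) = g * (c * c) * g⁻¹ by group, D.sq c hc]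
      group
    · rw [Subgroup.card_map_of_injective (MulAut.conj g).injective, D.card]
  rw [← hH]
  exact Fusion.mem_normalizer_of_cj_le hJA.le

/-- a conjugate inside `H` of an element of `A ∖ B` under the centraliser of `B` lies in `A` -/
theorem Data.closed_above (hs : D.Embedded) (hv : D.VecFact) (hw : D.WeakFact) (hbad : D.BadFact)
    (hH : Subgroup.normalizer (D.A : Set X) = D.H) {B : Subgroup X} (hB : B ≤ D.A) (hup : D.Above B)
    {g : X} (hg : g ∈ Subgroup.centralizer (B : Set X)) {a : X} (ha : a ∈ D.A) (haB : a ∉ B)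
    (ht : g * a * g⁻¹ ∈ D.H) : g * a * g⁻¹ ∈ D.A := by
  by_contra htA
  set t := g * a * g⁻¹ with htdef
  have hgH : g ∉ D.H := fun h => htA (Data.conj_mem h ha)
  have hgi : g⁻¹ ∈ Subgroup.centralizer (B : Set X) := Subgroup.inv_mem _ hg
  have hA : ∀ {x : X}, x ∈ D.A → x ∈ Subgroup.centralizer (B : Set X) := fun {x} h => Data.A_le_cent hB h
  -- the conjugate of `A` meets `A` in `B`
  have hUA : ∀ z ∈ D.A, g⁻¹ * z * g ∈ D.A → z ∈ B := by
    intro z hz hz'
    by_contra hzB
    refine hgH (Data.key hw hH hB hup hg hz' (fun h => hzB ?_) ?_)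
    · have h1 := Data.fix_of_cent hg h
      rw [show g * (g⁻¹ * z * g) * g⁻¹ = z by group] at h1
      exact h1 ▸ h
    · rwa [show g * (g⁻¹ * z * g) * g⁻¹ = z by group]
  have htt : t * t = 1 := by
    rw [htdef, show g * a * g⁻¹ * (g * a * g⁻¹) = g * (a * a) * g⁻¹ by group, D.sq a ha]
    group
  set V₀ : Subgroup X := D.A ⊓ D.H.map (MulAut.conj g).toMonoidHom with hV₀
  have hmem : ∀ {x : X}, x ∈ V₀ ↔ x ∈ D.A ∧ g⁻¹ * x * g ∈ D.H := fun {x} => by
    rw [hV₀, Subgroup.mem_inf]
    exact Iff.and Iff.rfl Fusion.mem_cj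
  have hconjA : ∀ {x : X}, x ∈ D.A → t * x * t ∈ D.A := fun {x} hx => by
    have := Data.conj_mem ht hx
    rwa [inv_eq_of_mul_eq_one_right htt] at this
  have hiff : ∀ {x : X}, x ∈ D.A → (x * (t * x * t) ∈ B ↔ x ∈ V₀) := by
    intro x hx
    have hxx := D.sq x hx
    have hxi : x⁻¹ = x := inv_eq_of_mul_eq_one_right hxx
    constructor
    · intro h
      refine hmem.2 ⟨hx, Data.key hw hH hB hup
        (Subgroup.mul_mem _ (Subgroup.mul_mem _ hgi (hA hx)) hg) ha haB ?_⟩
      have e : g⁻¹ * x * g * a * (g⁻¹ * x * g)⁻¹ = g⁻¹ * (x * (t * x * t)) * g * a := by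
        calc g⁻¹ * x * g * a * (g⁻¹ * x * g)⁻¹ = g⁻¹ * (x * t * x⁻¹) * g := by rw [htdef]; group
          _ = g⁻¹ * (x * t * x * (t * t)) * g := by rw [htt, mul_one, hxi]
          _ = g⁻¹ * (x * (t * x * t)) * (t * g) := by group
          _ = g⁻¹ * (x * (t * x * t)) * g * a := by rw [htdef]; group
      rw [e]
      have h1 := Data.fix_of_cent hgi h
      rw [inv_inv] at h1
      rw [h1]
      exact D.A.mul_mem (hB h) ha
    · intro h
      refine hUA _ (D.A.mul_mem hx (hconjA hx)) ?_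
      have hh := (hmem.1 h).2
      have e : g⁻¹ * (x * (t * x * t)) * g = g⁻¹ * x * g * a * (g⁻¹ * x * g)⁻¹ * a := by
        calc g⁻¹ * (x * (t * x * t)) * g = g⁻¹ * (x * (t * x⁻¹ * t)) * g := by rw [hxi]
          _ = g⁻¹ * x * g * a * (g⁻¹ * x * g)⁻¹ * a := by rw [htdef]; group
      rw [e]
      exact D.A.mul_mem (Data.conj_mem hh ha) ha
  have hBV : B ≤ V₀ := fun b hb => hmem.2 ⟨hB hb, by
    have h1 := Data.fix_of_cent hgi hb
    rw [inv_inv] at h1
    exact h1.symm ▸ Data.A_le (hB hb)⟩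
  -- the commutator with `t`
  let f : D.A →* X :=
    { toFun := fun x => (x : X) * (t * x * t)
      map_one' := by simp [htt]
      map_mul' := fun x y => by
        have e : t * ((x * y : D.A) : X) * t = t * (x : X) * t * (t * (y : X) * t) := by
          rw [Subgroup.coe_mul, show t * (x : X) * t * (t * (y : X) * t) = t * (x : X) * (t * t) * (y : X) * t by group,
            htt]
          group
        rw [e, Subgroup.coe_mul]
        calc (x : X) * y * (t * x * t * (t * y * t)) = x * ((y : X) * (t * x * t)) * (t * y * t) := by group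
          _ = x * (t * x * t * y) * (t * y * t) := by rw [Data.comm y.2 (hconjA x.2)]
          _ = _ := by group }
  have hker : B.comap f = V₀.subgroupOf D.A := by
    ext x
    exact hiff x.2
  have hrange : f.range ≤ V₀ := by
    rintro _ ⟨x, rfl⟩
    have hy : (x : X) * (t * x * t) ∈ D.A := D.A.mul_mem x.2 (hconjA x.2)
    refine (hiff hy).1 ?_
    have e : t * ((x : X) * (t * x * t)) * t = (x : X) * (t * x * t) := by
      calc t * ((x : X) * (t * x * t)) * t = t * (x : X) * t * ((x : X) * (t * t)) := by group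
        _ = t * (x : X) * t * (x : X) := by rw [htt, mul_one]
        _ = _ := (Data.comm x.2 (hconjA x.2)).symm
    show (x : X) * (t * x * t) * (t * ((x : X) * (t * x * t)) * t) ∈ B
    rw [e, D.sq _ hy]
    exact B.one_mem
  -- counting
  have hVA : V₀ ≤ D.A := inf_le_left
  have h1 : (V₀.subgroupOf D.A).index = B.relIndex f.range := by
    rw [← hker, Subgroup.index_comap]
  have h2 : B.relIndex f.range ≤ B.relIndex V₀ := Subgroup.relIndex_le_of_le_right hrange Subgroup.index_ne_zero_of_finite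
  have h3 : Nat.card V₀ * (V₀.subgroupOf D.A).index = Nat.card D.A := by
    rw [← Nat.card_congr (Subgroup.subgroupOfEquivOfLe hVA).toEquiv, Subgroup.card_mul_index]
  have h4 : Nat.card B * B.relIndex V₀ = Nat.card V₀ := by
    rw [Subgroup.relIndex, ← Nat.card_congr (Subgroup.subgroupOfEquivOfLe hBV).toEquiv, Subgroup.card_mul_index]
  -- apply the fact about `R`
  set R : Subgroup X := V₀.map (MulAut.conj g⁻¹).toMonoidHom with hR
  have hRmem : ∀ {x : X}, x ∈ R ↔ g * x * g⁻¹ ∈ V₀ := fun {x} => by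
    rw [hR]
    exact Fusion.mem_cj.trans (by rw [inv_inv])
  have hRH : R ≤ D.H := fun x hx => by
    have := (hmem.1 (hRmem.1 hx)).2
    rwa [show g⁻¹ * (g * x * g⁻¹) * g = x by group] at this
  have hRA : R ⊓ D.A = B := by
    refine le_antisymm (fun x hx => ?_) fun b hb => ⟨hRmem.2 ?_, hB hb⟩
    · obtain ⟨hx, hxA⟩ := Subgroup.mem_inf.1 hx
      have h5 : g * x * g⁻¹ ∈ B := hUA _ (hmem.1 (hRmem.1 hx)).1 (by
        rwa [show g⁻¹ * (g * x * g⁻¹) * g = x by group])
      have h6 := Data.fix_of_cent hgi h5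
      rw [show g⁻¹ * (g * x * g⁻¹) * g⁻¹⁻¹ = x by group] at h6
      exact h6 ▸ h5
    · rw [Data.fix_of_cent hg hb]
      exact hBV hb
  have hcardR : Nat.card R = Nat.card V₀ := Subgroup.card_map_of_injective (MulAut.conj g⁻¹).injective
  have hle : Nat.card D.A * Nat.card B ≤ Nat.card V₀ ^ 2 := by
    calc Nat.card D.A * Nat.card B = Nat.card V₀ * ((V₀.subgroupOf D.A).index * Nat.card B) := by
          rw [← h3]; ring
      _ ≤ Nat.card V₀ * (Nat.card B * B.relIndex V₀) := by
          rw [mul_comm (Nat.card B)]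
          exact Nat.mul_le_mul_left _ (Nat.mul_le_mul_right _ (h1 ▸ h2))
      _ = _ := by rw [h4, pow_two]
  have hnle : ¬ R ≤ D.A := fun h => by
    have e : Nat.card V₀ = Nat.card B := by rw [← hcardR, ← hRA, inf_eq_left.2 h]
    have h5 : Nat.card D.A ≤ Nat.card B := by
      refine Nat.le_of_mul_le_mul_right (c := Nat.card B) ?_ Nat.card_pos
      rw [e, pow_two] at hle
      exact hle
    exact haB (Subgroup.eq_of_le_of_card_ge hB h5 ▸ ha)
  have hsqR : ∀ x ∈ R, x * x = 1 := fun x hx => by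
    have h5 := D.sq _ (hmem.1 (hRmem.1 hx)).1
    rw [show g * x * g⁻¹ * (g * x * g⁻¹) = g * (x * x) * g⁻¹ by group] at h5
    exact conj_eq_one_iff.1 h5
  have := hbad R hRH hsqR hnle fun x hx hxA y hy hoy hyx => by
    have h5 : g * x * g⁻¹ ∈ D.A := (hmem.1 (hRmem.1 hx)).1
    have h6 : g * x * g⁻¹ ≠ 1 := fun e => hxA (by rw [conj_eq_one_iff.1 e]; exact D.A.one_mem)
    have h7 := Data.closed (g := g⁻¹) hs hv h5 h6 ⟨y, hy, hoy, by
      rw [show g⁻¹ * (g * x * g⁻¹) * g⁻¹⁻¹ = x by group]; exact hyx⟩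
    rw [show g⁻¹ * (g * x * g⁻¹) * g⁻¹⁻¹ = x by group] at h7
    exact hxA h7
  rw [hRA, hcardR] at this
  exact absurd hle (not_le.2 this)

/-- the case of a non-trivial pointwise stabiliser -/
theorem Data.step_orbit (hs : D.Embedded) (hv : D.VecFact) (hw : D.WeakFact) (hbad : D.BadFact)
    (hH : Subgroup.normalizer (D.A : Set X) = D.H) {B : Subgroup X} (hB : B ≤ D.A) (hup : D.Above B)
    {a b : X} (ha : a ∈ D.A) (hb : b ∈ D.A) (haB : a ∉ B) (hbB : b ∉ B)
    (hab : ∀ k ∈ D.H, (∀ c ∈ B, k * c = c * k) → b⁻¹ * (k * a * k⁻¹) ∉ B) :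
    Subgroup.centralizer (B : Set X) ≤ D.H := by
  set C := Subgroup.centralizer (B : Set X) with hC
  haveI hN : (B.subgroupOf C).Normal := ⟨fun x hx g => by
    rw [Subgroup.mem_subgroupOf] at hx ⊢
    rw [Subgroup.coe_mul, Subgroup.coe_mul, Subgroup.coe_inv, Data.fix_of_cent g.2 hx]
    exact hx⟩
  set π := QuotientGroup.mk' (B.subgroupOf C) with hπ
  have hsur : Function.Surjective π := QuotientGroup.mk'_surjective _
  have hone : ∀ {x : C}, π x = 1 ↔ (x : X) ∈ B := fun {x} => by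
    rw [hπ, QuotientGroup.mk'_apply, QuotientGroup.eq_one_iff, Subgroup.mem_subgroupOf]
  have heq : ∀ {x y : C}, π x = π y → (y : X)⁻¹ * x ∈ B := fun {x y} e => by
    have : π (y⁻¹ * x) = 1 := by rw [map_mul, map_inv, e, inv_mul_cancel]
    exact hone.1 this
  have hback : ∀ {S : Subgroup X}, B ≤ S → ∀ {x : C}, π x ∈ (S.subgroupOf C).map π → (x : X) ∈ S := by
    intro S hS x hx
    obtain ⟨y, hy, e⟩ := hx
    have h1 := S.mul_mem (Subgroup.mem_subgroupOf.1 hy) (hS (heq e.symm))
    rwa [mul_inv_cancel_left] at h1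
  have hM : (D.H.subgroupOf C).map π = ⊤ := by
    refine eq_top_of_fusion ((D.A.subgroupOf C).map π) _ (Subgroup.map_mono (fun x hx => Data.A_le hx))
      ?_ ?_ ?_ (u := π ⟨a, Data.A_le_cent hB ha⟩) (v := π ⟨b, Data.A_le_cent hB hb⟩)
      ⟨_, ha, rfl⟩ ⟨_, hb, rfl⟩ (fun e => haB (hone.1 e)) (fun e => hbB (hone.1 e)) ?_
    · rintro _ ⟨x, hx, rfl⟩
      rw [← map_mul, hone]
      exact (Subgroup.coe_mul C x x).symm ▸ (D.sq _ hx).symm ▸ B.one_mem
    · rintro g _ ⟨x, hx, rfl⟩ hx1 hgx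
      obtain ⟨c, rfl⟩ := hsur g
      rw [← map_inv, ← map_mul, ← map_mul] at hgx
      exact ⟨c, Data.key hw hH hB hup c.2 hx (fun h => hx1 (hone.2 h)) (hback hB hgx), rfl⟩
    · rintro g _ ⟨x, hx, rfl⟩ hx1 hgx
      obtain ⟨c, rfl⟩ := hsur g
      rw [← map_inv, ← map_mul, ← map_mul] at hgx ⊢
      exact ⟨_, Data.closed_above hs hv hw hbad hH hB hup c.2 hx (fun h => hx1 (hone.2 h))
        (hback (hB.trans Data.A_le) hgx), rfl⟩
    · intro g e
      obtain ⟨c, rfl⟩ := hsur g
      rw [← map_inv, ← map_mul, ← map_mul] at e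
      have h1 : b⁻¹ * ((c : X) * a * (c : X)⁻¹) ∈ B := heq e
      have h2 : (c : X) * a * (c : X)⁻¹ ∈ D.A := by
        have := D.A.mul_mem hb (hB h1)
        rwa [mul_inv_cancel_left] at this
      refine hab c (Data.key hw hH hB hup c.2 ha haB h2) (fun d hd => ?_) h1
      exact (Subgroup.mem_centralizer_iff.1 c.2 d hd).symm
  intro c hc
  exact hback (hB.trans Data.A_le) (x := ⟨c, hc⟩) (hM ▸ Subgroup.mem_top _)

/-- the case of a trivial pointwise stabiliser -/
theorem Data.step_free (hs : D.Embedded) (hhyp : D.HypFact) (hw : D.WeakFact)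
    (hH : Subgroup.normalizer (D.A : Set X) = D.H) {B : Subgroup X} (hB : B ≤ D.A) (hne : B ≠ D.A)
    (hup : D.Above B) (hfree : ∀ k ∈ D.K, (∀ b ∈ B, k * b = b * k) → k = 1) :
    Subgroup.centralizer (B : Set X) ≤ D.H := by
  haveI : Fact (Nat.Prime 2) := ⟨Nat.prime_two⟩
  set C := Subgroup.centralizer (B : Set X) with hC
  have hCH : C ⊓ D.H ≤ D.A := by
    intro x hx
    obtain ⟨hxC, hxH⟩ := Subgroup.mem_inf.1 hx
    obtain ⟨a, ha, k, hk, rfl⟩ := Data.exists_mul hxH
    have h1 : k ∈ C := by simpa using C.mul_mem (C.inv_mem (Data.A_le_cent hB ha)) hxC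
    rw [hfree k hk fun b hb => (Subgroup.mem_centralizer_iff.1 h1 b hb).symm, mul_one]
    exact ha
  have hAC : D.A ≤ C := Data.A_le_cent hB
  have hnA : ∀ {x : X}, x ∈ C → x ∈ Subgroup.normalizer (D.A : Set X) → x ∈ D.A := fun {x} hx hn =>
    hCH ⟨hx, hH ▸ hn⟩
  obtain ⟨S, hS, hAS⟩ := Fusion.exists_sylIn_ge Data.two_group hAC
  have hSA : S = D.A := by
    by_contra h
    obtain ⟨x, hx, hxA⟩ := SetLike.exists_of_lt (Fusion.SylIn.normalizer_growth hAS (Ne.symm h) hS.isPGroup)
    exact hxA (hnA (hS.le (Subgroup.mem_inf.1 hx).1) (Subgroup.mem_inf.1 hx).2)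
  obtain ⟨P, hP⟩ := (hSA ▸ hS : Fusion.SylIn 2 D.A C).exists_sylow_subgroupOf
  have hnorm : Subgroup.normalizer ((P : Subgroup C) : Set C) ≤ Subgroup.centralizer ((P : Subgroup C) : Set C) := by
    rw [hP]
    intro x hx
    rw [← Subgroup.subgroupOf_normalizer_eq hAC, Subgroup.mem_subgroupOf] at hx
    refine Subgroup.mem_centralizer_iff.2 fun y hy => Subtype.ext ?_
    exact Data.comm hy (hnA x.2 hx)
  set τ := MonoidHom.transferSylow P hnorm with hτ
  have hcomp : τ.ker.IsComplement' (P : Subgroup C) := MonoidHom.ker_transferSylow_isComplement' P hnorm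
  set O : Subgroup X := τ.ker.map C.subtype with hOdef
  have hOC : O ≤ C := Subgroup.map_subtype_le _
  have hcardO : Nat.card O = Nat.card τ.ker := Subgroup.card_map_of_injective C.subtype_injective
  have hodd : Odd (Nat.card O) := by
    rw [hcardO, ← hcomp.index_eq_card]
    exact Nat.not_even_iff_odd.1 fun he => P.not_dvd_index he.two_dvd
  have hchar : ∀ x : X, x ∈ O ↔ x ∈ C ∧ Odd (orderOf x) := by
    intro x
    constructor
    · exact fun hx => ⟨hOC hx, hodd.of_dvd_nat (Subgroup.orderOf_dvd_natCard O hx)⟩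
    · rintro ⟨hx, ho⟩
      refine ⟨⟨x, hx⟩, ?_, rfl⟩
      have h1 : orderOf (τ ⟨x, hx⟩) ∣ orderOf x := by
        have := orderOf_map_dvd τ ⟨x, hx⟩
        exact this.trans (Subgroup.orderOf_mk x hx).dvd
      obtain ⟨n, hn⟩ := IsPGroup.iff_orderOf.1 P.2 (τ ⟨x, hx⟩)
      rw [hn] at h1
      rcases n with _ | n
      · exact orderOf_eq_one_iff.1 (by simpa using hn)
      · exact absurd ((dvd_pow_self 2 n.succ_ne_zero).trans h1) (fun h => (Nat.not_even_iff_odd.2 ho) (even_iff_two_dvd.2 h))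
  have hinv : ∀ {y : X}, y ∈ Subgroup.normalizer (C : Set X) → ∀ o ∈ O, y * o * y⁻¹ ∈ O := by
    intro y hy o ho
    obtain ⟨h1, h2⟩ := (hchar o).1 ho
    refine (hchar _).2 ⟨(Subgroup.mem_normalizer_iff.1 hy o).1 h1, ?_⟩
    rwa [show y * o * y⁻¹ = (MulAut.conj y).toMonoidHom o from rfl,
      orderOf_injective _ (MulAut.conj y).injective]
  have hAinv : ∀ y ∈ D.A, ∀ o ∈ O, y * o * y⁻¹ ∈ O := fun y hy =>
    hinv (Subgroup.le_normalizer (hAC hy))
  have hOH : O ≤ D.H := by
    by_cases hm : ∃ a ∈ D.A, B ⊔ Subgroup.zpowers a = D.A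
    · obtain ⟨a, ha, hsup⟩ := hm
      have hcard : Nat.card D.A = 2 * Nat.card B := by
        have hdvd : Nat.card B ∣ 2 ^ 20 := D.card ▸ Subgroup.card_dvd_of_le hB
        have hle : Nat.card D.A ≤ 2 * Nat.card B := by
          have h1 : Nat.card (Subgroup.zpowers a) ≤ 2 := by
            rw [Nat.card_zpowers]
            exact Nat.le_of_dvd two_pos (orderOf_dvd_of_pow_eq_one (by rw [pow_two]; exact D.sq a ha))
          have h2 : Subgroup.zpowers a ≤ Subgroup.normalizer (B : Set X) := Subgroup.zpowers_le.2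
            (Subgroup.centralizer_le_normalizer _ (hAC ha))
          have h3 : ((B ⊔ Subgroup.zpowers a : Subgroup X) : Set X) = (B : Set X) * (Subgroup.zpowers a : Set X) :=
            Subgroup.coe_mul_of_right_le_normalizer_left _ _ h2
          have h4 := Set.natCard_mul_le (s := (B : Set X)) (t := (Subgroup.zpowers a : Set X))
          rw [← h3, hsup] at h4
          exact h4.trans ((Nat.mul_le_mul_left _ h1).trans (mul_comm _ _).le)
        obtain ⟨i, -, hi⟩ := (Nat.dvd_prime_pow Nat.prime_two).1 hdvd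
        have hlt : Nat.card B < Nat.card D.A := lt_of_le_of_ne (Subgroup.card_le_of_le hB)
          fun e => hne (Subgroup.eq_of_le_of_card_ge hB e.ge)
        obtain ⟨j, -, hj⟩ := (Nat.dvd_prime_pow Nat.prime_two).1 (D.card ▸ dvd_rfl : Nat.card D.A ∣ 2 ^ 20)
        rw [hi, hj] at hlt hle ⊢
        have hij := (Nat.pow_lt_pow_iff_right (by norm_num)).1 hlt
        rw [← pow_succ'] at hle
        have := (Nat.pow_le_pow_iff_right (by norm_num)).1 hle
        rw [← pow_succ', show j = i + 1 by omega]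
      obtain ⟨E, hEH, hE, hE9, hEB⟩ := hhyp B hB hcard
      haveI : Fact (Nat.Prime 3) := ⟨Nat.prime_three⟩
      have hEC : E ≤ Subgroup.normalizer (C : Set X) := fun e he => by
        refine Fusion.mem_normalizer_of_cj_le ?_
        rintro _ ⟨c, hc, rfl⟩
        refine Subgroup.mem_centralizer_iff.2 fun b hb => ?_
        have h1 := hEB _ (E.inv_mem he) b hb
        rw [inv_inv] at h1
        have h2 := Subgroup.mem_centralizer_iff.1 hc _ h1
        show b * (e * c * e⁻¹) = e * c * e⁻¹ * b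
        calc b * (e * c * e⁻¹) = e * (e⁻¹ * b * e * c) * e⁻¹ := by group
          _ = e * (c * (e⁻¹ * b * e)) * e⁻¹ := by rw [h2]
          _ = e * c * e⁻¹ * b := by group
      have hEO : E ≤ Subgroup.normalizer (O : Set X) := fun e he => Fusion.mem_normalizer_of_cj_le (by
        rintro _ ⟨o, ho, rfl⟩
        exact hinv (hEC he) o ho)
      have hEp : IsPGroup 3 E := IsPGroup.of_card (n := 2) (by rw [hE9]; rfl)
      have hord : ∀ x ∈ E, x ≠ 1 → orderOf x = 3 := fun x hx hx1 => orderOf_eq_prime (hE.2 x hx) hx1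
      obtain ⟨e₀, he₀, he₀1⟩ : ∃ e₀ ∈ E, e₀ ≠ 1 := by
        by_contra! h
        rw [(Subgroup.eq_bot_iff_forall E).2 h, Subgroup.card_bot] at hE9
        omega
      have hcop : (Nat.card E).Coprime (Nat.card O) := by
        rw [hE9, show (9 : ℕ) = 3 ^ 2 from rfl]
        refine Nat.Coprime.pow_left _ (Nat.prime_three.coprime_iff_not_dvd.2 fun h3 => ?_)
        obtain ⟨T, hT, hET⟩ := Fusion.exists_sylIn_ge (H := O ⊔ E) hEp le_sup_right
        have hTH : T ≤ D.H := Data.three_group hs hT.isPGroup (hET he₀) (hEH he₀) he₀1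
        have h1 : Fusion.SylIn 3 (T ⊓ O) O := hT.inf_normal le_sup_left (sup_le Subgroup.le_normalizer hEO)
        have h2 : O ⊓ D.H = ⊥ := Data.odd_eq_bot inf_le_right
          (hodd.of_dvd_nat (Subgroup.card_dvd_of_le inf_le_left))
          fun y hy o ho => ⟨hAinv y hy o ho.1, D.H.mul_mem (D.H.mul_mem (Data.A_le hy) ho.2) (D.H.inv_mem (Data.A_le hy))⟩
        have h3' : T ⊓ O = ⊥ := eq_bot_iff.2 fun x hx => h2 ▸ ⟨hx.2, hTH hx.1⟩
        refine h1.not_dvd ?_
        rwa [h3', Subgroup.relIndex_bot_left]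
      rw [← Solv.gen_eq E O hE.1 hEO hcop]
      refine iSup₂_le fun B' hB' => ?_
      obtain ⟨hB'E, e, he, hsupE⟩ := hB'
      obtain ⟨z, hz, hz1⟩ : ∃ z ∈ B', z ≠ 1 := by
        by_contra! h
        rw [(Subgroup.eq_bot_iff_forall B').2 h, bot_sup_eq] at hsupE
        rw [← hsupE, Nat.card_zpowers] at hE9
        have h4 := Nat.le_of_dvd (by norm_num) (orderOf_dvd_of_pow_eq_one (hE.2 e he))
        omega
      intro o ho
      exact Data.three_cent hs (hEH (hB'E hz)) (hord z (hB'E hz) hz1)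
        (Subgroup.mem_centralizer_iff.1 (Subgroup.mem_inf.1 ho).2 z hz).symm
    · have hAO : D.A ≤ Subgroup.normalizer (O : Set X) := fun y hy => Fusion.mem_normalizer_of_cj_le (by
        rintro _ ⟨o, ho, rfl⟩
        exact hAinv y hy o ho)
      have hcop : (Nat.card D.A).Coprime (Nat.card O) := by
        rw [D.card]
        exact Nat.Coprime.pow_left _ (Nat.prime_two.coprime_iff_not_dvd.2 hodd.not_two_dvd_nat)
      haveI hAcomm : IsMulCommutative D.A := ⟨⟨fun x y => Subtype.ext (Data.comm x.2 y.2)⟩⟩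
      rw [← Solv.gen_eq D.A O hAcomm hAO hcop]
      refine iSup₂_le fun B' hB' => ?_
      obtain ⟨hB'A, a, ha, hsupA⟩ := hB'
      obtain ⟨z, hz, hzB⟩ : ∃ z ∈ B', z ∉ B := by
        by_contra! h
        exact hm ⟨a, ha, le_antisymm (sup_le hB (Subgroup.zpowers_le.2 ha)) (hsupA.ge.trans (sup_le_sup_right h _))⟩
      intro o ho
      obtain ⟨hoO, hoc⟩ := Subgroup.mem_inf.1 ho
      refine Data.key hw hH hB hup (hOC hoO) (hB'A hz) hzB ?_
      rw [← Subgroup.mem_centralizer_iff.1 hoc z hz, mul_inv_cancel_right]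
      exact hB'A hz
  have hO1 : O = ⊥ := Data.odd_eq_bot hOH hodd hAinv
  have hk1 : τ.ker = ⊥ := by
    refine (Subgroup.eq_bot_iff_forall _).2 fun x hx => Subtype.ext ?_
    have : (x : X) ∈ O := ⟨x, hx, rfl⟩
    rwa [hO1, Subgroup.mem_bot] at this
  have hPtop : (P : Subgroup C) = ⊤ := by
    have := hcomp
    rw [hk1, Subgroup.isComplement'_bot_left] at this
    exact this
  intro c hc
  have : (⟨c, hc⟩ : C) ∈ (P : Subgroup C) := hPtop ▸ Subgroup.mem_top _
  rw [hP] at this
  exact Data.A_le this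

/-- every centraliser of a subgroup of `A` lies in `H` -/
theorem Data.centralizer_le (hs : D.Embedded) (hv : D.VecFact) (hhyp : D.HypFact) (hw : D.WeakFact)
    (horb : D.OrbitFact) (hbad : D.BadFact) (hH : Subgroup.normalizer (D.A : Set X) = D.H) :
    ∀ B : Subgroup X, B ≤ D.A → Subgroup.centralizer (B : Set X) ≤ D.H := by
  intro B hB
  induction h : Nat.card D.A - Nat.card B using Nat.strong_induction_on generalizing B with
  | _ n ih =>
    by_cases hne : B = D.A
    · rw [hne, ← hH]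
      exact Subgroup.centralizer_le_normalizer _
    have hup : D.Above B := fun B' hlt hB' => by
      refine ih _ ?_ B' hB' rfl
      have h1 := Subgroup.card_le_of_le hB'
      have h2 : Nat.card B < Nat.card B' := lt_of_le_of_ne (Subgroup.card_le_of_le hlt.le)
        fun e => hlt.ne (Subgroup.eq_of_le_of_card_ge hlt.le e.ge)
      omega
    by_cases hk : ∀ k ∈ D.K, (∀ b ∈ B, k * b = b * k) → k = 1
    · exact Data.step_free hs hhyp hw hH hB hne hup hk
    · push Not at hk
      obtain ⟨k, hkK, hkc, hk1⟩ := hk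
      obtain ⟨a, ha, b, hb, haB, hbB, hab⟩ := horb B hB ⟨k, hkK, hk1, hkc⟩
      exact Data.step_orbit hs hv hw hbad hH hB hup ha hb haB hbB hab

/-- the normalizer is the whole group -/
theorem Data.H_eq_top (hs : D.Embedded) (hv : D.VecFact) (hhyp : D.HypFact) (hw : D.WeakFact)
    (horb : D.OrbitFact) (hbad : D.BadFact) (hH : Subgroup.normalizer (D.A : Set X) = D.H) : D.H = ⊤ :=
  eq_top_iff.2 fun x _ => Data.centralizer_le hs hv hhyp hw horb hbad hH ⊥ bot_le
    (Subgroup.mem_centralizer_iff.2 fun b hb => by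
      rw [SetLike.mem_coe, Subgroup.mem_bot] at hb
      rw [hb, one_mul, mul_one])

end Cfsg.Agent.Lie.USixTwenty
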