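import Cfsg.Agent.Lib.Lie.USixTwenty.Setup
import Cfsg.Agent.Lib.Fusion.Basic

/-!
Consequences of the hypothesis that no conjugate of the normalizer by an outside element meets it in
order divisible by three.
-/

set_option autoImplicit false

namespace Cfsg.Agent.Lie.USixTwenty

universe u v

variable {X : Type u} [Group X] {F : Type v} [Field F]

/-- no outside conjugate meets `H` in order divisible by three -/
def Data.Embedded (D : Data X F) : Prop :=
  ∀ g : X, g ∉ D.H → ¬ 3 ∣ Nat.card (D.H ⊓ D.H.map (MulAut.conj g).toMonoidHom : Subgroup X)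

variable {D : Data X F}

theorem Data.A_le : D.A ≤ D.H := le_sup_left

theorem Data.K_le : D.K ≤ D.H := le_sup_right

theorem Data.H_le_norm : D.H ≤ Subgroup.normalizer (D.A : Set X) :=
  sup_le Subgroup.le_normalizer D.norm

theorem Data.conj_mem {h a : X} (hh : h ∈ D.H) (ha : a ∈ D.A) : h * a * h⁻¹ ∈ D.A :=
  (Subgroup.mem_normalizer_iff.1 (Data.H_le_norm hh) a).1 ha

theorem Data.comm {a b : X} (ha : a ∈ D.A) (hb : b ∈ D.A) : a * b = b * a := by
  have h1 := D.sq _ (D.A.mul_mem ha hb)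
  have h2 := inv_eq_of_mul_eq_one_right h1
  rw [mul_inv_rev, inv_eq_of_mul_eq_one_right (D.sq a ha), inv_eq_of_mul_eq_one_right (D.sq b hb)] at h2
  exact h2.symm

theorem Data.exists_mul {x : X} (hx : x ∈ D.H) : ∃ a ∈ D.A, ∃ k ∈ D.K, x = a * k := by
  have h : (x : X) ∈ ((D.A ⊔ D.K : Subgroup X) : Set X) := hx
  rw [Subgroup.coe_mul_of_right_le_normalizer_left D.A D.K D.norm] at h
  obtain ⟨a, ha, k, hk, rfl⟩ := Set.mem_mul.1 h
  exact ⟨a, ha, k, hk, rfl⟩

/-- an element of `H` centralising `A` lies in `A` -/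
theorem Data.mem_A {x : X} (hx : x ∈ D.H) (hc : ∀ a ∈ D.A, x * a = a * x) : x ∈ D.A := by
  obtain ⟨a, ha, k, hk, rfl⟩ := Data.exists_mul hx
  have hk1 : k = 1 := D.faithful k hk fun b hb => by
    have h1 := hc b hb
    rw [mul_assoc, ← mul_assoc b a k, Data.comm hb ha, mul_assoc a b k] at h1
    exact mul_left_cancel h1
  rwa [hk1, mul_one]

theorem Data.two_group : IsPGroup 2 D.A :=
  IsPGroup.of_card (n := 20) D.card

/-- a subgroup of odd order of `H` normalised by `A` is trivial -/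
theorem Data.odd_eq_bot [Finite X] {O : Subgroup X} (hO : O ≤ D.H) (hodd : Odd (Nat.card O))
    (hA : ∀ a ∈ D.A, ∀ o ∈ O, a * o * a⁻¹ ∈ O) : O = ⊥ := by
  have hdis : ∀ z ∈ O, z ∈ D.A → z = 1 := fun z hz hz' => by
    have h1 : orderOf z ∣ 2 := orderOf_dvd_of_pow_eq_one (by rw [pow_two]; exact D.sq z hz')
    have h2 : orderOf z ∣ Nat.card O := Subgroup.orderOf_dvd_natCard O hz
    have h3 : Nat.Coprime 2 (Nat.card O) := Nat.prime_two.coprime_iff_not_dvd.2 hodd.not_two_dvd_nat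
    exact orderOf_eq_one_iff.1 (Nat.eq_one_of_dvd_coprimes h3 h1 h2)
  refine (Subgroup.eq_bot_iff_forall _).2 fun o ho => hdis o ho (Data.mem_A (hO ho) fun a ha => ?_)
  have hmem : a * o * a⁻¹ * o⁻¹ ∈ D.A := by
    rw [show a * o * a⁻¹ * o⁻¹ = a * (o * a⁻¹ * o⁻¹) by group]
    exact D.A.mul_mem ha (Data.conj_mem (hO ho) (D.A.inv_mem ha))
  have := hdis _ (O.mul_mem (hA a ha o ho) (O.inv_mem ho)) hmem
  calc o * a = 1 * o * a := by rw [one_mul]
    _ = a * o := by rw [← this]; group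

/-- centralisers of elements of order three of `H` lie in `H` -/
theorem Data.three_cent (hs : D.Embedded) {x y : X} (hx : x ∈ D.H) (ho : orderOf x = 3)
    (hy : y * x = x * y) : y ∈ D.H := by
  by_contra h
  refine hs y h (ho ▸ Subgroup.orderOf_dvd_natCard _ (Subgroup.mem_inf.2 ⟨hx, ?_⟩))
  exact ⟨x, hx, show y * x * y⁻¹ = x by rw [hy, mul_inv_cancel_right]⟩

/-- a `3`-subgroup meeting `H` non-trivially lies in `H` -/
theorem Data.three_group [Finite X] (hs : D.Embedded) {P : Subgroup X} (hP : IsPGroup 3 P) {x : X}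
    (hxP : x ∈ P) (hx : x ∈ D.H) (hx1 : x ≠ 1) : P ≤ D.H := by
  haveI : Fact (Nat.Prime 3) := ⟨Nat.prime_three⟩
  obtain ⟨k, hk⟩ := (IsPGroup.iff_orderOf.1 hP) ⟨x, hxP⟩
  rw [Subgroup.orderOf_mk] at hk
  obtain ⟨x₀, hx₀P, hx₀, ho⟩ : ∃ x₀ ∈ P, x₀ ∈ D.H ∧ orderOf x₀ = 3 := by
    refine ⟨x ^ (orderOf x / 3), P.pow_mem hxP _, D.H.pow_mem hx _,
      orderOf_pow_orderOf_div (orderOf_pos x).ne' ?_⟩
    rcases k with _ | k
    · exact absurd (orderOf_eq_one_iff.1 (by simpa using hk)) hx1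
    · exact hk ▸ dvd_pow_self 3 k.succ_ne_zero
  haveI : Nontrivial P := ⟨⟨⟨x, hxP⟩, 1, fun e => hx1 (congrArg Subtype.val e)⟩⟩
  haveI := hP.center_nontrivial
  obtain ⟨z, hz⟩ := exists_prime_orderOf_dvd_card' (G := Subgroup.center P) 3 (by
    obtain ⟨n, hn⟩ := IsPGroup.iff_card.1 (hP.to_subgroup (Subgroup.center P))
    rcases n with _ | n
    · have := Finite.one_lt_card (α := Subgroup.center P)
      omega
    · exact hn ▸ dvd_pow_self 3 n.succ_ne_zero)
  set w : X := ((z : P) : X) with hw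
  have hwc : ∀ p ∈ P, p * w = w * p := fun p hp =>
    congrArg Subtype.val (Subgroup.mem_center_iff.1 z.2 ⟨p, hp⟩)
  have hwo : orderOf w = 3 := by rw [hw, Subgroup.orderOf_coe, Subgroup.orderOf_coe, hz]
  have hwH : w ∈ D.H := Data.three_cent hs hx₀ ho (hwc x₀ hx₀P).symm
  exact fun p hp => Data.three_cent hs hwH hwo (hwc p hp)

/-- fusion of elements commuting with elements of order three is controlled by `H` -/
theorem Data.fusion [Finite X] (hs : D.Embedded) {a g : X}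
    (hxa : ∃ x ∈ D.H, orderOf x = 3 ∧ x * a = a * x)
    (hxt : ∃ x ∈ D.H, orderOf x = 3 ∧ x * (g * a * g⁻¹) = g * a * g⁻¹ * x) :
    ∃ h ∈ D.H, g * a * g⁻¹ = h * a * h⁻¹ := by
  haveI : Fact (Nat.Prime 3) := ⟨Nat.prime_three⟩
  obtain ⟨x, hx, hox, hxa⟩ := hxa
  obtain ⟨y, hy, hoy, hyt⟩ := hxt
  have hzp : ∀ {z : X}, orderOf z = 3 → IsPGroup 3 (Subgroup.zpowers z) := fun {z} hz =>
    IsPGroup.of_card (n := 1) (by rw [Nat.card_zpowers, hz, pow_one])
  obtain ⟨P, hP, hxP⟩ := Fusion.exists_sylIn_ge (H := Subgroup.centralizer ({a} : Set X)) (hzp hox)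
    (Subgroup.zpowers_le.2 (Subgroup.mem_centralizer_singleton_iff.2 hxa))
  set t := g * a * g⁻¹ with ht
  obtain ⟨Q, hQ, hyQ⟩ := Fusion.exists_sylIn_ge (H := Subgroup.centralizer ({t} : Set X)) (hzp hoy)
    (Subgroup.zpowers_le.2 (Subgroup.mem_centralizer_singleton_iff.2 hyt))
  have hx1 : x ≠ 1 := fun e => by simp [e] at hox
  have hy1 : y ≠ 1 := fun e => by simp [e] at hoy
  have hPH : P ≤ D.H := Data.three_group hs hP.isPGroup (hxP (Subgroup.mem_zpowers x)) hx hx1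
  have hQH : Q ≤ D.H := Data.three_group hs hQ.isPGroup (hyQ (Subgroup.mem_zpowers y)) hy hy1
  have hle : Fusion.cj P g ≤ Subgroup.centralizer ({t} : Set X) := by
    rintro _ ⟨p, hp, rfl⟩
    exact Subgroup.mem_centralizer_singleton_iff.2
      ((Commute.conj_iff g).2 (Subgroup.mem_centralizer_singleton_iff.1 (hP.le hp)))
  obtain ⟨c, hc, hcle⟩ := hQ.conj_le (Fusion.isPGroup_cj hP.isPGroup g) hle
  refine ⟨c * g, ?_, ?_⟩
  · by_contra h
    refine hs _ h ?_
    have h1 : c * g * x * (c * g)⁻¹ ∈ D.H := hQH (hcle ⟨g * x * g⁻¹, ⟨x, hxP (Subgroup.mem_zpowers x), rfl⟩,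
      show c * (g * x * g⁻¹) * c⁻¹ = _ by group⟩)
    have h2 : orderOf (c * g * x * (c * g)⁻¹) = 3 :=
      (orderOf_injective (MulAut.conj (c * g)).toMonoidHom (MulAut.conj (c * g)).injective x).trans hox
    exact h2 ▸ Subgroup.orderOf_dvd_natCard _ (Subgroup.mem_inf.2 ⟨h1, ⟨x, hx, rfl⟩⟩)
  · have h1 : c * t = t * c := Subgroup.mem_centralizer_singleton_iff.1 hc
    calc t = c * t * c⁻¹ := by rw [h1, mul_inv_cancel_right]
      _ = c * g * a * (c * g)⁻¹ := by rw [ht]; group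

/-- a conjugate of an element of `A` in `H` commuting with an element of order three lies in `A` -/
theorem Data.closed [Finite X] (hs : D.Embedded) (hv : D.VecFact) {a g : X} (ha : a ∈ D.A) (ha1 : a ≠ 1)
    (hxt : ∃ x ∈ D.H, orderOf x = 3 ∧ x * (g * a * g⁻¹) = g * a * g⁻¹ * x) : g * a * g⁻¹ ∈ D.A := by
  obtain ⟨h, hh, e⟩ := Data.fusion hs (hv a ha ha1) hxt
  exact e ▸ Data.conj_mem hh ha

end Cfsg.Agent.Lie.USixTwenty
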