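import Cfsg.Agent.Lib.Lie.USixTwenty.Layers
import Cfsg.Agent.Lib.Lie.USixTwenty.Local
import Cfsg.Agent.Lib.Fusion.Basic
import Cfsg.Agent.S0280

/-!
The elements of `K₀` given by words in the generators, and the Sylow two-subgroup.
-/

set_option autoImplicit false
set_option maxRecDepth 100000

namespace Cfsg.Agent.Lie.USixTwenty

universe u v

/-- a finite set of elements closed under multiplication, as a subgroup -/
def finSub {G : Type u} [Group G] [Finite G] (S : Set G) (h1 : (1 : G) ∈ S)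
    (hm : ∀ a ∈ S, ∀ b ∈ S, a * b ∈ S) : Subgroup G where
  carrier := S
  one_mem' := h1
  mul_mem' := fun ha hb => hm _ ha _ hb
  inv_mem' := fun {a} ha => by
    have hpow : ∀ n : ℕ, a ^ n ∈ S := fun n => by
      induction n with
      | zero => rwa [pow_zero]
      | succ n ih => rw [pow_succ]; exact hm _ ih _ ha
    have h2 : a⁻¹ = a ^ (orderOf a - 1) := by
      rw [inv_eq_iff_mul_eq_one, ← pow_succ', Nat.sub_add_cancel (orderOf_pos a), pow_orderOf_eq_one]
    rw [h2]
    exact hpow _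

theorem bit_ind {n : ℕ} {P : ℕ → Prop} (h0 : P 0) (hadd : ∀ a b, a < 2 ^ n → b < 2 ^ n → P a → P b → P (a ^^^ b))
    (hb : ∀ i, i < n → P (2 ^ i)) : ∀ v, v < 2 ^ n → P v := by
  induction n with
  | zero => intro v hv; obtain rfl : v = 0 := by simpa using hv
            exact h0
  | succ n ih =>
    intro v hv
    have hlt : 2 ^ n < 2 ^ (n + 1) := Nat.pow_lt_pow_right (by norm_num) (Nat.lt_succ_self n)
    have hres := ih (fun a b ha hb' => hadd a b (ha.trans hlt) (hb'.trans hlt)) fun i hi => hb i (by omega)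
    obtain ⟨w, hw, rfl | rfl⟩ := split_top hv
    · exact hres v hw
    · exact hadd _ _ hlt (hw.trans hlt) (hb n (Nat.lt_succ_self n)) (hres w hw)

variable {X : Type u} [Group X] {F : Type v} [Field F] {D : Data X F}

namespace Coord

variable (co : Coord D)

/-- the vectors in adapted coordinates -/
def ψ (a : ℕ) : X := co.φ (app Tab.bas a)

theorem bas_lt (a : ℕ) : app Tab.bas a < 2 ^ 20 := by
  refine app_lt _ ?_ a
  have := Chk.bas_bound.1
  simpa only [List.all_eq_true, decide_eq_true_eq] using this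

theorem binv_lt (a : ℕ) : app Tab.binv a < 2 ^ 20 := by
  refine app_lt _ ?_ a
  have := Chk.bas_bound.2.1
  simpa only [List.all_eq_true, decide_eq_true_eq] using this

theorem bas_binv {a : ℕ} (ha : a < 2 ^ 20) : app Tab.bas (app Tab.binv a) = a := by
  refine ((lin_mat _).comp (lin_mat _)).ext lin_id (fun i hi => ?_) a ha
  have h := Chk.bas_inv
  simp only [List.all_eq_true, List.mem_range, Bool.and_eq_true, beq_iff_eq] at h
  exact (h i hi).1

theorem ψ_mem (a : ℕ) : co.ψ a ∈ D.A := co.mem _ (bas_lt a)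

theorem ψ_surj {x : X} (hx : x ∈ D.A) : ∃ a, a < 2 ^ 20 ∧ co.ψ a = x := by
  obtain ⟨a, ha, rfl⟩ := co.surj x hx
  exact ⟨_, binv_lt a, by rw [ψ, bas_binv ha]⟩

theorem ψ_add (a b : ℕ) : co.ψ (a ^^^ b) = co.ψ a * co.ψ b := by
  rw [ψ, app_xor]
  exact co.add _ _ (bas_lt a) (bas_lt b)

theorem ψ_inj [Finite X] {a b : ℕ} (ha : a < 2 ^ 20) (hb : b < 2 ^ 20) (h : co.ψ a = co.ψ b) : a = b := by
  let f : Fin (2 ^ 20) → D.A := fun i => ⟨co.ψ i, co.ψ_mem i⟩
  have hs : Function.Surjective f := fun x => by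
    obtain ⟨a, ha, e⟩ := co.ψ_surj x.2
    exact ⟨⟨a, ha⟩, Subtype.ext e⟩
  have hi : Function.Injective f := (hs.bijective_of_nat_card_le (by rw [Nat.card_fin, D.card])).1
  exact congrArg Fin.val (@hi ⟨a, ha⟩ ⟨b, hb⟩ (Subtype.ext h))

theorem ψ_zero : co.ψ 0 = 1 := by
  have := co.ψ_add 0 0
  rw [Nat.xor_self] at this
  exact left_eq_mul.mp this

/-- `g` acts by the matrix `M` -/
structure Acts (g : X) (M : List ℕ) : Prop where
  mem : g ∈ D.K₀
  lt : ∀ a, app M a < 2 ^ 20
  conj : ∀ a, a < 2 ^ 20 → g * co.ψ a * g⁻¹ = co.ψ (app M a)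

variable {co}

theorem Acts.one : co.Acts 1 (idM 20) :=
  ⟨D.K₀.one_mem, fun a => app_lt _ (fun r hr => mem_idM hr) a, fun a ha => by rw [app_idM ha]; group⟩

theorem Acts.mul {g h : X} {M N : List ℕ} (hg : co.Acts g M) (hh : co.Acts h N) : co.Acts (g * h) (mmul M N) := by
  refine ⟨D.K₀.mul_mem hg.mem hh.mem, fun a => by rw [app_mmul]; exact hg.lt _, fun a ha => ?_⟩
  rw [app_mmul, ← hg.conj _ (hh.lt a), ← hh.conj a ha]
  group

theorem Acts.eq {g h : X} {M N : List ℕ} (hg : co.Acts g M) (hh : co.Acts h N)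
    (e : ∀ i, i < 20 → app M (2 ^ i) = app N (2 ^ i)) : g = h := by
  have e' : ∀ a, a < 2 ^ 20 → app M a = app N a := (lin_mat M).ext (lin_mat N) e
  have h1 : h⁻¹ * g = 1 := D.faithful _ (D.le (D.K₀.mul_mem (D.K₀.inv_mem hh.mem) hg.mem)) fun x hx => by
    obtain ⟨a, ha, rfl⟩ := co.ψ_surj hx
    have h2 := hg.conj a ha
    rw [e' a ha, ← hh.conj a ha] at h2
    calc h⁻¹ * g * co.ψ a = h⁻¹ * (g * co.ψ a * g⁻¹) * g := by group
      _ = co.ψ a * (h⁻¹ * g) := by rw [h2]; group
  exact (inv_mul_eq_one.mp h1).symm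

theorem Acts.eq_of {g h : X} {M : List ℕ} (hg : co.Acts g M) (hh : co.Acts h M) : g = h :=
  hg.eq hh fun _ _ => rfl

theorem Acts.app_eq [Finite X] {g : X} {M N : List ℕ} (hg : co.Acts g M) (hh : co.Acts g N) {a : ℕ}
    (ha : a < 2 ^ 20) : app M a = app N a :=
  co.ψ_inj (hg.lt a) (hh.lt a) (by rw [← hg.conj a ha, ← hh.conj a ha])

variable (co)

/-- a generator -/
def gen (i : ℕ) : X := if h : i < 11 then co.k ⟨i, h⟩ else 1

/-- the element given by a word -/
def el (w : List ℕ) : X := (w.map co.gen).prod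

variable {co}

theorem acts_gen {i : ℕ} (hi : i < 11) : co.Acts (co.gen i) (amatAt i) := by
  have hb := Chk.bas_bound.2.2.1
  simp only [List.all_eq_true, decide_eq_true_eq] at hb
  have hlen : i < Tab.amat.length := by
    have : Tab.amat.length = 11 := by decide +kernel
    omega
  refine ⟨by rw [gen, dif_pos hi]; exact co.k_mem _, fun a => app_lt _ (fun r hr => ?_) a, fun a ha => ?_⟩
  · rw [amatAt, List.getD_eq_getElem _ _ hlen] at hr
    exact hb _ (List.getElem_mem hlen) r hr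
  · rw [gen, dif_pos hi, ψ, co.act _ _ (bas_lt a), ψ]
    refine congrArg co.φ (((lin_mat _).comp (lin_mat _)).ext ((lin_mat _).comp (lin_mat _)) (fun j hj => ?_) a ha)
    have h := Chk.adapt
    simp only [List.all_eq_true, List.mem_range, beq_iff_eq] at h
    exact (h i hi j hj).symm

theorem acts_el : ∀ {w : List ℕ}, wOK w = true → co.Acts (co.el w) (wmatrix w)
  | [], _ => by
      show co.Acts ([] : List X).prod _
      rw [List.prod_nil]
      exact Acts.one
  | i :: w, h => by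
      simp only [wOK, List.all_cons, Bool.and_eq_true, decide_eq_true_eq] at h
      have := (acts_gen (co := co) h.1).mul (acts_el (w := w) (by simpa [wOK] using h.2))
      show co.Acts ((co.gen i) :: w.map co.gen).prod _
      rw [List.prod_cons]
      exact this

theorem el_mem {w : List ℕ} (h : wOK w = true) : co.el w ∈ D.K₀ := (acts_el h).mem

/-! ### the translations -/

/-- product of the elements selected by the bits of a number -/
def gprod : List X → ℕ → X
  | [], _ => 1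
  | g :: gs, h => if Nat.testBit h 0 then g * gprod gs (h / 2) else gprod gs (h / 2)

theorem acts_gprod : ∀ {L : List X} {M : List (List ℕ)}, List.Forall₂ co.Acts L M → ∀ h,
    co.Acts (gprod L h) (mprod M h)
  | _, _, .nil, _ => Acts.one
  | _, _, .cons hg hr, h => by
      simp only [gprod, mprod]
      split
      · exact hg.mul (acts_gprod hr _)
      · exact acts_gprod hr _

theorem commute_gprod {x : X} : ∀ {L : List X}, (∀ g ∈ L, Commute x g) → ∀ h, Commute x (gprod L h)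
  | [], _, _ => Commute.one_right x
  | g :: L, hL, h => by
      simp only [gprod]
      split
      · exact (hL g List.mem_cons_self).mul_right (commute_gprod (fun y hy => hL y (List.mem_cons_of_mem _ hy)) _)
      · exact commute_gprod (fun y hy => hL y (List.mem_cons_of_mem _ hy)) _

theorem gprod_xor : ∀ {L : List X}, (∀ g ∈ L, g * g = 1) → (∀ g ∈ L, ∀ g' ∈ L, Commute g g') → ∀ a b,
    gprod L (a ^^^ b) = gprod L a * gprod L b
  | [], _, _, a, b => (mul_one 1).symm
  | g :: L, hs, hc, a, b => by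
      have hs' : ∀ x ∈ L, x * x = 1 := fun x hx => hs x (List.mem_cons_of_mem _ hx)
      have hc' : ∀ x ∈ L, ∀ y ∈ L, Commute x y := fun x hx y hy =>
        hc x (List.mem_cons_of_mem _ hx) y (List.mem_cons_of_mem _ hy)
      have ih := gprod_xor hs' hc' (a / 2) (b / 2)
      have hcg : ∀ h, g * gprod L h = gprod L h * g :=
        commute_gprod fun y hy => hc g List.mem_cons_self y (List.mem_cons_of_mem _ hy)
      have hgg := hs g List.mem_cons_self
      simp only [gprod, xor_half, ih, Nat.testBit_xor]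
      generalize gprod L (b / 2) = q
      cases a.testBit 0 <;> cases b.testBit 0 <;> simp [mul_assoc]
      · rw [← mul_assoc, hcg, mul_assoc]
      · rw [← mul_assoc (gprod L (a / 2)) g, ← hcg, mul_assoc, ← mul_assoc g g, hgg, one_mul]

variable (co)

/-- the generators of the translations -/
def rgens : List X := Tab.rwords.map co.el

/-- the translation by a form -/
def rG (h : ℕ) : X := gprod co.rgens h

variable {co}

theorem forall_rgens : List.Forall₂ co.Acts co.rgens Tab.rmat := by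
  have h := Chk.r_words
  simp only [List.all_eq_true, List.mem_range, Bool.and_eq_true, beq_iff_eq] at h
  have h9 : Tab.rwords.length = 9 ∧ Tab.rmat.length = 9 := by decide +kernel
  rw [List.forall₂_iff_get]
  refine ⟨by simp [rgens, h9.1, h9.2], fun j h₁ h₂ => ?_⟩
  have hj : j < 9 := h9.2 ▸ h₂
  have e1 : co.rgens.get ⟨j, h₁⟩ = co.el (Tab.rwords.getD j []) := by
    simp [rgens, List.getD_eq_getElem?_getD, h9.1, hj]
  have e2 : Tab.rmat.get ⟨j, h₂⟩ = Tab.rmat.getD j [] := by simp [List.getD_eq_getElem?_getD, h9.2, hj]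
  rw [e1, e2, ← (h j hj).2]
  exact acts_el (h j hj).1

theorem acts_rG (h : ℕ) : co.Acts (co.rG h) (rM h) := acts_gprod forall_rgens h

theorem rgens_spec : (∀ g ∈ co.rgens, g * g = 1) ∧ (∀ g ∈ co.rgens, ∀ g' ∈ co.rgens, Commute g g') := by
  have h := Chk.r_comm
  simp only [List.all_eq_true, Bool.and_eq_true, beq_iff_eq] at h
  have key : ∀ g ∈ co.rgens, ∃ M ∈ Tab.rmat, co.Acts g M := fun g hg => by
    obtain ⟨j, hj, rfl⟩ := List.getElem_of_mem hg
    obtain ⟨hl, hget⟩ := List.forall₂_iff_get.mp (forall_rgens (co := co))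
    exact ⟨_, List.get_mem _ ⟨j, hl ▸ hj⟩, hget j hj (hl ▸ hj)⟩
  refine ⟨fun g hg => ?_, fun g hg g' hg' => ?_⟩
  · obtain ⟨M, hM, hA⟩ := key g hg
    refine (hA.mul hA).eq_of ?_
    rw [(h M hM).1]
    exact Acts.one
  · obtain ⟨M, hM, hA⟩ := key g hg
    obtain ⟨N, hN, hB⟩ := key g' hg'
    refine (hA.mul hB).eq_of ?_
    rw [(h M hM).2 N hN]
    exact hB.mul hA

theorem rG_xor (a b : ℕ) : co.rG (a ^^^ b) = co.rG a * co.rG b := gprod_xor rgens_spec.1 rgens_spec.2 a b

theorem rG_zero : co.rG 0 = 1 := by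
  have := rG_xor (co := co) 0 0
  rw [Nat.xor_self] at this
  exact left_eq_mul.mp this

theorem rG_sq (a : ℕ) : co.rG a * co.rG a = 1 := by rw [← rG_xor, Nat.xor_self, rG_zero]

theorem rG_base {h : ℕ} (hh : h < 2 ^ 9) : hi (app (rM h) (2 ^ 19)) = 512 ^^^ h := by
  rw [(rspec hh).top _ (by norm_num)]
  norm_num [hi, topc]

theorem rG_inj [Finite X] {a b : ℕ} (ha : a < 2 ^ 9) (hb : b < 2 ^ 9) (e : co.rG a = co.rG b) : a = b := by
  have h1 := (acts_rG (co := co) a).app_eq (e ▸ acts_rG b) (a := 2 ^ 19) (by norm_num)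
  have h2 := congrArg hi h1
  rw [rG_base ha, rG_base hb] at h2
  exact Nat.xor_right_inj.mp h2

/-! ### the unipotent group -/

variable (co)

/-- the product of the generators of the unipotent group selected by the lowest bits -/
def uP : ℕ → ℕ → X
  | 0, _ => 1
  | j + 1, a => if 2 ^ j ≤ a then co.el (Tab.uwords.getD j []) * uP j (a - 2 ^ j) else uP j a

/-- the element of the unipotent group with the given coordinates -/
def uG (a : ℕ) : X := uP co 6 a

variable {co}

theorem acts_ugen {j : ℕ} (hj : j < 6) : co.Acts (co.el (Tab.uwords.getD j [])) (uM (2 ^ j)) := by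
  have h := Chk.u_words.2
  simp only [List.all_eq_true, List.mem_range, Bool.and_eq_true, beq_iff_eq] at h
  rw [← (h j hj).1.2]
  exact acts_el (h j hj).1.1

theorem acts_uP : ∀ {j a : ℕ}, j ≤ 6 → a < 2 ^ j → co.Acts (uP co j a) (uM a)
  | 0, a, _, ha => by
      obtain rfl : a = 0 := by simpa using ha
      rw [Chk.u_words.1]
      exact Acts.one
  | j + 1, a, hj, ha => by
      rw [pow_succ] at ha
      simp only [uP]
      split
      · rename_i hle
        have h := Chk.u_words.2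
        simp only [List.all_eq_true, List.mem_range, Bool.and_eq_true, beq_iff_eq] at h
        have e := (h j (by omega)).2 (a - 2 ^ j) (by omega)
        rw [Nat.add_sub_cancel' hle] at e
        rw [e]
        exact (acts_ugen (by omega)).mul (acts_uP (by omega) (by omega))
      · exact acts_uP (by omega) (by omega)

theorem acts_uG {a : ℕ} (ha : a < 64) : co.Acts (co.uG a) (uM a) := acts_uP le_rfl ha

theorem uG_zero : co.uG 0 = 1 := (acts_uG (by norm_num)).eq Acts.one fun i _ => by rw [Chk.u_words.1]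

variable (co)

/-- the unipotent group as a set -/
def uSet : Set X := {x | ∃ a, a < 64 ∧ co.uG a = x}

variable {co}

theorem uSet_gen {x : X} (hx : x ∈ co.uSet) {j : ℕ} (hj : j < 6) :
    x * co.el (Tab.uwords.getD j []) ∈ co.uSet := by
  obtain ⟨a, ha, rfl⟩ := hx
  have h := Chk.u_closed
  simp only [List.all_eq_true, List.mem_range, List.contains_iff_mem] at h
  obtain ⟨c, hc, e⟩ := List.getElem_of_mem (h.1 a ha j hj)
  refine ⟨c, h.2 ▸ hc, (acts_uG (h.2 ▸ hc)).eq_of ?_⟩
  rw [show uM c = mmul (uM a) (uM (2 ^ j)) by rw [← e]; exact List.getD_eq_getElem _ _ hc]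
  exact (acts_uG ha).mul (acts_ugen hj)

theorem uSet_uP {x : X} : ∀ {j : ℕ}, j ≤ 6 → ∀ b, x ∈ co.uSet → x * uP co j b ∈ co.uSet
  | 0, _, b, hx => by
      show x * 1 ∈ _
      rwa [mul_one]
  | j + 1, hj, b, hx => by
      simp only [uP]
      split
      · rw [← mul_assoc]
        exact uSet_uP (by omega) _ (uSet_gen hx (by omega))
      · exact uSet_uP (by omega) _ hx

theorem uSet_mul {x y : X} (hx : x ∈ co.uSet) (hy : y ∈ co.uSet) : x * y ∈ co.uSet := by
  obtain ⟨b, -, rfl⟩ := hy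
  exact uSet_uP le_rfl b hx

theorem ugen_norm {j : ℕ} (hj : j < 6) {h : ℕ} (hh : h < 2 ^ 9) :
    ∃ h', h' < 2 ^ 9 ∧ co.el (Tab.uwords.getD j []) * co.rG h = co.rG h' * co.el (Tab.uwords.getD j []) := by
  refine bit_ind (n := 9) (P := fun h => ∃ h', h' < 2 ^ 9 ∧
    co.el (Tab.uwords.getD j []) * co.rG h = co.rG h' * co.el (Tab.uwords.getD j [])) ?_ ?_ ?_ h hh
  · exact ⟨0, by norm_num, by rw [rG_zero, mul_one, one_mul]⟩
  · rintro a b - - ⟨a', ha', ea⟩ ⟨b', hb', eb⟩
    exact ⟨a' ^^^ b', Nat.xor_lt_two_pow ha' hb', by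
      rw [rG_xor, rG_xor, ← mul_assoc, ea, mul_assoc, eb, mul_assoc]⟩
  · intro i hi
    have h1 := Chk.u_norm
    simp only [List.all_eq_true, List.mem_range, beq_iff_eq] at h1
    have hb : actJ (2 ^ j) (2 ^ i) < 2 ^ 9 := by
      have h2 := Chk.u_shape
      simp only [List.all_eq_true, List.mem_range, Bool.and_eq_true, beq_iff_eq, decide_eq_true_eq] at h2
      exact ((h2 (2 ^ j) (Nat.pow_lt_pow_right (by norm_num) hj : 2 ^ j < 2 ^ 6)).2 i hi).2
    have e : ∀ i < 9, ∀ k < 20, app (rM (2 ^ i)) (2 ^ k) = app (Tab.rmat.getD i []) (2 ^ k) := by decide +kernel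
    have e' : ∀ v, v < 2 ^ 20 → app (rM (2 ^ i)) v = app (Tab.rmat.getD i []) v :=
      (lin_mat _).ext (lin_mat _) (e i hi)
    refine ⟨_, hb, ((acts_ugen hj).mul (acts_rG _)).eq ((acts_rG _).mul (acts_ugen hj)) fun k hk => ?_⟩
    rw [app_mmul, e' _ (Nat.pow_lt_pow_right (by norm_num) hk), ← app_mmul, h1 j hj i hi]

theorem uG_norm {a : ℕ} : ∀ {j : ℕ}, j ≤ 6 → ∀ {h : ℕ}, h < 2 ^ 9 →
    ∃ h', h' < 2 ^ 9 ∧ uP co j a * co.rG h = co.rG h' * uP co j a := by
  intro j
  induction j generalizing a with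
  | zero => exact fun _ h hh => ⟨h, hh, by rw [uP, one_mul, mul_one]⟩
  | succ j ih =>
    intro hj h hh
    simp only [uP]
    split
    · obtain ⟨h1, hh1, e1⟩ := ih (a := a - 2 ^ j) (by omega) hh
      obtain ⟨h2, hh2, e2⟩ := ugen_norm (co := co) (j := j) (by omega) hh1
      exact ⟨h2, hh2, by rw [mul_assoc, e1, ← mul_assoc, e2, mul_assoc]⟩
    · exact ih (by omega) hh

theorem uM_base {a : ℕ} (ha : a < 64) : app (uM a) (2 ^ 19) = 2 ^ 19 := by
  have h2 := Chk.u_shape
  simp only [List.all_eq_true, List.mem_range, Bool.and_eq_true, beq_iff_eq, decide_eq_true_eq] at h2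
  exact (h2 a ha).1.2

theorem uG_conj [Finite X] {a h : ℕ} (ha : a < 64) (hh : h < 2 ^ 9) :
    actJ a h < 2 ^ 9 ∧ co.uG a * co.rG h = co.rG (actJ a h) * co.uG a := by
  obtain ⟨h', hh', e⟩ := uG_norm (co := co) (a := a) (j := 6) le_rfl hh
  have e1 := ((acts_uG (co := co) ha).mul (acts_rG h)).app_eq (N := mmul (rM h') (uM a))
    (by rw [show co.uG a * co.rG h = co.rG h' * co.uG a from e]; exact (acts_rG h').mul (acts_uG ha)) (a := 2 ^ 19) (by norm_num)
  rw [app_mmul, app_mmul, uM_base ha] at e1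
  set w := app (rM h) (2 ^ 19) with hw
  have hw1 : hi w = 512 ^^^ h := rG_base hh
  have hw20 : w < 2 ^ 20 := (rspec hh).lt _
  have hrest : 2 ^ 19 ^^^ w < 2 ^ 19 := by
    refine lt_of_hi (n := 9) ?_
    rw [lin_hi, hw1, show hi (2 ^ 19) = 512 by norm_num [hi], ← Nat.xor_assoc, Nat.xor_self, Nat.zero_xor]
    exact hh
  have e2 : app (uM a) w = 2 ^ 19 ^^^ app (uM a) (2 ^ 19 ^^^ w) := by
    rw [app_xor, uM_base ha, xor_self_left]
  have e3 := congrArg hi e1
  rw [rG_base hh', e2, lin_hi, u_top ha hrest, lin_hi, hw1, show hi (2 ^ 19) = 512 by norm_num [hi],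
    xor_self_left] at e3
  have e4 : h' = actJ a h := by
    have := congrArg (fun x => 512 ^^^ x) e3
    simpa [xor_self_left] using this.symm
  exact e4 ▸ ⟨hh', e⟩

theorem uG_inj {a b : ℕ} [Finite X] (ha : a < 64) (hb : b < 64) (e : co.uG a = co.uG b) : a = b := by
  by_contra hne
  have h := Chk.u_nodup
  simp only [List.all_eq_true, List.mem_range, bne_iff_ne] at h
  have hlen : ∀ c, c < 64 → (uM c).length = 20 := by decide +kernel
  have hl : uM a = uM b := List.ext_getElem (by rw [hlen a ha, hlen b hb]) fun i h₁ h₂ => by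
    rw [← app_bit _ i h₁, ← app_bit _ i h₂]
    exact (acts_uG (co := co) ha).app_eq (e ▸ acts_uG hb) (Nat.pow_lt_pow_right (by norm_num) (hlen a ha ▸ h₁))
  rcases Nat.lt_or_gt_of_ne hne with h' | h'
  · exact h b hb a h' hl.symm
  · exact h a ha b h' hl

variable (co)

/-- the Sylow two-subgroup -/
noncomputable def sylTwo [Finite X] : Subgroup X :=
  finSub {x | ∃ h, h < 2 ^ 9 ∧ ∃ a, a < 64 ∧ co.rG h * co.uG a = x}
    ⟨0, by norm_num, 0, by norm_num, by rw [rG_zero, uG_zero, mul_one]⟩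
    (by
      rintro _ ⟨h, hh, a, ha, rfl⟩ _ ⟨h', hh', a', ha', rfl⟩
      obtain ⟨hc, e⟩ := uG_conj (co := co) ha hh'
      obtain ⟨c, hc', e'⟩ := uSet_mul (co := co) ⟨a, ha, rfl⟩ ⟨a', ha', rfl⟩
      refine ⟨h ^^^ actJ a h', Nat.xor_lt_two_pow hh hc, c, hc', ?_⟩
      rw [rG_xor, e', mul_assoc (co.rG h) (co.uG a), ← mul_assoc (co.uG a), e]
      simp only [mul_assoc])

variable {co}

theorem mem_sylTwo [Finite X] {x : X} :
    x ∈ co.sylTwo ↔ ∃ h, h < 2 ^ 9 ∧ ∃ a, a < 64 ∧ co.rG h * co.uG a = x := Iff.rfl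

theorem sylTwo_le [Finite X] : co.sylTwo ≤ D.K₀ := by
  rintro _ ⟨h, -, a, ha, rfl⟩
  exact D.K₀.mul_mem (acts_rG h).mem (acts_uG ha).mem

theorem pair_inj [Finite X] {h h' a a' : ℕ} (hh : h < 2 ^ 9) (hh' : h' < 2 ^ 9) (ha : a < 64) (ha' : a' < 64)
    (e : co.rG h * co.uG a = co.rG h' * co.uG a') : h = h' ∧ a = a' := by
  have e1 := ((acts_rG (co := co) h).mul (acts_uG ha)).app_eq (e ▸ (acts_rG h').mul (acts_uG ha')) (a := 2 ^ 19)
    (by norm_num)
  rw [app_mmul, app_mmul, uM_base ha, uM_base ha'] at e1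
  have e2 := congrArg hi e1
  rw [rG_base hh, rG_base hh'] at e2
  obtain rfl := Nat.xor_right_inj.mp e2
  exact ⟨rfl, uG_inj ha ha' (mul_left_cancel e)⟩

theorem card_sylTwo [Finite X] : Nat.card co.sylTwo = 2 ^ 15 := by
  let f : Fin (2 ^ 9) × Fin 64 → co.sylTwo := fun p => ⟨_, ⟨p.1, p.1.2, p.2, p.2.2, rfl⟩⟩
  have hf : Function.Bijective f := by
    refine ⟨fun p q e => ?_, ?_⟩
    · obtain ⟨e1, e2⟩ := pair_inj p.1.2 q.1.2 p.2.2 q.2.2 (congrArg Subtype.val e)
      exact Prod.ext (Fin.ext e1) (Fin.ext e2)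
    · rintro ⟨x, h, hh, a, ha, rfl⟩
      exact ⟨(⟨h, hh⟩, ⟨a, ha⟩), rfl⟩
  rw [← Nat.card_eq_of_bijective f hf]
  simp

end Coord

/-- the order of `K₀` -/
theorem card_K₀ [Finite X] [Fintype F] (hF : Fintype.card F = 4) (D : Data X F) :
    Nat.card D.K₀ = 9196830720 := by
  obtain ⟨e⟩ := D.iso
  rw [Nat.card_congr e.toEquiv]
  have h := Cfsg.Agent.S0280.result (F := F) (q := 2) (by rw [hF]; norm_num) 6 (by norm_num)
  norm_num [Finset.prod_range_succ, Nat.even_iff] at h
  omega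

/-- Sylow's theorem inside a subgroup, for a subgroup of the full prime power order -/
theorem conj_into [Finite X] {H P Q : Subgroup X} {p n : ℕ} [Fact p.Prime] (hP : P ≤ H)
    (hPc : Nat.card P = p ^ n) (hn : ¬ p ^ (n + 1) ∣ Nat.card H) (hQ : IsPGroup p Q) (hQH : Q ≤ H) :
    ∃ g ∈ H, ∀ x ∈ Q, g * x * g⁻¹ ∈ P := by
  obtain ⟨T, hT, hPT⟩ := Fusion.exists_sylIn_ge (H := H) (IsPGroup.of_card hPc) hP
  obtain ⟨m, hm⟩ := IsPGroup.iff_card.mp hT.isPGroup
  have hle := Subgroup.card_le_of_le hPT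
  have hdvd : p ^ m ∣ Nat.card H := hm ▸ Subgroup.card_dvd_of_le hT.le
  have hmn : m ≤ n := by
    by_contra hc
    exact hn (dvd_trans (pow_dvd_pow p (by omega)) hdvd)
  have hTP : T = P := (Subgroup.eq_of_le_of_card_ge hPT (by
    rw [hPc, hm]; exact Nat.pow_le_pow_right (Fact.out : p.Prime).pos hmn)).symm
  obtain ⟨c, hc, hcle⟩ := hT.conj_le hQ hQH
  exact ⟨c, hc, fun x hx => hTP ▸ hcle ⟨x, hx, rfl⟩⟩

end Cfsg.Agent.Lie.USixTwenty
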