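import Cfsg.Agent.Lib.Lie.USixTwenty.CharFacts
import Mathlib.Algebra.BigOperators.Group.Finset.Basic
import Mathlib.SetTheory.Cardinal.Finite

/-!
Weight planes of a representation of order `2 ^ 20` of `SU(6, 2)` over two elements: the ten planes of
the three-element subsets, and nothing else.
-/

set_option autoImplicit false
set_option maxRecDepth 100000

namespace Cfsg.Agent.Lie.USixTwenty

universe u

/-- a representation of order `2 ^ 20` over two elements, trivial on scalars, not on the diagonal group -/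
structure Rep (M : Type u) [AddCommGroup M] where
  ρ : SU6 →* AddMonoid.End M
  two : ∀ m : M, m + m = 0
  card : Nat.card M = 2 ^ 20
  scal : ∀ k : ZMod 3, ρ (dg fun _ => k) = 1
  nontriv : ∃ x : XV, ev x ∧ ρ (dg x) ≠ 1

theorem mem_evs {x : XV} : x ∈ evs ↔ ev x := by simp [evs]

theorem mem_kerc {c : Fin 40} {x : XV} : x ∈ kerc c ↔ ev x ∧ chi c x = 0 := by
  rw [kerc, Finset.mem_filter, mem_evs]

theorem chi_add (c : Fin 40) (x y : XV) : chi c (x + y) = chi c x + chi c y := by
  simp only [chi, Pi.add_apply, mul_add, Finset.sum_add_distrib]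

theorem chi_smul (c : Fin 40) (k : ZMod 3) (x : XV) : chi c (k • x) = k * chi c x := by
  simp only [chi, Pi.smul_apply, smul_eq_mul, Finset.mul_sum]
  exact Finset.sum_congr rfl fun i _ => by ring

theorem ev_smul {x : XV} (hx : ev x) (k : ZMod 3) : ev (k • x) := by
  show ∑ i, k * x i = 0
  rw [← Finset.mul_sum, hx, mul_zero]

theorem ev_zero : ev (0 : XV) := Finset.sum_const_zero

theorem ev_neg {x : XV} (hx : ev x) : ev (-x) := by
  show ∑ i, -x i = 0
  rw [Finset.sum_neg_distrib, hx, neg_zero]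

variable {M : Type u} [AddCommGroup M] (R : Rep M)

/-- the action -/
def Rep.act (g : SU6) (m : M) : M := R.ρ g m

theorem Rep.act_mul (g h : SU6) (m : M) : R.act (g * h) m = R.act g (R.act h m) := by
  show R.ρ (g * h) m = _
  rw [map_mul]
  rfl

theorem Rep.act_one (m : M) : R.act 1 m = m := by
  show R.ρ 1 m = _
  rw [map_one]
  rfl

theorem Rep.act_add (g : SU6) (m n : M) : R.act g (m + n) = R.act g m + R.act g n := map_add (R.ρ g) m n

theorem Rep.act_zero (g : SU6) : R.act g 0 = 0 := map_zero (R.ρ g)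

theorem Rep.act_sum {ι : Type} (s : Finset ι) (f : ι → M) (g : SU6) :
    R.act g (∑ i ∈ s, f i) = ∑ i ∈ s, R.act g (f i) := map_sum (R.ρ g) f s

theorem Rep.act_inj {g : SU6} {m n : M} (h : R.act g m = R.act g n) : m = n := by
  have := congrArg (R.act g⁻¹) h
  rwa [← R.act_mul, ← R.act_mul, inv_mul_cancel, R.act_one, R.act_one] at this

/-- the diagonal action -/
def Rep.dd (x : XV) (m : M) : M := R.act (dg x) m

theorem Rep.dd_add {x y : XV} (hx : ev x) (hy : ev y) (m : M) : R.dd (x + y) m = R.dd x (R.dd y m) := by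
  show R.act (dg (x + y)) m = _
  rw [dg_add hx hy, R.act_mul]
  rfl

theorem Rep.dd_zero (m : M) : R.dd 0 m = m := by
  show R.act (dg 0) m = m
  rw [dg_zero, R.act_one]

theorem Rep.pm_dd {x : XV} (hx : ev x) (σ : Equiv.Perm (Fin 6)) (m : M) :
    R.act (pm σ) (R.dd (x ∘ σ) m) = R.dd x (R.act (pm σ) m) := by
  show R.act (pm σ) (R.act (dg (x ∘ σ)) m) = R.act (dg x) (R.act (pm σ) m)
  rw [← R.act_mul, ← R.act_mul, pm_dg hx]

include R in
theorem Rep.nsmul_eq (n : ℕ) (m : M) : n • m = if Even n then 0 else m := by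
  induction n with
  | zero => simp
  | succ k ih =>
    rw [succ_nsmul, ih]
    by_cases h : Even k
    · rw [if_pos h, if_neg (by simp [Nat.even_add_one, h]), zero_add]
    · rw [if_neg h, if_pos (by simp [Nat.even_add_one, h]), R.two]

/-- the sum over the diagonal group -/
def Rep.sg (m : M) : M := ∑ x ∈ evs, R.dd x m

/-- the sum over the kernel of a character -/
def Rep.pr (c : Fin 40) (m : M) : M := ∑ x ∈ kerc c, R.dd x m

theorem Rep.sg_add (m n : M) : R.sg (m + n) = R.sg m + R.sg n := by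
  simp only [Rep.sg, Rep.dd, R.act_add, Finset.sum_add_distrib]

theorem Rep.sg_shift {x : XV} (hx : ev x) (m : M) : R.sg (R.dd x m) = R.sg m := by
  unfold Rep.sg
  refine Finset.sum_nbij (· + x) (fun y hy => mem_evs.2 (ev_add (mem_evs.1 hy) hx))
    (fun a _ b _ h => add_right_cancel h) (fun y hy => ?_) (fun y hy => (R.dd_add (mem_evs.1 hy) hx m).symm)
  exact ⟨y + -x, Finset.mem_coe.2 (mem_evs.2 (ev_add (mem_evs.1 (Finset.mem_coe.1 hy)) (ev_neg hx))),
    neg_add_cancel_right y x⟩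

theorem Rep.pr_shift {c : Fin 40} {x : XV} (hx : x ∈ kerc c) (m : M) : R.pr c (R.dd x m) = R.pr c m := by
  unfold Rep.pr
  obtain ⟨h1, h2⟩ := mem_kerc.1 hx
  refine Finset.sum_nbij (· + x) (fun y hy => ?_) (fun a _ b _ h => add_right_cancel h) (fun y hy => ?_)
    (fun y hy => (R.dd_add (mem_kerc.1 hy).1 h1 m).symm)
  · obtain ⟨h3, h4⟩ := mem_kerc.1 hy
    exact mem_kerc.2 ⟨ev_add h3 h1, by rw [chi_add, h4, h2, add_zero]⟩
  · obtain ⟨h3, h4⟩ := mem_kerc.1 (Finset.mem_coe.1 hy)
    exact ⟨y + -x, Finset.mem_coe.2 (mem_kerc.2 ⟨ev_add h3 (ev_neg h1), by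
      rw [chi_add, h4, show -x = (-1 : ZMod 3) • x by simp, chi_smul, h2, mul_zero, add_zero]⟩),
      neg_add_cancel_right y x⟩

theorem Rep.pr_dd_fixed {c : Fin 40} {x : XV} (hx : x ∈ kerc c) (m : M) : R.dd x (R.pr c m) = R.pr c m := by
  refine Eq.trans ?_ (R.pr_shift hx m)
  show R.act (dg x) (∑ y ∈ kerc c, R.dd y m) = _
  rw [R.act_sum]
  refine Finset.sum_congr rfl fun y hy => ?_
  show R.dd x (R.dd y m) = R.dd y (R.dd x m)
  rw [← R.dd_add (mem_kerc.1 hx).1 (mem_kerc.1 hy).1, ← R.dd_add (mem_kerc.1 hy).1 (mem_kerc.1 hx).1, add_comm]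

/-- the plane of a character -/
def Rep.InP (c : Fin 40) (v : M) : Prop := (∀ x ∈ kerc c, R.dd x v = v) ∧ R.sg v = 0

theorem Rep.inP_zero (c : Fin 40) : R.InP c 0 :=
  ⟨fun x _ => R.act_zero _, by
    show ∑ x ∈ evs, R.dd x 0 = 0
    exact Finset.sum_eq_zero fun x _ => R.act_zero _⟩

theorem Rep.inP_add {c : Fin 40} {v w : M} (hv : R.InP c v) (hw : R.InP c w) : R.InP c (v + w) :=
  ⟨fun x hx => by
    show R.act (dg x) (v + w) = v + w
    rw [R.act_add]
    exact congrArg₂ (· + ·) (hv.1 x hx) (hw.1 x hx), by rw [R.sg_add, hv.2, hw.2, add_zero]⟩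

theorem Rep.inP_dd {c : Fin 40} {v : M} (hv : R.InP c v) {y : XV} (hy : ev y) : R.InP c (R.dd y v) :=
  ⟨fun x hx => by
    rw [← R.dd_add (mem_kerc.1 hx).1 hy, add_comm, R.dd_add hy (mem_kerc.1 hx).1, hv.1 x hx],
    by rw [R.sg_shift hy, hv.2]⟩

/-- a vector in a plane sees a diagonal element only through the character -/
theorem Rep.dd_congr {c : Fin 40} {v : M} (hv : R.InP c v) {x y : XV} (hx : ev x) (hy : ev y)
    (h : chi c x = chi c y) : R.dd x v = R.dd y v := by
  have hk : -y + x ∈ kerc c := mem_kerc.2 ⟨ev_add (ev_neg hy) hx, by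
    rw [chi_add, show -y = (-1 : ZMod 3) • y by simp, chi_smul, h, neg_one_mul, neg_add_cancel]⟩
  have := congrArg (R.dd y) (hv.1 _ hk)
  rwa [← R.dd_add hy (mem_kerc.1 hk).1, add_neg_cancel_left] at this

theorem Rep.sg_fixed {w : M} (h : ∀ x, ev x → R.dd x w = w) : R.sg w = w := by
  show ∑ x ∈ evs, R.dd x w = w
  rw [Finset.sum_congr rfl fun x hx => h x (mem_evs.1 hx), Finset.sum_const, R.nsmul_eq,
    if_neg (fun h => (card_evs.1 ▸ h : False))]

theorem Rep.pr_self {c : Fin 40} {v : M} (hv : R.InP c v) : R.pr c v = v := by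
  show ∑ x ∈ kerc c, R.dd x v = v
  rw [Finset.sum_congr rfl fun x hx => hv.1 x hx, Finset.sum_const, R.nsmul_eq, if_neg (card_evs.2 c)]

theorem Rep.line_sum {c : Fin 40} {v : M} (hv : R.InP c v) {a : XV} (ha : ev a) (hc : chi c a = 1) :
    v + R.dd a v + R.dd (a + a) v = 0 := by
  set w := v + R.dd a v + R.dd (a + a) v with hw
  have hfix : ∀ x, ev x → R.dd x w = w := by
    intro x hx
    have e : R.dd x w = R.dd x v + R.dd (x + a) v + R.dd (x + (a + a)) v := by
      rw [hw, R.dd_add hx ha, R.dd_add hx (ev_add ha ha)]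
      show R.act _ (_ + _ + _) = _
      rw [R.act_add, R.act_add]
      rfl
    have hk : ∀ k : ZMod 3, k = 0 ∨ k = 1 ∨ k = 2 := by decide
    have h0 : v = R.dd 0 v := (R.dd_zero v).symm
    rw [e, hw]
    rcases hk (chi c x) with h | h | h
    · rw [R.dd_congr hv hx ev_zero (by rw [h, show (0 : XV) = (0 : ZMod 3) • a by simp, chi_smul, zero_mul]),
        ← h0, R.dd_congr hv (ev_add hx ha) ha (by rw [chi_add, h, zero_add]),
        R.dd_congr hv (ev_add hx (ev_add ha ha)) (ev_add ha ha) (by rw [chi_add c x, h, zero_add])]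
    · rw [R.dd_congr hv hx ha (by rw [h, hc]), R.dd_congr hv (ev_add hx ha) (ev_add ha ha) (by simp [chi_add, h, hc]),
        R.dd_congr hv (ev_add hx (ev_add ha ha)) ev_zero (by simp [chi_add, h, hc]; simp [chi]; decide), ← h0]
      abel
    · rw [R.dd_congr hv hx (ev_add ha ha) (by simp [chi_add, h, hc]; decide),
        R.dd_congr hv (ev_add hx ha) ev_zero (by simp [chi_add, h, hc]; simp [chi]; decide), ← h0,
        R.dd_congr hv (ev_add hx (ev_add ha ha)) ha (by simp [chi_add, h, hc]; decide)]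
      abel
  rw [← R.sg_fixed hfix, hw, R.sg_add, R.sg_add, R.sg_shift ha, R.sg_shift (ev_add ha ha), hv.2, add_zero,
    add_zero]

theorem Rep.pr_add (c : Fin 40) (m n : M) : R.pr c (m + n) = R.pr c m + R.pr c n := by
  simp only [Rep.pr, Rep.dd, R.act_add, Finset.sum_add_distrib]

/-- the projections are orthogonal -/
theorem Rep.pr_other {c c' : Fin 40} (h : c ≠ c') {v : M} (hv : R.InP c v) : R.pr c' v = 0 := by
  obtain ⟨a, ha, hca, hca'⟩ := separate c c' h
  have ha' : a ∈ kerc c' := mem_kerc.2 ⟨mem_evs.1 ha, hca'⟩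
  have h1 := congrArg (R.pr c') (R.line_sum hv (mem_evs.1 ha) hca)
  have h0 : R.pr c' (0 : M) = 0 := Finset.sum_eq_zero fun x _ => R.act_zero _
  rw [R.pr_add, R.pr_add, R.dd_add (mem_evs.1 ha) (mem_evs.1 ha), R.pr_shift ha', R.pr_shift ha', R.pr_shift ha', h0,
    R.two, zero_add] at h1
  exact h1

theorem Rep.sum_pr (m : M) : ∑ c, R.pr c m = R.sg m + m := by
  have h1 : ∑ c, R.pr c m = ∑ x ∈ evs, ((Finset.univ : Finset (Fin 40)).filter fun c => chi c x = 0).card • R.dd x m := by
    simp only [Rep.pr, kerc, Finset.sum_filter]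
    rw [Finset.sum_comm]
    refine Finset.sum_congr rfl fun x _ => ?_
    rw [← Finset.sum_filter, Finset.sum_const]
  have hs : ∀ x : XV, x 0 = x 1 ∧ x 0 = x 2 ∧ x 0 = x 3 ∧ x 0 = x 4 ∧ x 0 = x 5 → R.dd x m = m := fun x h => by
    have e : x = fun _ => x 0 := by
      obtain ⟨h1, h2, h3, h4, h5⟩ := h
      funext i
      fin_cases i
      · rfl
      · exact h1.symm
      · exact h2.symm
      · exact h3.symm
      · exact h4.symm
      · exact h5.symm
    rw [e]
    show R.ρ (dg fun _ => x 0) m = m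
    rw [R.scal]
    rfl
  rw [h1]
  set p : XV → Prop := fun x => x 0 = x 1 ∧ x 0 = x 2 ∧ x 0 = x 3 ∧ x 0 = x 4 ∧ x 0 = x 5
  have h2 : ∀ x ∈ evs, ((Finset.univ : Finset (Fin 40)).filter fun c => chi c x = 0).card • R.dd x m =
      R.dd x m + (if p x then m else 0) := by
    intro x hx
    rw [R.nsmul_eq]
    by_cases h : p x
    · rw [if_pos ((parity x hx).2 h), if_pos h, hs x h, R.two]
    · rw [if_neg (fun e => h ((parity x hx).1 e)), if_neg h, add_zero]
  rw [Finset.sum_congr rfl h2, Finset.sum_add_distrib, ← Finset.sum_filter, scalars, Finset.sum_const,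
    scalars_card, R.nsmul_eq, if_neg (by decide)]
  rfl

theorem Rep.sg_pr (c : Fin 40) (m : M) : R.sg (R.pr c m) = R.sg m := by
  have h : ∀ (s : Finset XV), (∀ x ∈ s, ev x) → R.sg (∑ x ∈ s, R.dd x m) = s.card • R.sg m := by
    intro s hs
    induction s using Finset.induction with
    | empty => simp [Rep.sg, Rep.dd, R.act_zero]
    | @insert a s ha ih =>
      rw [Finset.sum_insert ha, R.sg_add, R.sg_shift (hs a (Finset.mem_insert_self _ _)),
        ih (fun x hx => hs x (Finset.mem_insert_of_mem hx)), Finset.card_insert_of_notMem ha, succ_nsmul']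
  rw [Rep.pr, h _ (fun x hx => (mem_kerc.1 hx).1), R.nsmul_eq, if_neg (card_evs.2 c)]

/-- some plane is non-zero -/
theorem Rep.exists_plane : ∃ c v, R.InP c v ∧ v ≠ 0 := by
  by_contra! h
  obtain ⟨x, hx, hne⟩ := R.nontriv
  refine hne (AddMonoidHom.ext fun m => ?_)
  have hfix : ∀ c, R.pr c m = R.sg m := by
    intro c
    have hP : R.InP c (R.pr c m + R.sg m) := ⟨fun y hy => by
      show R.act (dg y) (_ + _) = _
      rw [R.act_add]
      refine congrArg₂ (· + ·) (R.pr_dd_fixed hy m) ?_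
      rw [Rep.sg, R.act_sum]
      refine Eq.trans (Finset.sum_congr rfl fun z hz => ?_) (R.sg_shift (mem_kerc.1 hy).1 m)
      show R.dd y (R.dd z m) = R.dd z (R.dd y m)
      rw [← R.dd_add (mem_kerc.1 hy).1 (mem_evs.1 hz), ← R.dd_add (mem_evs.1 hz) (mem_kerc.1 hy).1, add_comm],
      by
        have h1 : R.sg (R.sg m) = R.sg m := R.sg_fixed fun z hz => by
          show R.act (dg z) (∑ w ∈ evs, R.dd w m) = _
          rw [R.act_sum]
          refine Eq.trans (Finset.sum_congr rfl fun w hw => ?_) (R.sg_shift hz m)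
          show R.dd z (R.dd w m) = R.dd w (R.dd z m)
          rw [← R.dd_add hz (mem_evs.1 hw), ← R.dd_add (mem_evs.1 hw) hz, add_comm]
        rw [R.sg_add, R.sg_pr, h1, R.two]⟩
    have := h c _ hP
    exact (eq_neg_of_add_eq_zero_left this).trans (neg_eq_of_add_eq_zero_left (R.two _))
  have h1 := R.sum_pr m
  rw [Finset.sum_congr rfl fun c _ => hfix c, Finset.sum_const, Finset.card_univ, Fintype.card_fin, R.nsmul_eq,
    if_pos (by decide)] at h1
  have hm : R.sg m = m := (eq_neg_of_add_eq_zero_left h1.symm).trans (neg_eq_of_add_eq_zero_left (R.two _))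
  show R.dd x m = m
  rw [← hm]
  show R.act (dg x) (∑ w ∈ evs, R.dd w m) = _
  rw [R.act_sum]
  refine Eq.trans (Finset.sum_congr rfl fun w hw => ?_) (R.sg_shift hx m)
  show R.dd x (R.dd w m) = R.dd w (R.dd x m)
  rw [← R.dd_add hx (mem_evs.1 hw), ← R.dd_add (mem_evs.1 hw) hx, add_comm]

end Cfsg.Agent.Lie.USixTwenty
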