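import Cfsg.Agent.Lib.Lie.USixTwenty.Setup
import Cfsg.Agent.Lib.Lie.USixTwenty.Weights
import Mathlib.FieldTheory.Finite.GaloisField

/-!
The representation of `SU(6, 2)` on the module of a `Data`.
-/

set_option autoImplicit false

namespace Cfsg.Agent.Lie.USixTwenty

open Cfsg Cfsg.Agent.Spor.SpFour Matrix

universe u v

section Map

variable {n q : ℕ} {E : Type} {F : Type v} [Field E] [Field F]

theorem map_mem_SU (φ : E ≃+* F) (g : Matrix.SpecialLinearGroup (Fin n) E) (hg : g ∈ SU n E q) :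
    Matrix.SpecialLinearGroup.map φ.toRingHom g ∈ SU n F q := by
  intro u v
  have hu : ∀ w : Fin n → F, ∃ w' : Fin n → E, w = φ ∘ w' := fun w => ⟨φ.symm ∘ w, by ext; simp⟩
  obtain ⟨u, rfl⟩ := hu u
  obtain ⟨v, rfl⟩ := hu v
  have hm : ∀ w : Fin n → E, (g.1.map φ) *ᵥ (φ ∘ w) = φ ∘ (g.1 *ᵥ w) := fun w => by
    ext i; exact (RingHom.map_mulVec φ.toRingHom g.1 w i).symm
  have hh : ∀ a b : Fin n → E, hermForm n F q (φ ∘ a) (φ ∘ b) = φ (hermForm n E q a b) := fun a b => by
    simp [hermForm, map_sum, map_mul, map_pow]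
  show hermForm n F q ((g.1.map φ) *ᵥ (φ ∘ u)) ((g.1.map φ) *ᵥ (φ ∘ v)) = _
  rw [hm, hm, hh, hh]
  exact congrArg φ (hg u v)

/-- The special unitary groups along an isomorphism of fields. -/
def suMap (φ : E ≃+* F) : ↥(SU n E q) →* ↥(SU n F q) where
  toFun g := ⟨_, map_mem_SU φ g.1 g.2⟩
  map_one' := Subtype.ext (map_one _)
  map_mul' a b := Subtype.ext (map_mul _ _ _)

theorem suMap_injective (φ : E ≃+* F) : Function.Injective (suMap (n := n) (q := q) φ) := by
  intro a b h
  refine Subtype.ext (Subtype.ext ?_)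
  ext i j
  have h1 := congrArg (fun g => g.1.1 i j) h
  exact φ.injective h1

/-- Elements with scalar matrix are central. -/
theorem commute_of_scalar {g : ↥(SU n F q)} {c : F} (hg : g.1.1 = Matrix.diagonal fun _ => c) (h : ↥(SU n F q)) :
    h * g = g * h := by
  refine Subtype.ext (Subtype.ext ?_)
  show h.1.1 * g.1.1 = g.1.1 * h.1.1
  rw [hg]
  exact ((Matrix.scalar_commute c (fun r => mul_comm c r) h.1.1).eq).symm

end Map

/-- the diagonal element used to see that the action is not trivial -/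
def xT : XV := ![1, 2, 0, 0, 0, 0]

theorem dg_xT_ne : dg xT * pm (Equiv.swap 0 1) ≠ pm (Equiv.swap 0 1) * dg xT := by
  intro h
  rw [← pm_dg (show ev xT by decide)] at h
  have h1 := congrArg (fun g : SU6 => g.1.1 0 0) (mul_left_cancel h)
  have hx : ev xT := by decide
  rw [dg_val hx, dg_val (ev_comp hx _), Matrix.diagonal_apply_eq, Matrix.diagonal_apply_eq] at h1
  revert h1
  decide +kernel

theorem Data.exists_rep {X : Type u} [Group X] [Finite X] {F : Type v} [Field F] [Fintype F]
    (hF : Fintype.card F = 4) (D : Data X F) :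
    ∃ (π : SU6 →* X), (∀ g, π g ∈ D.K₀) ∧ ∃ (M : Type u) (_ : AddCommGroup M) (e : M ≃ D.A),
      (∀ a b, (e (a + b) : X) = e a * e b) ∧
      ∃ R : Rep M, ∀ g m, π g * (e m : X) * (π g)⁻¹ = e (R.ρ g m) := by
  classical
  obtain ⟨iso⟩ := D.iso
  obtain φ : F4 ≃+* F := FiniteField.ringEquivOfCardEq (K := F4) (K' := F) (by rw [F4.card, hF])
  let ψ : SU6 →* ↥(SU 6 F 2) := suMap φ
  let π : SU6 →* X := D.K₀.subtype.comp (iso.symm.toMonoidHom.comp ((QuotientGroup.mk' _).comp ψ))
  have hπ : ∀ g, π g ∈ D.K₀ := fun g => (iso.symm (QuotientGroup.mk' _ (ψ g))).2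
  have hπ1 : ∀ g, π g = 1 ↔ ψ g ∈ Subgroup.center ↥(SU 6 F 2) := by
    intro g
    constructor
    · intro h
      have h' : iso.symm (QuotientGroup.mk' _ (ψ g)) = 1 := Subtype.ext h
      exact (QuotientGroup.eq_one_iff _).1 (iso.symm.map_eq_one_iff.1 h')
    · intro h
      show ((iso.symm (QuotientGroup.mk' _ (ψ g)) : ↥D.K₀) : X) = 1
      rw [show QuotientGroup.mk' _ (ψ g) = 1 from (QuotientGroup.eq_one_iff _).2 h, map_one]
      rfl
  have hn : ∀ g, ∀ a ∈ D.A, π g * a * (π g)⁻¹ ∈ D.A := fun g a ha =>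
    (Subgroup.mem_normalizer_iff.1 (D.norm (D.le (hπ g))) a).1 ha
  letI : CommGroup ↥D.A :=
    { (inferInstance : Group ↥D.A) with
      mul_comm := fun a b => by
        have hi : ∀ c : ↥D.A, c⁻¹ = c := fun c => inv_eq_of_mul_eq_one_right (Subtype.ext (D.sq c.1 c.2))
        calc a * b = (a * b)⁻¹ := (hi _).symm
          _ = b * a := by rw [_root_.mul_inv_rev, hi, hi] }
  let T : SU6 → Additive ↥D.A → Additive ↥D.A := fun g m =>
    Additive.ofMul (⟨π g * (Additive.toMul m).1 * (π g)⁻¹, hn g _ (Additive.toMul m).2⟩ : ↥D.A)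
  have Tadd : ∀ g m m', T g (m + m') = T g m + T g m' := fun g m m' => by
    apply Additive.toMul.injective
    apply Subtype.ext
    show π g * ((Additive.toMul m).1 * (Additive.toMul m').1) * (π g)⁻¹ =
      π g * (Additive.toMul m).1 * (π g)⁻¹ * (π g * (Additive.toMul m').1 * (π g)⁻¹)
    group
  let ρ : SU6 →* AddMonoid.End (Additive ↥D.A) :=
    { toFun := fun g => AddMonoidHom.mk' (T g) (Tadd g)
      map_one' := AddMonoidHom.ext fun m => by
        apply Additive.toMul.injective
        apply Subtype.ext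
        show π 1 * (Additive.toMul m).1 * (π 1)⁻¹ = (Additive.toMul m).1
        rw [map_one, one_mul, inv_one, mul_one]
      map_mul' := fun g h => AddMonoidHom.ext fun m => by
        apply Additive.toMul.injective
        apply Subtype.ext
        show π (g * h) * (Additive.toMul m).1 * (π (g * h))⁻¹ =
          π g * (π h * (Additive.toMul m).1 * (π h)⁻¹) * (π g)⁻¹
        rw [map_mul]
        group }
  have hscal : ∀ k : ZMod 3, ρ (dg fun _ => k) = 1 := by
    intro k
    have hev : ev (fun _ : Fin 6 => k) := by revert k; decide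
    have hc : π (dg fun _ => k) = 1 := by
      refine (hπ1 _).2 (Subgroup.mem_center_iff.2 fun h => commute_of_scalar (c := φ (wp k)) ?_ h)
      show (dg fun _ : Fin 6 => k).1.1.map φ = _
      rw [dg_val hev, Matrix.diagonal_map (map_zero φ)]
    refine AddMonoidHom.ext fun m => ?_
    apply Additive.toMul.injective
    apply Subtype.ext
    show π (dg fun _ => k) * (Additive.toMul m).1 * (π (dg fun _ => k))⁻¹ = (Additive.toMul m).1
    rw [hc, one_mul, inv_one, mul_one]
  have hnt : ρ (dg xT) ≠ 1 := by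
    intro h
    have hc : π (dg xT) = 1 := D.faithful _ (D.le (hπ _)) fun a ha => by
      have h1 : π (dg xT) * a * (π (dg xT))⁻¹ = a :=
        congrArg (fun f : AddMonoid.End (Additive ↥D.A) => (Additive.toMul (f (Additive.ofMul ⟨a, ha⟩))).1) h
      exact mul_inv_eq_iff_eq_mul.1 h1
    have hcen := Subgroup.mem_center_iff.1 ((hπ1 _).1 hc) (ψ (pm (Equiv.swap 0 1)))
    rw [← map_mul, ← map_mul] at hcen
    exact dg_xT_ne (suMap_injective φ hcen).symm
  refine ⟨π, hπ, Additive ↥D.A, inferInstance, Additive.toMul, fun a b => rfl, ⟨ρ, ?_, ?_, hscal, ⟨xT, by decide, hnt⟩⟩, fun g m => rfl⟩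
  · intro m
    exact Additive.toMul.injective (Subtype.ext (D.sq _ (Additive.toMul m).2))
  · rw [Nat.card_congr Additive.toMul]
    exact D.card

end Cfsg.Agent.Lie.USixTwenty
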