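import Cfsg.Agent.Lib.Lie.USixTwenty.Fourier
import Cfsg.Agent.Lib.Lie.USixTwenty.RepOf

/-!
Coordinates on the module in which generators act by the matrices of the model.
-/

set_option autoImplicit false

namespace Cfsg.Agent.Lie.USixTwenty

universe u v

/-- the element of a generator -/
def gE (i : Fin ngen) : SU6 := if h : i.val < 10 then el ⟨i.val, h⟩ else fE

theorem Rep.acts_gen {M : Type u} [AddCommGroup M] (R : Rep M) (i : Fin ngen) : R.Acts (gE i) (gmat i) := by
  by_cases h : i.val < 10
  · intro a
    rw [gE, dif_pos h]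
    exact R.lin_el ⟨i.val, h⟩ a
  · intro a
    rw [gE, dif_neg h]
    have e : i = 10 := Fin.ext (by
      have := i.isLt
      show i.val = 10
      change i.val < 11 at this
      omega)
    rw [e]
    exact R.acts_fourier a

/-- the module has coordinates -/
theorem Data.coord {X : Type u} [Group X] [Finite X] {F : Type v} [Field F] [Fintype F]
    (hF : Fintype.card F = 4) (D : Data X F) : Nonempty (Coord D) := by
  obtain ⟨π, hπ, M, _, e, he, R, hR⟩ := D.exists_rep hF
  exact ⟨{
    φ := fun a => (e (R.ψ a) : X)
    k := fun i => π (gE i)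
    mem := fun a _ => (e (R.ψ a)).2
    surj := fun x hx => by
      obtain ⟨n, hn, h⟩ := R.exists_index (e.symm ⟨x, hx⟩)
      exact ⟨n, hn, by rw [h, Equiv.apply_symm_apply]⟩
    add := fun a b _ _ => by rw [R.ψ_xor, he]
    k_mem := fun i => hπ _
    act := fun i a _ => by
      rw [hR]
      exact congrArg (fun m => (e m : X)) (R.acts_gen i a) }⟩

end Cfsg.Agent.Lie.USixTwenty
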