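import Cfsg.Agent.Lib.Lie.USixTwenty.Checks

/-!
The layers of the module for the stabiliser of a Lagrangian subspace, and counting in closed sets of
bit vectors.
-/

set_option autoImplicit false
set_option maxRecDepth 100000

namespace Cfsg.Agent.Lie.USixTwenty

/-! ### linear functions -/

/-- linear on all numbers -/
def Lin (f : ℕ → ℕ) : Prop := ∀ a b, f (a ^^^ b) = f a ^^^ f b

theorem Lin.below {f : ℕ → ℕ} (h : Lin f) (n : ℕ) : LinBelow n f := fun a b _ _ => h a b

theorem Lin.zero {f : ℕ → ℕ} (h : Lin f) : f 0 = 0 := by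
  have h1 := h 0 0
  rwa [Nat.xor_self, Nat.xor_self] at h1

theorem Lin.ext {n : ℕ} {f g : ℕ → ℕ} (hf : Lin f) (hg : Lin g) (h : ∀ i, i < n → f (2 ^ i) = g (2 ^ i)) :
    ∀ v, v < 2 ^ n → f v = g v :=
  lin_ext (hf.below n) (hg.below n) (hf.zero.trans hg.zero.symm) h

theorem Lin.comp {f g : ℕ → ℕ} (hf : Lin f) (hg : Lin g) : Lin fun v => f (g v) := fun a b => by
  show f (g (a ^^^ b)) = _
  rw [hg, hf]

theorem Lin.xor {f g : ℕ → ℕ} (hf : Lin f) (hg : Lin g) : Lin fun v => f v ^^^ g v := fun a b => by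
  show f (a ^^^ b) ^^^ g (a ^^^ b) = _
  rw [hf, hg]
  simp [Nat.xor_assoc, Nat.xor_left_comm]

theorem lin_id : Lin fun v => v := fun _ _ => rfl

theorem lin_mat (M : List ℕ) : Lin (app M) := app_xor M

theorem lin_div (k : ℕ) : Lin fun v => v / 2 ^ k := fun a b => by
  simp only [← Nat.shiftRight_eq_div_pow]
  exact Nat.shiftRight_xor_distrib ..

theorem lin_mod (k : ℕ) : Lin fun v => v % 2 ^ k := fun a b => Nat.xor_mod_two_pow

theorem lin_mul (k : ℕ) : Lin fun v => 2 ^ k * v := fun a b => by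
  simp only [Nat.mul_comm (2 ^ k), ← Nat.shiftLeft_eq]
  exact Nat.shiftLeft_xor_distrib ..

/-- the coordinates of the nine-bit layers -/
def hi (v : ℕ) : ℕ := v / 2 ^ 10

def mid (v : ℕ) : ℕ := v / 2 ^ 1 % 2 ^ 9

/-- the top bit as a number -/
def topc (v : ℕ) : ℕ := v / 2 ^ 19

theorem lin_hi : Lin hi := lin_div 10

theorem lin_mid : Lin mid := (lin_mod 9).comp (lin_div 1)

theorem lin_top : Lin topc := lin_div 19

theorem lin_crM : ∀ (L : List (List ℕ)) (h : ℕ), Lin fun x => app (L.map fun r => app r x) h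
  | [], h => fun a b => (Nat.xor_self 0).symm
  | r :: L, h => fun a b => by
      show (if Nat.testBit h 0 then app r (a ^^^ b) else 0) ^^^ app (L.map fun r => app r (a ^^^ b)) (h / 2) = _
      have hl : app (L.map fun r => app r (a ^^^ b)) (h / 2) = _ := lin_crM L (h / 2) a b
      rw [app_xor, hl]
      show _ = ((if Nat.testBit h 0 then app r a else 0) ^^^ app (L.map fun r => app r a) (h / 2)) ^^^
        ((if Nat.testBit h 0 then app r b else 0) ^^^ app (L.map fun r => app r b) (h / 2))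
      split <;> simp [Nat.xor_assoc, Nat.xor_left_comm]

theorem lin_cr_left (x : ℕ) : Lin fun h => cr h x := lin_mat (crM x)

theorem lin_cr_right (h : ℕ) : Lin fun x => cr h x := lin_crM Tab.crT h

theorem lin_dot_right (h : ℕ) : Lin fun y => dot h y := fun a b => by
  show app _ (h &&& (a ^^^ b)) = _
  rw [Nat.and_xor_distrib_left, app_xor]
  rfl

theorem lin_dot_left (y : ℕ) : Lin fun h => dot h y := fun a b => by
  show app _ ((a ^^^ b) &&& y) = _
  rw [Nat.and_xor_distrib_right, app_xor]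
  rfl

theorem dot_le (h y : ℕ) : dot h y < 2 := app_lt (n := 1) _ (by simp) _

theorem cr_lt (h x : ℕ) : cr h x < 2 ^ 9 := by
  refine app_lt _ (fun r hr => ?_) _
  obtain ⟨M, hM, rfl⟩ := List.mem_map.mp hr
  exact app_lt M (fun s hs => by
    have h1 : (Tab.crT.all fun M => M.all fun r => decide (r < 2 ^ 9)) = true := by decide +kernel
    simp only [List.all_eq_true, decide_eq_true_eq] at h1
    exact h1 M hM s hs) _

theorem cr_symm {h x : ℕ} (hh : h < 2 ^ 9) (hx : x < 2 ^ 9) : cr h x = cr x h := by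
  have hs := Chk.cr_symm
  simp only [List.all_eq_true, List.mem_range, beq_iff_eq] at hs
  refine (lin_cr_left x).ext (lin_cr_right x) (fun i hi => ?_) h hh
  exact (lin_cr_right (2 ^ i)).ext (lin_cr_left (2 ^ i)) (fun k hk => hs i hi k hk) x hx

theorem app_bit : ∀ (M : List ℕ) (i : ℕ) (hi : i < M.length), app M (2 ^ i) = M[i]
  | [], i, hi => absurd hi (Nat.not_lt_zero _)
  | r :: M, 0, _ => by
      show (if Nat.testBit 1 0 then r else 0) ^^^ app M (1 / 2) = r
      simp [app_zero M]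
  | r :: M, i + 1, hi => by
      show (if Nat.testBit (2 ^ (i + 1)) 0 then r else 0) ^^^ app M (2 ^ (i + 1) / 2) = M[i]'(by simpa using hi)
      rw [Nat.testBit_two_pow_of_ne (by omega), pow_succ, Nat.mul_div_cancel _ (by norm_num),
        app_bit M i (by simpa using hi)]
      simp

/-! ### translations -/

/-- the action of a translation by `h` -/
structure RSpec (M : List ℕ) (h : ℕ) : Prop where
  small : h < 2 ^ 9
  lt : ∀ v, app M v < 2 ^ 20
  top : ∀ v, v < 2 ^ 20 → hi (app M v) = hi v ^^^ h * topc v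
  middle : ∀ v, v < 2 ^ 19 → mid (app M v) = mid v ^^^ cr h (hi v)
  low : ∀ v, v < 2 ^ 10 → app M v = v ^^^ dot h (mid v)

theorem topc_le {v : ℕ} (hv : v < 2 ^ 20) : topc v ≤ 1 := by
  unfold topc
  omega

theorem hi_lt {v : ℕ} (hv : v < 2 ^ 19) : hi v < 2 ^ 9 := by
  unfold hi
  omega

theorem topc_zero {v : ℕ} (hv : v < 2 ^ 19) : topc v = 0 := Nat.div_eq_of_lt hv

theorem hi_zero {v : ℕ} (hv : v < 2 ^ 10) : hi v = 0 := Nat.div_eq_of_lt hv

theorem mid_lt (v : ℕ) : mid v < 2 ^ 9 := Nat.mod_lt _ (by norm_num)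

theorem lt_of_hi {v n : ℕ} (h : hi v < 2 ^ n) : v < 2 ^ (n + 10) := by
  have := (Nat.div_lt_iff_lt_mul (k := 2 ^ 10) (by norm_num)).mp h
  rwa [← pow_add] at this

theorem rspec_id : RSpec (idM 20) 0 where
  small := by norm_num
  lt v := app_lt _ (fun r hr => mem_idM hr) v
  top v hv := by rw [app_idM hv, Nat.zero_mul, Nat.xor_zero]
  middle v hv := by rw [app_idM (by omega), (lin_cr_left _).zero, Nat.xor_zero]
  low v hv := by rw [app_idM (by omega), (lin_dot_left _).zero, Nat.xor_zero]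

theorem RSpec.mul {A B : List ℕ} {a b : ℕ} (hA : RSpec A a) (hB : RSpec B b) :
    RSpec (mmul A B) (a ^^^ b) := by
  refine ⟨Nat.xor_lt_two_pow hA.small hB.small, fun v => by rw [app_mmul]; exact hA.lt _, ?_, ?_, ?_⟩
  · intro v hv
    have hb' : topc (app B v) = topc v := by
      have h1 : topc (app B v) = hi (app B v) / 2 ^ 9 := by simp [topc, hi, Nat.div_div_eq_div_mul]
      have h2 : topc v = hi v / 2 ^ 9 := by simp [topc, hi, Nat.div_div_eq_div_mul]
      have h3 : b * topc v < 2 ^ 9 := lt_of_le_of_lt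
        ((Nat.mul_le_mul_left b (topc_le hv)).trans_eq (Nat.mul_one b)) hB.small
      rw [h1, hB.top v hv, show (hi v ^^^ b * topc v) / 2 ^ 9 = hi v / 2 ^ 9 ^^^ b * topc v / 2 ^ 9 from
        lin_div 9 _ _, Nat.div_eq_of_lt h3, Nat.xor_zero, h2]
    rw [app_mmul, hA.top _ (hB.lt v), hB.top v hv, hb']
    rcases Nat.le_one_iff_eq_zero_or_eq_one.mp (topc_le hv) with e | e <;> rw [e] <;>
      simp [Nat.xor_assoc, Nat.xor_comm]
  · intro v hv
    have hlt : app B v < 2 ^ 19 := by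
      refine lt_of_hi (n := 9) ?_
      rw [hB.top v (by omega), topc_zero hv, Nat.mul_zero, Nat.xor_zero]
      exact hi_lt hv
    rw [app_mmul, hA.middle _ hlt, hB.middle v hv, hB.top v (by omega), topc_zero hv, Nat.mul_zero,
      Nat.xor_zero]
    show _ = mid v ^^^ cr (a ^^^ b) (hi v)
    rw [show cr (a ^^^ b) (hi v) = cr a (hi v) ^^^ cr b (hi v) from lin_cr_left (hi v) a b, Nat.xor_assoc, Nat.xor_comm (cr b (hi v))]
  · intro v hv
    rw [app_mmul, hB.low v hv]
    have hlt : v ^^^ dot b (mid v) < 2 ^ 10 := Nat.xor_lt_two_pow hv (by have := dot_le b (mid v); omega)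
    rw [hA.low _ hlt, lin_mid]
    have hz : mid (dot b (mid v)) = 0 := by
      have := dot_le b (mid v)
      revert this
      generalize dot b (mid v) = d
      intro hd
      interval_cases d <;> rfl
    rw [hz, Nat.xor_zero, show dot (a ^^^ b) (mid v) = dot a (mid v) ^^^ dot b (mid v) from lin_dot_left (mid v) a b, Nat.xor_assoc, Nat.xor_comm (dot b (mid v))]

theorem rspec_mprod : ∀ (L : List (List ℕ)) (E : List ℕ), List.Forall₂ RSpec L E → ∀ h,
    RSpec (mprod L h) (app E h)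
  | [], _, hf, h => by
      obtain rfl := List.forall₂_nil_left_iff.mp hf
      exact rspec_id
  | g :: L, E, hf, h => by
      obtain ⟨e, E', hge, hf', rfl⟩ := List.forall₂_cons_left_iff.mp hf
      show RSpec (if Nat.testBit h 0 then mmul g (mprod L (h / 2)) else mprod L (h / 2))
        ((if Nat.testBit h 0 then e else 0) ^^^ app E' (h / 2))
      split
      · exact hge.mul (rspec_mprod L E' hf' _)
      · rw [Nat.zero_xor]
        exact rspec_mprod L E' hf' _

theorem app_idM9 {h : ℕ} (hh : h < 2 ^ 9) : app (idM 9) h = h :=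
  (lin_mat (idM 9)).ext lin_id (by decide +kernel) h hh

theorem rspec_gen : List.Forall₂ RSpec Tab.rmat (idM 9) := by
  have hs := Chk.r_shape
  simp only [List.all_eq_true, List.mem_range, Bool.and_eq_true, beq_iff_eq] at hs
  have hb : Tab.rmat.all (fun M => M.all fun r => decide (r < 2 ^ 20)) = true := by decide +kernel
  simp only [List.all_eq_true, decide_eq_true_eq] at hb
  have hlen : Tab.rmat.length = 9 := by decide +kernel
  refine List.forall₂_iff_get.mpr ⟨by rw [hlen]; rfl, fun j hj hj' => ?_⟩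
  have hj9 : j < 9 := hlen ▸ hj
  have e1 : Tab.rmat.get ⟨j, hj⟩ = Tab.rmat.getD j [] := by simp [List.getD_eq_getElem?_getD, hj]
  have e2 : (idM 9).get ⟨j, hj'⟩ = 2 ^ j := by simp [idM]
  obtain ⟨⟨h1, h19⟩, hk⟩ := hs j hj9
  rw [e1, e2]
  set M := Tab.rmat.getD j [] with hM
  refine ⟨Nat.pow_lt_pow_right (by norm_num) hj9, fun v => app_lt M (hb M (e1 ▸ List.get_mem _ _)) v, ?_, ?_, ?_⟩
  · refine (lin_hi.comp (lin_mat M)).ext (lin_hi.xor fun a b => ?_) fun i hi' => ?_
    · show 2 ^ j * topc (a ^^^ b) = _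
      rw [lin_top]
      exact lin_mul j _ _
    · have hcase : i < 1 ∨ (1 ≤ i ∧ i < 10) ∨ (10 ≤ i ∧ i < 19) ∨ i = 19 := by omega
      show hi (app M (2 ^ i)) = hi (2 ^ i) ^^^ 2 ^ j * topc (2 ^ i)
      rcases hcase with h | h | h | h
      · obtain rfl : i = 0 := by omega
        rw [pow_zero, h1]
        simp [hi, topc]
      · obtain ⟨⟨ha, -⟩, -⟩ := hk (i - 1) (by omega)
        rw [show 1 + (i - 1) = i by omega] at ha
        rw [ha, show ∀ x y, hi (Nat.xor x y) = hi x ^^^ hi y from lin_hi, topc_zero (Nat.pow_lt_pow_right (by norm_num) (by omega : i < 19)), Nat.mul_zero]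
        congr 1
        split <;> rfl
      · obtain ⟨⟨-, ha⟩, -⟩ := hk (i - 10) (by omega)
        rw [show 10 + (i - 10) = i by omega] at ha
        rw [topc_zero (Nat.pow_lt_pow_right (by norm_num) (by omega : i < 19)), Nat.mul_zero, Nat.xor_zero]
        show app M (2 ^ i) / 2 ^ 10 = 2 ^ i / 2 ^ 10
        rw [Nat.pow_div (by omega) (by norm_num)]
        exact ha
      · subst h
        simpa [hi, topc] using h19
  · refine (lin_mid.comp (lin_mat M)).ext (lin_mid.xor ((lin_cr_right _).comp lin_hi)) fun i hi' => ?_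
    have hcase : i < 1 ∨ (1 ≤ i ∧ i < 10) ∨ (10 ≤ i ∧ i < 19) := by omega
    show mid (app M (2 ^ i)) = mid (2 ^ i) ^^^ cr (2 ^ j) (hi (2 ^ i))
    rcases hcase with h | h | h
    · obtain rfl : i = 0 := by omega
      rw [pow_zero, h1, hi_zero (by norm_num), (lin_cr_right _).zero, Nat.xor_zero]
    · obtain ⟨⟨ha, -⟩, -⟩ := hk (i - 1) (by omega)
      rw [show 1 + (i - 1) = i by omega] at ha
      rw [ha, show ∀ x y, mid (Nat.xor x y) = mid x ^^^ mid y from lin_mid, hi_zero (Nat.pow_lt_pow_right (by norm_num) (by omega : i < 10)), (lin_cr_right _).zero]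
      congr 1
      split <;> rfl
    · obtain ⟨⟨-, ha⟩, hc⟩ := hk (i - 10) (by omega)
      rw [show 10 + (i - 10) = i by omega] at hc
      have e3 : mid (2 ^ i) = 0 := by
        show 2 ^ i / 2 ^ 1 % 2 ^ 9 = 0
        rw [Nat.pow_div (by omega) (by norm_num)]
        exact Nat.mod_eq_zero_of_dvd (Nat.pow_dvd_pow 2 (by omega))
      have e4 : hi (2 ^ i) = 2 ^ (i - 10) := Nat.pow_div (by omega) (by norm_num)
      have e5 : ∀ p < 9, ∀ q < 9, cr (2 ^ p) (2 ^ q) = (Tab.crT.getD p []).getD q 0 := by decide +kernel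
      rw [e3, Nat.zero_xor, e4, e5 j hj9 (i - 10) (by omega)]
      exact hc
  · refine (lin_mat M).ext (lin_id.xor ((lin_dot_right _).comp lin_mid)) fun i hi' => ?_
    show app M (2 ^ i) = 2 ^ i ^^^ dot (2 ^ j) (mid (2 ^ i))
    have e6 : ∀ p < 9, ∀ q < 9, dot (2 ^ p) (2 ^ q) = if p = q then 1 else 0 := by decide +kernel
    rcases Nat.eq_zero_or_pos i with rfl | hp
    · rw [pow_zero, h1, show mid 1 = 0 from rfl, (lin_dot_right _).zero, Nat.xor_zero]
    · obtain ⟨⟨ha, -⟩, -⟩ := hk (i - 1) (by omega)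
      rw [show 1 + (i - 1) = i by omega] at ha
      have e7 : mid (2 ^ i) = 2 ^ (i - 1) := by
        show 2 ^ i / 2 ^ 1 % 2 ^ 9 = 2 ^ (i - 1)
        rw [Nat.pow_div (by omega) (by norm_num)]
        exact Nat.mod_eq_of_lt (Nat.pow_lt_pow_right (by norm_num) (by omega))
      rw [ha, e7, e6 j hj9 (i - 1) (by omega)]
      rfl

theorem rspec {h : ℕ} (hh : h < 2 ^ 9) : RSpec (rM h) h := by
  have := rspec_mprod _ _ rspec_gen h
  rwa [app_idM9 hh] at this

/-! ### the unipotent group of the Levi complement -/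

theorem u_low {a : ℕ} (ha : a < 64) {v : ℕ} (hv : v < 2 ^ 10) :
    app (uM a) v = 2 * actY a (mid v) ^^^ v % 2 := by
  have hs := Chk.u_shape
  simp only [List.all_eq_true, List.mem_range, Bool.and_eq_true, beq_iff_eq, decide_eq_true_eq] at hs
  obtain ⟨⟨h1, -⟩, hk⟩ := hs a ha
  refine (lin_mat _).ext (((lin_mul 1).comp ((lin_mat _).comp lin_mid)).xor (lin_mod 1)) (fun i hi' => ?_) v hv
  show app (uM a) (2 ^ i) = 2 * actY a (mid (2 ^ i)) ^^^ 2 ^ i % 2
  rcases Nat.eq_zero_or_pos i with rfl | hp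
  · rw [pow_zero, h1]
    show 1 = 2 * app _ 0 ^^^ 1
    rw [app_zero]
    rfl
  · obtain ⟨⟨⟨ha, -⟩, -⟩, -⟩ := hk (i - 1) (by omega)
    rw [show 1 + (i - 1) = i by omega] at ha
    have e7 : mid (2 ^ i) = 2 ^ (i - 1) := by
      show 2 ^ i / 2 ^ 1 % 2 ^ 9 = 2 ^ (i - 1)
      rw [Nat.pow_div (by omega) (by norm_num)]
      exact Nat.mod_eq_of_lt (Nat.pow_lt_pow_right (by norm_num) (by omega))
    rw [ha, e7]
    have : 2 ^ i % 2 = 0 := by
      obtain ⟨k, rfl⟩ : ∃ k, i = k + 1 := ⟨i - 1, by omega⟩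
      rw [pow_succ, Nat.mul_mod_left]
    rw [this, Nat.xor_zero]

theorem u_top {a : ℕ} (ha : a < 64) {v : ℕ} (hv : v < 2 ^ 19) :
    hi (app (uM a) v) = actJ a (hi v) := by
  have hs := Chk.u_shape
  simp only [List.all_eq_true, List.mem_range, Bool.and_eq_true, beq_iff_eq, decide_eq_true_eq] at hs
  obtain ⟨⟨h1, -⟩, hk⟩ := hs a ha
  refine (lin_hi.comp (lin_mat _)).ext ((lin_mat _).comp lin_hi) (fun i hi' => ?_) v hv
  show hi (app (uM a) (2 ^ i)) = actJ a (hi (2 ^ i))
  have hcase : i < 1 ∨ (1 ≤ i ∧ i < 10) ∨ (10 ≤ i ∧ i < 19) := by omega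
  rcases hcase with h | h | h
  · obtain rfl : i = 0 := by omega
    rw [pow_zero, h1]
    exact (app_zero _).symm
  · obtain ⟨⟨⟨hb, -⟩, hy⟩, -⟩ := hk (i - 1) (by omega)
    rw [show 1 + (i - 1) = i by omega] at hb
    rw [hb, hi_zero (Nat.pow_lt_pow_right (by norm_num) (by omega : i < 10)), hi_zero (by omega)]
    exact (app_zero _).symm
  · obtain ⟨⟨⟨-, hb⟩, -⟩, hj⟩ := hk (i - 10) (by omega)
    rw [show 10 + (i - 10) = i by omega] at hb
    rw [hb, show hi (2 ^ i) = 2 ^ (i - 10) from Nat.pow_div (by omega) (by norm_num)]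
    show 1024 * _ / 2 ^ 10 = _
    norm_num

end Cfsg.Agent.Lie.USixTwenty
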