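import Cfsg.Prelude.Def_Classical
import Cfsg.Agent.Lib.Spor.SpFourPoints
import Mathlib.LinearAlgebra.Matrix.Permutation
import Mathlib.Data.ZMod.Basic

/-!
Monomial elements and the Fourier block of `SU(6, 2)` over the concrete field with four elements.
-/

set_option autoImplicit false
set_option maxRecDepth 100000

namespace Cfsg.Agent.Lie.USixTwenty

open Cfsg Cfsg.Agent.Spor.SpFour Matrix

/-- the group -/
abbrev SU6 : Type := Cfsg.SU 6 F4 2

/-- exponent vectors -/
abbrev XV : Type := Fin 6 → ZMod 3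

/-- the cube roots of unity -/
def wp (k : ZMod 3) : F4 :=
  if k = 0 then F4.i else if k = 1 then F4.w else F4.v

theorem wp_add : ∀ a b : ZMod 3, wp (a + b) = wp a * wp b := by decide +kernel

theorem wp_zero : wp 0 = 1 := rfl

theorem wp_unit : ∀ a : ZMod 3, wp a * wp a ^ 2 = 1 := by decide +kernel

theorem sq_add : ∀ a b : F4, (a + b) ^ 2 = a ^ 2 + b ^ 2 := by decide +kernel

/-- the Frobenius map -/
def frob : F4 →+* F4 where
  toFun x := x ^ 2
  map_one' := one_pow 2
  map_mul' a b := mul_pow a b 2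
  map_zero' := by decide +kernel
  map_add' := sq_add

theorem mem_SU_of {M : Matrix.SpecialLinearGroup (Fin 6) F4}
    (h : M.1ᵀ * M.1.map frob = 1) : M ∈ Cfsg.SU 6 F4 2 := by
  intro u v
  have h1 : ∀ a b : Fin 6 → F4, Cfsg.hermForm 6 F4 2 a b = a ⬝ᵥ (frob ∘ b) := fun a b => rfl
  have h2 : frob ∘ (M.1 *ᵥ v) = M.1.map frob *ᵥ (frob ∘ v) := by
    ext i
    exact RingHom.map_mulVec frob M.1 v i
  show Cfsg.hermForm 6 F4 2 (M.1 *ᵥ u) (M.1 *ᵥ v) = Cfsg.hermForm 6 F4 2 u v
  rw [h1, h1, h2, dotProduct_mulVec, ← mulVec_transpose, mulVec_mulVec, dotProduct_comm]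
  have h3 : (M.1.map frob)ᵀ * M.1 = 1 := by
    have := congrArg Matrix.transpose h
    rwa [transpose_mul, transpose_transpose, transpose_one] at this
  rw [h3, one_mulVec, dotProduct_comm]

/-- exponent vectors of determinant one -/
def ev (x : XV) : Prop := ∑ i, x i = 0

instance : DecidablePred ev := fun x => inferInstanceAs (Decidable (_ = _))

theorem prod_wp (x : XV) : ∏ i, wp (x i) = wp (∑ i, x i) := by
  rw [Fin.prod_univ_six, Fin.sum_univ_six, wp_add, wp_add, wp_add, wp_add, wp_add]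

/-- diagonal elements (the identity outside determinant one) -/
def dg (x : XV) : SU6 :=
  if hx : ev x then
    ⟨⟨Matrix.diagonal fun i => wp (x i), by rw [Matrix.det_diagonal, prod_wp, hx, wp_zero]⟩,
      mem_SU_of (by
        show (Matrix.diagonal fun i => wp (x i))ᵀ * (Matrix.diagonal fun i => wp (x i)).map frob = 1
        rw [diagonal_transpose, diagonal_map (map_zero frob), diagonal_mul_diagonal]
        conv_rhs => rw [← diagonal_one]
        congr 1
        funext i
        exact wp_unit (x i))⟩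
  else 1

theorem dg_val {x : XV} (hx : ev x) : (dg x).1.1 = Matrix.diagonal fun i => wp (x i) := by
  rw [dg, dif_pos hx]

theorem ev_add {x y : XV} (hx : ev x) (hy : ev y) : ev (x + y) := by
  show ∑ i, (x i + y i) = 0
  rw [Finset.sum_add_distrib, hx, hy, add_zero]

theorem ev_comp {x : XV} (hx : ev x) (σ : Equiv.Perm (Fin 6)) : ev (x ∘ σ) :=
  (Equiv.sum_comp σ x).trans hx

theorem dg_add {x y : XV} (hx : ev x) (hy : ev y) : dg (x + y) = dg x * dg y := by
  refine Subtype.ext (Subtype.ext ?_)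
  show (dg (x + y)).1.1 = (dg x).1.1 * (dg y).1.1
  rw [dg_val (ev_add hx hy), dg_val hx, dg_val hy, diagonal_mul_diagonal]
  congr 1
  funext i
  exact wp_add _ _

theorem dg_zero : dg 0 = 1 := by
  have h : ev (0 : XV) := Finset.sum_const_zero
  refine Subtype.ext (Subtype.ext ?_)
  show (dg 0).1.1 = 1
  rw [dg_val h, ← diagonal_one]
  rfl

/-- permutation elements -/
def pm (σ : Equiv.Perm (Fin 6)) : SU6 :=
  ⟨⟨(σ⁻¹).permMatrix F4, by
      rw [det_permutation]
      rcases Int.units_eq_one_or (Equiv.Perm.sign σ⁻¹) with h | h <;> rw [h]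
      · simp
      · simp only [Units.val_neg, Units.val_one, Int.cast_neg, Int.cast_one]
        rfl⟩,
    mem_SU_of (by
      show ((σ⁻¹).permMatrix F4)ᵀ * ((σ⁻¹).permMatrix F4).map frob = 1
      have h : ((σ⁻¹).permMatrix F4).map frob = (σ⁻¹).permMatrix F4 := by
        ext i j
        simp only [map_apply, Equiv.Perm.permMatrix, PEquiv.toMatrix_apply]
        split_ifs <;> simp
      rw [h, transpose_permMatrix, ← permMatrix_mul, mul_inv_cancel, permMatrix_one])⟩

theorem pm_apply (σ : Equiv.Perm (Fin 6)) (i j : Fin 6) :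
    (pm σ).1.1 i j = if σ⁻¹ i = j then 1 else 0 := by
  show (σ⁻¹).permMatrix F4 i j = _
  simp only [Equiv.Perm.permMatrix, PEquiv.toMatrix_apply, Equiv.toPEquiv_apply, Option.mem_some_iff]

theorem pm_mul (σ τ : Equiv.Perm (Fin 6)) : pm (σ * τ) = pm σ * pm τ := by
  refine Subtype.ext (Subtype.ext ?_)
  show ((σ * τ)⁻¹).permMatrix F4 = (σ⁻¹).permMatrix F4 * (τ⁻¹).permMatrix F4
  rw [_root_.mul_inv_rev, permMatrix_mul]

theorem pm_one : pm 1 = 1 := by
  refine Subtype.ext (Subtype.ext ?_)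
  show ((1 : Equiv.Perm (Fin 6))⁻¹).permMatrix F4 = 1
  rw [inv_one, permMatrix_one]

theorem pm_dg {x : XV} (hx : ev x) (σ : Equiv.Perm (Fin 6)) :
    pm σ * dg (x ∘ σ) = dg x * pm σ := by
  refine Subtype.ext (Subtype.ext ?_)
  show (pm σ).1.1 * (dg (x ∘ σ)).1.1 = (dg x).1.1 * (pm σ).1.1
  rw [dg_val hx, dg_val (ev_comp hx σ)]
  ext i j
  rw [mul_diagonal, diagonal_mul, pm_apply]
  by_cases h : σ⁻¹ i = j
  · have : σ j = i := by rw [← h]; simp
    simp only [h, if_true, Function.comp_apply, this, one_mul, mul_one]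
  · simp only [h, if_false, zero_mul, mul_zero]

/-- the Fourier block -/
def fM : Matrix (Fin 6) (Fin 6) F4 :=
  !![F4.i, F4.i, F4.i, F4.o, F4.o, F4.o;
     F4.i, F4.w, F4.v, F4.o, F4.o, F4.o;
     F4.i, F4.v, F4.w, F4.o, F4.o, F4.o;
     F4.o, F4.o, F4.o, F4.i, F4.o, F4.o;
     F4.o, F4.o, F4.o, F4.o, F4.i, F4.o;
     F4.o, F4.o, F4.o, F4.o, F4.o, F4.i]

theorem fM_det : fM.det = 1 := by decide +kernel

theorem fM_unit : fMᵀ * fM.map frob = 1 := by decide +kernel

/-- the Fourier element -/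
def fE : SU6 := ⟨⟨fM, fM_det⟩, mem_SU_of fM_unit⟩

end Cfsg.Agent.Lie.USixTwenty
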