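import Cfsg.Agent.Lib.Lie.USixTwenty.Bound
import Cfsg.Agent.Lib.Lie.USixTwenty.ChecksMono

/-!
The size of the fixed subgroup of an element of prime order, and of any non-trivial element of `K`.
-/

set_option autoImplicit false
set_option maxRecDepth 100000

namespace Cfsg.Agent.Lie.USixTwenty

universe u v

variable {X : Type u} [Group X] {F : Type v} [Field F]

theorem imgs_eq_spanUpto (b : ℕ) (M : List ℕ) : ∀ L : List ℕ,
    imgs b M L = spanUpto b (L.map fun i => app M (2 ^ i) ^^^ 2 ^ i)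
  | [] => rfl
  | i :: L => by
      simp only [imgs, spanUpto, List.map_cons, imgs_eq_spanUpto b M L]
      rfl

/-- the fixed subgroup of a set containing two elements -/
theorem Data.card_fix_pair [Finite X] {D : Data X F} (a b : X) :
    Nat.card (D.fix {a}) * Nat.card (D.fix {b}) ≤ 2 ^ 20 * Nat.card (D.fix {a, b}) := by
  have hinf : D.fix {b} ⊓ D.fix {a} ≤ D.fix {a, b} := by
    intro x hx
    obtain ⟨h1, h2⟩ := hx
    refine Data.mem_fix.2 ⟨(Data.mem_fix.1 h1).1, fun s hs => ?_⟩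
    rcases hs with rfl | hs
    · exact (Data.mem_fix.1 h2).2 _ rfl
    · exact (Data.mem_fix.1 h1).2 _ hs
  have e1 := Subgroup.relIndex_mul_relIndex ⊥ (D.fix {b} ⊓ D.fix {a}) (D.fix {a}) bot_le inf_le_right
  have e2 := Subgroup.relIndex_mul_relIndex ⊥ (D.fix {b}) D.A bot_le (Data.fix_le _)
  rw [Subgroup.relIndex_bot_left, Subgroup.relIndex_bot_left, Subgroup.inf_relIndex_right] at e1
  rw [Subgroup.relIndex_bot_left, Subgroup.relIndex_bot_left, D.card] at e2
  have hne : (D.fix {b}).relIndex D.A ≠ 0 := fun h => by rw [h, mul_zero] at e2; norm_num at e2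
  have h3 := Subgroup.relIndex_le_of_le_right (H := D.fix {b}) (Data.fix_le (D := D) {a}) hne
  have h4 := Subgroup.card_le_of_le hinf
  calc Nat.card (D.fix {a}) * Nat.card (D.fix {b})
      ≤ Nat.card ↥(D.fix {b} ⊓ D.fix {a}) * (D.fix {b}).relIndex D.A * Nat.card (D.fix {b}) := by
        rw [← e1]; exact Nat.mul_le_mul_right _ (Nat.mul_le_mul_left _ h3)
    _ = 2 ^ 20 * Nat.card ↥(D.fix {b} ⊓ D.fix {a}) := by rw [← e2]; ring
    _ ≤ _ := Nat.mul_le_mul_left _ h4

theorem Data.exists_card_fix_eq [Finite X] (D : Data X F) (S : Set X) :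
    ∃ n, Nat.card (D.fix S) = 2 ^ n := by
  obtain ⟨n, -, h⟩ := (Nat.dvd_prime_pow Nat.prime_two).1
    (D.card ▸ Subgroup.card_dvd_of_le (Data.fix_le (D := D) S))
  exact ⟨n, h⟩

theorem Data.fix_le_of_mem_zpowers {D : Data X F} {g x : X} (hx : x ∈ Subgroup.zpowers g) :
    D.fix {g} ≤ D.fix {x} := by
  intro a ha
  obtain ⟨hA, hc⟩ := Data.mem_fix.1 ha
  refine Data.mem_fix.2 ⟨hA, fun s hs => ?_⟩
  rw [Set.mem_singleton_iff] at hs
  rw [hs]
  obtain ⟨k, rfl⟩ := Subgroup.mem_zpowers_iff.1 hx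
  exact (show Commute g a from hc g rfl).zpow_left k

/-- products of powers of given elements, selected by the base-three digits of a number -/
def tgprod : List X → ℕ → X
  | [], _ => 1
  | g :: gs, n =>
    if n % 3 = 0 then tgprod gs (n / 3) else
      if n % 3 = 1 then g * tgprod gs (n / 3) else g * (g * tgprod gs (n / 3))

theorem tgprod_zero : ∀ L : List X, tgprod L 0 = 1
  | [] => rfl
  | g :: L => by simp [tgprod, tgprod_zero L]

theorem tgprod_stable {P : X → Prop} : ∀ {L : List X}, (∀ g ∈ L, ∀ x, P x → P (x * g)) → ∀ n x, P x →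
    P (x * tgprod L n)
  | [], _, n, x, hx => by simpa [tgprod] using hx
  | g :: L, hL, n, x, hx => by
      have ih := tgprod_stable (L := L) (fun y hy => hL y (List.mem_cons_of_mem _ hy)) (n / 3)
      have hg := hL g List.mem_cons_self
      unfold tgprod
      split
      · exact ih x hx
      · split
        · rw [← mul_assoc]; exact ih _ (hg x hx)
        · rw [← mul_assoc, ← mul_assoc]; exact ih _ (hg _ (hg x hx))

theorem length_tprod : ∀ (L : List (List ℕ)), (∀ M ∈ L, M.length = 20) → ∀ n, (tprod L n).length = 20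
  | [], _, n => by simp [tprod, idM]
  | g :: L, hL, n => by
      have ih := length_tprod L (fun y hy => hL y (List.mem_cons_of_mem _ hy)) (n / 3)
      unfold tprod
      split
      · exact ih
      · split <;> simp [mmul, ih]

namespace Chk

theorem eM_nodup : ((List.range 81).map eM).Nodup := by decide +kernel

theorem pM_nodup : ((List.range 9).map pM).Nodup := by decide +kernel

theorem mono_words : [[5], [6], [7], [8], [0, 1], [3, 4]].all wOK = true := by decide +kernel

theorem length_amat : ∀ i < 11, (amatAt i).length = 20 := by decide +kernel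

end Chk

namespace Coord

variable {D : Data X F} {co : Coord D}

theorem acts_tgprod : ∀ {L : List X} {M : List (List ℕ)}, List.Forall₂ co.Acts L M → ∀ n,
    co.Acts (tgprod L n) (tprod M n)
  | [], [], _, n => Acts.one
  | g :: L, m :: M, h, n => by
      obtain ⟨h1, h2⟩ := List.forall₂_cons.1 h
      have ih := acts_tgprod h2 (n / 3)
      unfold tgprod tprod
      split
      · exact ih
      · split
        · exact h1.mul ih
        · exact h1.mul (h1.mul ih)

theorem Acts.card_fix_mul_le [Finite X] {g : X} {M : List ℕ} (hg : co.Acts g M) {b : ℕ}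
    (hb : movesAtLeast b M = true) : Nat.card (D.fix {g}) * b ≤ 2 ^ 20 := by
  classical
  set f : ℕ → ℕ := fun v => app M v ^^^ v with hfdef
  have hf : Lin f := (lin_mat M).xor lin_id
  set C : Finset ℕ := Finset.range (2 ^ 20) with hC
  have hker : Nat.card (D.fix {g}) = (C.filter fun v => f v = 0).card := by
    rw [← Nat.card_eq_finsetCard]
    have hmem : ∀ v, v ∈ C.filter (fun v => f v = 0) ↔ v < 2 ^ 20 ∧ co.ψ v ∈ D.fix {g} := by
      intro v
      simp only [Finset.mem_filter, hC, Finset.mem_range, hfdef, Nat.xor_eq_zero_iff]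
      refine and_congr_right fun hv => ⟨fun e => Data.mem_fix.2 ⟨co.ψ_mem v, fun s hs => ?_⟩, fun h => ?_⟩
      · rw [Set.mem_singleton_iff] at hs
        have h1 := hg.conj v hv
        rw [e, mul_inv_eq_iff_eq_mul] at h1
        rw [hs]
        exact h1
      · refine co.ψ_inj (hg.lt v) hv ?_
        rw [← hg.conj v hv, (Data.mem_fix.1 h).2 g rfl, mul_inv_cancel_right]
    refine (Nat.card_eq_of_bijective
      (fun v : ↥(C.filter fun v => f v = 0) => (⟨co.ψ v.1, ((hmem v.1).1 v.2).2⟩ : D.fix {g})) ⟨?_, ?_⟩).symm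
    · intro v w e
      exact Subtype.ext (co.ψ_inj ((hmem v.1).1 v.2).1 ((hmem w.1).1 w.2).1 (congrArg Subtype.val e))
    · rintro ⟨x, hx⟩
      obtain ⟨v, hv, rfl⟩ := co.ψ_surj (Data.fix_le _ hx)
      exact ⟨⟨v, (hmem v).2 ⟨hv, hx⟩⟩, rfl⟩
  have himg : b ≤ (C.image f).card := by
    simp only [movesAtLeast, decide_eq_true_eq, imgs_eq_spanUpto] at hb
    have hcl := closed_spanUpto b ((List.range 20).map fun i => app M (2 ^ i) ^^^ 2 ^ i)
    refine le_trans hb ?_
    rw [← List.toFinset_card_of_nodup hcl.nodup]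
    refine Finset.card_le_card fun v hv => ?_
    rw [List.mem_toFinset] at hv
    refine mem_spanUpto (P := fun v => v ∈ C.image f) ?_ ?_ _ ?_ v hv
    · exact Finset.mem_image.2 ⟨0, Finset.mem_range.2 (by norm_num), hf.zero⟩
    · intro x y hx hy
      obtain ⟨u, hu, rfl⟩ := Finset.mem_image.1 hx
      obtain ⟨w, hw, rfl⟩ := Finset.mem_image.1 hy
      exact Finset.mem_image.2 ⟨u ^^^ w, (FClosed.range 20).add _ hu _ hw, hf u w⟩
    · intro r hr
      obtain ⟨i, hi, rfl⟩ := List.mem_map.1 hr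
      exact Finset.mem_image.2 ⟨2 ^ i,
        Finset.mem_range.2 (Nat.pow_lt_pow_right (by norm_num) (List.mem_range.1 hi)), rfl⟩
  have h1 := (FClosed.range 20).card_eq hf
  rw [Finset.card_range] at h1
  rw [hker, h1]
  exact Nat.mul_le_mul_left _ himg

/-- an element of the diagonal group -/
def eG (co : Coord D) (n : ℕ) : X := tgprod [co.el [5], co.el [6], co.el [7], co.el [8]] n

/-- an element of the permutation group -/
def pG (co : Coord D) (n : ℕ) : X := tgprod [co.el [0, 1], co.el [3, 4]] n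

theorem wmatrix_single {i : ℕ} (hi : i < 11) : wmatrix [i] = amatAt i := by
  revert i
  decide +kernel

theorem acts_eG (n : ℕ) : co.Acts (co.eG n) (eM n) := by
  have h := Chk.mono_words
  simp only [List.all_cons, List.all_nil, Bool.and_eq_true, Bool.and_true] at h
  obtain ⟨h5, h6, h7, h8, -, -⟩ := h
  refine acts_tgprod (.cons ?_ (.cons ?_ (.cons ?_ (.cons ?_ .nil)))) n
  · exact wmatrix_single (i := 5) (by norm_num) ▸ acts_el h5
  · exact wmatrix_single (i := 6) (by norm_num) ▸ acts_el h6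
  · exact wmatrix_single (i := 7) (by norm_num) ▸ acts_el h7
  · exact wmatrix_single (i := 8) (by norm_num) ▸ acts_el h8

theorem acts_pG (n : ℕ) : co.Acts (co.pG n) (pM n) := by
  have h := Chk.mono_words
  simp only [List.all_cons, List.all_nil, Bool.and_eq_true, Bool.and_true] at h
  exact acts_tgprod (.cons (acts_el h.2.2.2.2.1) (.cons (acts_el h.2.2.2.2.2) .nil)) n

theorem eG_zero : co.eG 0 = 1 := tgprod_zero _

theorem pG_zero : co.pG 0 = 1 := tgprod_zero _

theorem length_eM (n : ℕ) : (eM n).length = 20 := by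
  refine length_tprod _ (fun M hM => ?_) n
  obtain ⟨i, hi, rfl⟩ := List.mem_map.1 hM
  refine Chk.length_amat i ?_
  fin_cases hi <;> norm_num

theorem length_pM (n : ℕ) : (pM n).length = 20 := by
  refine length_tprod _ (fun M hM => ?_) n
  obtain ⟨w, -, rfl⟩ := List.mem_map.1 hM
  exact length_wmatrix w

theorem egen_spec {g : X} (hg : g ∈ [co.el [5], co.el [6], co.el [7], co.el [8]]) :
    ∃ j < 4, co.Acts g (amatAt (5 + j)) := by
  have h := Chk.mono_words
  simp only [List.all_cons, List.all_nil, Bool.and_eq_true, Bool.and_true] at h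
  obtain ⟨h5, h6, h7, h8, -, -⟩ := h
  simp only [List.mem_cons, List.not_mem_nil, or_false] at hg
  rcases hg with rfl | rfl | rfl | rfl
  · exact ⟨0, by norm_num, wmatrix_single (i := 5) (by norm_num) ▸ acts_el h5⟩
  · exact ⟨1, by norm_num, wmatrix_single (i := 6) (by norm_num) ▸ acts_el h6⟩
  · exact ⟨2, by norm_num, wmatrix_single (i := 7) (by norm_num) ▸ acts_el h7⟩
  · exact ⟨3, by norm_num, wmatrix_single (i := 8) (by norm_num) ▸ acts_el h8⟩

theorem eG_step {a : ℕ} (ha : a < 81) {g : X} (hg : g ∈ [co.el [5], co.el [6], co.el [7], co.el [8]]) :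
    ∃ m < 81, co.eG a * g = co.eG m := by
  obtain ⟨j, hj, hA⟩ := egen_spec (co := co) hg
  have h := Chk.mono_e
  simp only [List.all_eq_true, List.any_eq_true, List.mem_range, beq_iff_eq] at h
  obtain ⟨m, hm, e⟩ := h a ha j hj
  exact ⟨m, hm, ((acts_eG a).mul hA).eq_of (e ▸ acts_eG m)⟩

theorem eG_mul {a : ℕ} (ha : a < 81) (n : ℕ) : ∃ m < 81, co.eG a * co.eG n = co.eG m := by
  refine tgprod_stable (P := fun x => ∃ m < 81, x = co.eG m) ?_ n _ ⟨a, ha, rfl⟩
  rintro g hg x ⟨m, hm, rfl⟩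
  exact eG_step hm hg

theorem pG_mul {a : ℕ} (ha : a < 9) (n : ℕ) : ∃ m < 9, co.pG a * co.pG n = co.pG m := by
  refine tgprod_stable (P := fun x => ∃ m < 9, x = co.pG m) ?_ n _ ⟨a, ha, rfl⟩
  rintro g hg x ⟨m, hm, rfl⟩
  have h := Chk.mono_p
  simp only [List.all_eq_true, List.any_eq_true, List.mem_range, beq_iff_eq] at h
  have hw := Chk.mono_words
  simp only [List.all_cons, List.all_nil, Bool.and_eq_true, Bool.and_true] at hw
  simp only [List.mem_cons, List.not_mem_nil, or_false] at hg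
  rcases hg with rfl | rfl
  · obtain ⟨m', hm', e⟩ := h m hm [0, 1] (by simp)
    exact ⟨m', hm', ((acts_pG m).mul (acts_el hw.2.2.2.2.1)).eq_of (e ▸ acts_pG m')⟩
  · obtain ⟨m', hm', e⟩ := h m hm [3, 4] (by simp)
    exact ⟨m', hm', ((acts_pG m).mul (acts_el hw.2.2.2.2.2)).eq_of (e ▸ acts_pG m')⟩

theorem pG_eG {b : ℕ} (hb : b < 9) (n : ℕ) : ∃ m < 81, co.pG b * co.eG n = co.eG m * co.pG b := by
  refine tgprod_stable (P := fun x => ∃ m < 81, x = co.eG m * co.pG b) ?_ n _
    ⟨0, by norm_num, by rw [eG_zero, one_mul]⟩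
  rintro g hg x ⟨m, hm, rfl⟩
  obtain ⟨j, hj, hA⟩ := egen_spec (co := co) hg
  have h := Chk.mono_pe
  simp only [List.all_eq_true, List.any_eq_true, List.mem_range, beq_iff_eq] at h
  obtain ⟨m', hm', e⟩ := h b hb j hj
  obtain ⟨m'', hm'', e'⟩ := eG_mul (co := co) hm m'
  refine ⟨m'', hm'', ?_⟩
  rw [mul_assoc, ((acts_pG b).mul hA).eq_of (e ▸ (acts_eG m').mul (acts_pG b)), ← mul_assoc, e']

/-- the Sylow three-subgroup -/
noncomputable def sylThree (co : Coord D) [Finite X] : Subgroup X :=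
  finSub {x | ∃ a, a < 81 ∧ ∃ b, b < 9 ∧ co.eG a * co.pG b = x}
    ⟨0, by norm_num, 0, by norm_num, by rw [eG_zero, pG_zero, mul_one]⟩
    (by
      rintro _ ⟨a, ha, b, hb, rfl⟩ _ ⟨a', -, b', -, rfl⟩
      obtain ⟨m, -, e⟩ := pG_eG (co := co) hb a'
      obtain ⟨m', hm', e'⟩ := eG_mul (co := co) ha m
      obtain ⟨c, hc, e''⟩ := pG_mul (co := co) hb b'
      refine ⟨m', hm', c, hc, ?_⟩
      calc co.eG m' * co.pG c = co.eG a * (co.eG m * co.pG b) * co.pG b' := by rw [← e', ← e'']; group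
        _ = co.eG a * (co.pG b * co.eG a') * co.pG b' := by rw [e]
        _ = co.eG a * co.pG b * (co.eG a' * co.pG b') := by group)

/-- the two parts of the Sylow three-subgroup as subgroups -/
noncomputable def eSub (co : Coord D) [Finite X] : Subgroup X :=
  finSub {x | ∃ a, a < 81 ∧ co.eG a = x} ⟨0, by norm_num, eG_zero⟩
    (by
      rintro _ ⟨a, ha, rfl⟩ _ ⟨a', -, rfl⟩
      obtain ⟨m, hm, e⟩ := eG_mul (co := co) ha a'
      exact ⟨m, hm, e.symm⟩)

/-- the permutation part -/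
noncomputable def pSub (co : Coord D) [Finite X] : Subgroup X :=
  finSub {x | ∃ b, b < 9 ∧ co.pG b = x} ⟨0, by norm_num, pG_zero⟩
    (by
      rintro _ ⟨a, ha, rfl⟩ _ ⟨a', -, rfl⟩
      obtain ⟨m, hm, e⟩ := pG_mul (co := co) ha a'
      exact ⟨m, hm, e.symm⟩)

theorem sylThree_ne_one [Finite X] {a b : ℕ} (ha : a < 81) (hb : b < 9) (e : co.eG a * co.pG b = 1) :
    a = 0 ∧ b = 0 := by
  have h := Chk.mono_inj
  simp only [List.all_eq_true, List.mem_range, Bool.or_eq_true, beq_iff_eq, Bool.and_eq_true, bne_iff_ne] at h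
  rcases h (a * 9 + b) (by omega) with h | ⟨h, -⟩
  · omega
  · rw [show (a * 9 + b) / 9 = a by omega, show (a * 9 + b) % 9 = b by omega] at h
    refine absurd ?_ h
    exact Acts.list_eq (e ▸ (acts_eG a).mul (acts_pG b)) (Acts.one (co := co))
      (by simp [mmul, length_pM]) (by simp [idM])

theorem eG_pG_inj [Finite X] {a b a' b' : ℕ} (ha : a < 81) (hb : b < 9) (ha' : a' < 81) (hb' : b' < 9)
    (e : co.eG a * co.pG b = co.eG a' * co.pG b') : a = a' ∧ b = b' := by
  have hx : (co.eG a')⁻¹ * co.eG a = co.pG b' * (co.pG b)⁻¹ := by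
    rw [eq_mul_inv_iff_mul_eq, mul_assoc, e, inv_mul_cancel_left]
  have h1 : (co.eG a')⁻¹ * co.eG a ∈ co.eSub :=
    co.eSub.mul_mem (co.eSub.inv_mem ⟨a', ha', rfl⟩) ⟨a, ha, rfl⟩
  have h2 : ((co.eG a')⁻¹ * co.eG a)⁻¹ ∈ co.pSub := by
    rw [hx]
    exact co.pSub.inv_mem (co.pSub.mul_mem ⟨b', hb', rfl⟩ (co.pSub.inv_mem ⟨b, hb, rfl⟩))
  obtain ⟨c, hc, ec⟩ := h1
  obtain ⟨d, hd, ed⟩ := h2
  have h3 : co.eG c * co.pG d = 1 := by rw [ec, ed, mul_inv_cancel]
  obtain ⟨rfl, rfl⟩ := sylThree_ne_one hc hd h3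
  rw [eG_zero] at ec
  have h4 : co.eG a = co.eG a' := by rw [eq_comm, inv_mul_eq_one] at ec; exact ec.symm
  have h5 : co.pG b = co.pG b' := by rw [h4] at e; exact mul_left_cancel e
  constructor
  · have hM := Acts.list_eq (h4 ▸ acts_eG a) (acts_eG (co := co) a') (length_eM a) (length_eM a')
    have := (List.nodup_iff_injective_get.1 Chk.eM_nodup) (a₁ := ⟨a, by simpa using ha⟩)
      (a₂ := ⟨a', by simpa using ha'⟩) (by simpa using hM)
    simpa using this
  · have hM := Acts.list_eq (h5 ▸ acts_pG b) (acts_pG (co := co) b') (length_pM b) (length_pM b')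
    have := (List.nodup_iff_injective_get.1 Chk.pM_nodup) (a₁ := ⟨b, by simpa using hb⟩)
      (a₂ := ⟨b', by simpa using hb'⟩) (by simpa using hM)
    simpa using this

theorem card_sylThree [Finite X] : Nat.card co.sylThree = 3 ^ 6 := by
  let f : Fin 81 × Fin 9 → co.sylThree := fun p => ⟨_, ⟨p.1, p.1.2, p.2, p.2.2, rfl⟩⟩
  have hf : Function.Bijective f := by
    refine ⟨fun p q e => ?_, ?_⟩
    · obtain ⟨e1, e2⟩ := eG_pG_inj p.1.2 p.2.2 q.1.2 q.2.2 (congrArg Subtype.val e)
      exact Prod.ext (Fin.ext e1) (Fin.ext e2)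
    · rintro ⟨x, a, ha, b, hb, rfl⟩
      exact ⟨(⟨a, ha⟩, ⟨b, hb⟩), rfl⟩
  rw [← Nat.card_eq_of_bijective f hf]
  simp

theorem sylThree_le [Finite X] : co.sylThree ≤ D.K₀ := by
  rintro _ ⟨a, -, b, -, rfl⟩
  exact D.K₀.mul_mem (acts_eG a).mem (acts_pG b).mem

theorem card_fix_conj_singleton [Finite X] {c : X} (hc : c ∈ D.H) (g : X) :
    Nat.card (D.fix {c * g * c⁻¹}) = Nat.card (D.fix {g}) := by
  refine Data.card_fix_conj hc _ _ (fun s hs => ?_) fun t ht => ?_
  · rw [Set.mem_singleton_iff] at hs ⊢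
    rw [hs]
  · rw [Set.mem_singleton_iff] at ht ⊢
    rw [ht]
    group

theorem exists_conj_zpowers [Finite X] [Fintype F] (hF : Fintype.card F = 4) {x g : X} {p : ℕ}
    [Fact p.Prime] (hx : x ∈ D.K₀) (hxo : orderOf x = p) (hp2 : ¬ p ^ 2 ∣ 9196830720) (hg : g ∈ D.K₀)
    (hgo : orderOf g = p) : Nat.card (D.fix {g}) ≤ Nat.card (D.fix {x}) := by
  obtain ⟨c, hc, hmem⟩ := conj_into (H := D.K₀) (P := Subgroup.zpowers x) (Q := Subgroup.zpowers g)
    (p := p) (n := 1) (Subgroup.zpowers_le.2 hx) (by rw [Nat.card_zpowers, hxo, pow_one])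
    (by rw [card_K₀ hF D]; exact hp2) (IsPGroup.of_card (n := 1) (by rw [Nat.card_zpowers, hgo, pow_one]))
    (Subgroup.zpowers_le.2 hg)
  have h1 := hmem g (Subgroup.mem_zpowers g)
  rw [← card_fix_conj_singleton (D := D) (K₀_le_H hc) g]
  refine Subgroup.card_le_of_le (Data.fix_le_of_mem_zpowers ?_)
  have he : Subgroup.zpowers (c * g * c⁻¹) = Subgroup.zpowers x := by
    refine Subgroup.eq_of_le_of_card_ge (Subgroup.zpowers_le.2 h1) ?_
    rw [Nat.card_zpowers, Nat.card_zpowers, hxo,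
      show c * g * c⁻¹ = (MulAut.conj c).toMonoidHom g from rfl,
      orderOf_injective _ (MulAut.conj c).injective, hgo]
  rw [he]
  exact Subgroup.mem_zpowers x

theorem orderOf_el {w : List ℕ} {p : ℕ} [Fact p.Prime] [Finite X] (hw : wOK w = true)
    (hne : wmatrix w ≠ idM 20) (hpow : co.el w ^ p = 1) : orderOf (co.el w) = p := by
  refine orderOf_eq_prime hpow fun e => hne ?_
  exact Acts.list_eq (e ▸ acts_el hw) (Acts.one (co := co)) (length_wmatrix w) (by simp [idM])

/-- the fixed subgroup of an element of prime order -/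
theorem card_fix_prime [Finite X] [Fintype F] (co : Coord D) (hF : Fintype.card F = 4) {g : X}
    (hg : g ∈ D.K₀) (hp : (orderOf g).Prime) :
    Nat.card (D.fix {g}) * 32 ≤ 2 ^ 20 ∧ (orderOf g = 3 → Nat.card (D.fix {g}) * 128 ≤ 2 ^ 20) := by
  have hdvd : orderOf g ∣ 2 ^ 15 * 3 ^ 6 * 5 * 7 * 11 := by
    have h1 := Subgroup.orderOf_dvd_natCard D.K₀ hg
    rw [card_K₀ hF D] at h1
    exact (show (2 ^ 15 * 3 ^ 6 * 5 * 7 * 11 : ℕ) = 9196830720 by norm_num) ▸ h1
  have hcases : orderOf g = 2 ∨ orderOf g = 3 ∨ orderOf g = 5 ∨ orderOf g = 7 ∨ orderOf g = 11 := by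
    rcases hp.dvd_mul.1 hdvd with h | h
    · rcases hp.dvd_mul.1 h with h | h
      · rcases hp.dvd_mul.1 h with h | h
        · rcases hp.dvd_mul.1 h with h | h
          · exact Or.inl ((Nat.prime_dvd_prime_iff_eq hp Nat.prime_two).1 (hp.dvd_of_dvd_pow h))
          · exact Or.inr (Or.inl ((Nat.prime_dvd_prime_iff_eq hp Nat.prime_three).1 (hp.dvd_of_dvd_pow h)))
        · exact Or.inr (Or.inr (Or.inl ((Nat.prime_dvd_prime_iff_eq hp (by norm_num)).1 h)))
      · exact Or.inr (Or.inr (Or.inr (Or.inl ((Nat.prime_dvd_prime_iff_eq hp (by norm_num)).1 h))))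
    · exact Or.inr (Or.inr (Or.inr (Or.inr ((Nat.prime_dvd_prime_iff_eq hp (by norm_num)).1 h))))
  rcases hcases with h2 | h3 | hodd
  · refine ⟨?_, fun h => absurd (h2.symm.trans h) (by norm_num)⟩
    have : Fact (Nat.Prime 2) := ⟨Nat.prime_two⟩
    obtain ⟨c, hc, hmem⟩ := conj_into (H := D.K₀) (P := co.sylTwo) (Q := Subgroup.zpowers g)
      (p := 2) (n := 15) sylTwo_le card_sylTwo (by rw [card_K₀ hF D]; norm_num)
      (IsPGroup.of_card (n := 1) (by rw [Nat.card_zpowers, h2, pow_one])) (Subgroup.zpowers_le.2 hg)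
    rw [← card_fix_conj_singleton (D := D) (K₀_le_H hc) g]
    have ho : orderOf (c * g * c⁻¹) = 2 :=
      (orderOf_injective (MulAut.conj c).toMonoidHom (MulAut.conj c).injective g).trans h2
    set g' := c * g * c⁻¹ with hg'
    have hcard : Nat.card (Subgroup.zpowers g') = 2 := by rw [Nat.card_zpowers, ho]
    have hQ : Subgroup.zpowers g' ≤ co.sylTwo := Subgroup.zpowers_le.2 (hmem g (Subgroup.mem_zpowers g))
    have hsq : ∀ x ∈ Subgroup.zpowers g', x * x = 1 := fun x hx => by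
      have h1 := Subgroup.orderOf_dvd_natCard _ hx
      rw [hcard] at h1
      have h := orderOf_dvd_iff_pow_eq_one.1 h1
      rwa [pow_two] at h
    have hne : Subgroup.zpowers g' ≠ ⊥ := fun e => by
      rw [e, Subgroup.card_bot] at hcard; norm_num at hcard
    have hfix : Nat.card (D.fix {g'}) ≤ Nat.card (D.fix (Subgroup.zpowers g' : Set X)) := by
      refine Subgroup.card_le_of_le fun a ha => Data.mem_fix.2 ⟨(Data.mem_fix.1 ha).1, fun s hs => ?_⟩
      exact (Data.mem_fix.1 (Data.fix_le_of_mem_zpowers hs ha)).2 s rfl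
    obtain ⟨n, hn⟩ := D.exists_card_fix_eq (Subgroup.zpowers g' : Set X)
    rw [hn] at hfix
    rcases bound_sylow (co := co) _ hQ hsq hne with hb | ⟨-, hb, -⟩
    · rw [hcard, hn] at hb
      have h4 : 2 ^ (n + 4) < 2 ^ 20 := by rw [pow_add]; norm_num at hb ⊢; exact hb
      have h5 := (Nat.pow_lt_pow_iff_right (by norm_num : 1 < 2)).1 h4
      calc Nat.card (D.fix {g'}) * 32 ≤ 2 ^ n * 2 ^ 5 := Nat.mul_le_mul_right _ hfix
        _ = 2 ^ (n + 5) := (pow_add 2 n 5).symm
        _ ≤ 2 ^ 20 := Nat.pow_le_pow_right (by norm_num) (by omega)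
    · rw [hcard] at hb; norm_num at hb
  · have : Fact (Nat.Prime 3) := ⟨Nat.prime_three⟩
    obtain ⟨c, hc, hmem⟩ := conj_into (H := D.K₀) (P := co.sylThree) (Q := Subgroup.zpowers g)
      (p := 3) (n := 6) sylThree_le card_sylThree (by rw [card_K₀ hF D]; norm_num)
      (IsPGroup.of_card (n := 1) (by rw [Nat.card_zpowers, h3, pow_one])) (Subgroup.zpowers_le.2 hg)
    rw [← card_fix_conj_singleton (D := D) (K₀_le_H hc) g]
    have ho : orderOf (c * g * c⁻¹) = 3 :=
      (orderOf_injective (MulAut.conj c).toMonoidHom (MulAut.conj c).injective g).trans h3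
    obtain ⟨a, ha, b, hb, e⟩ := hmem g (Subgroup.mem_zpowers g)
    set g' := c * g * c⁻¹ with hg'
    have hA : co.Acts g' (mmul (eM a) (pM b)) := e ▸ (acts_eG a).mul (acts_pG b)
    have hne : ¬ (a * 9 + b = 0) := fun h0 => by
      obtain ⟨rfl, rfl⟩ : a = 0 ∧ b = 0 := by omega
      rw [eG_zero, pG_zero, mul_one] at e
      rw [← e, orderOf_one] at ho
      norm_num at ho
    have h := Chk.mono_inj
    simp only [List.all_eq_true, List.mem_range, Bool.or_eq_true, beq_iff_eq, Bool.and_eq_true, bne_iff_ne,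
      Bool.not_eq_true'] at h
    rcases h (a * 9 + b) (by omega) with h | ⟨h1, h⟩
    · exact absurd h hne
    rw [show (a * 9 + b) / 9 = a by omega, show (a * 9 + b) % 9 = b by omega] at h h1
    have hthree : isThree (mmul (eM a) (pM b)) = true := by
      simp only [isThree, Bool.and_eq_true, bne_iff_ne, beq_iff_eq]
      refine ⟨h1, Acts.list_eq (g := g' * (g' * g')) (hA.mul (hA.mul hA)) ?_
        (by simp [mmul, length_pM]) (by simp [idM])⟩
      have h33 : g' ^ 3 = 1 := ho ▸ pow_orderOf_eq_one g'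
      rw [pow_succ', pow_two] at h33
      exact h33 ▸ Acts.one
    have h128 : Nat.card (D.fix {g'}) * 128 ≤ 2 ^ 20 :=
      hA.card_fix_mul_le (h.resolve_left (by rw [hthree]; simp))
    exact ⟨le_trans (Nat.mul_le_mul_left _ (by norm_num)) h128, fun _ => h128⟩
  · refine ⟨?_, fun h => ?_⟩
    swap
    · rcases hodd with h' | h' | h' <;> rw [h'] at h <;> norm_num at h
    obtain ⟨w5, w7, w11, c5, c7, c11⟩ := Chk.odd_wit
    simp only [Bool.and_eq_true, bne_iff_ne, beq_iff_eq] at c5 c7 c11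
    rcases hodd with h5 | h7 | h11
    · have : Fact (Nat.Prime 5) := ⟨by norm_num⟩
      obtain ⟨⟨hne, hp'⟩, hm⟩ := c5
      have hA := acts_el (co := co) w5
      have hx : orderOf (co.el Tab.w5) = 5 := orderOf_el w5 hne (by
        have := (hA.mul ((hA.mul hA).mul (hA.mul hA))).eq_of (hp' ▸ Acts.one)
        simpa only [pow_succ, pow_zero, one_mul, mul_assoc] using this)
      exact le_trans (Nat.mul_le_mul_right _ (exists_conj_zpowers (p := 5) hF hA.mem hx (by norm_num) hg h5))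
        (hA.card_fix_mul_le hm)
    · have : Fact (Nat.Prime 7) := ⟨by norm_num⟩
      obtain ⟨⟨hne, hp'⟩, hm⟩ := c7
      have hA := acts_el (co := co) w7
      have h3A := hA.mul (hA.mul hA)
      have hx : orderOf (co.el Tab.w7) = 7 := orderOf_el w7 hne (by
        have := (hA.mul (h3A.mul h3A)).eq_of (hp' ▸ Acts.one)
        simpa only [pow_succ, pow_zero, one_mul, mul_assoc] using this)
      exact le_trans (Nat.mul_le_mul_right _ (exists_conj_zpowers (p := 7) hF hA.mem hx (by norm_num) hg h7))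
        (hA.card_fix_mul_le hm)
    · have : Fact (Nat.Prime 11) := ⟨by norm_num⟩
      obtain ⟨⟨hne, hp'⟩, hm⟩ := c11
      have hA := acts_el (co := co) w11
      have h5A := hA.mul ((hA.mul hA).mul (hA.mul hA))
      have hx : orderOf (co.el Tab.w11) = 11 := orderOf_el w11 hne (by
        have := (hA.mul (h5A.mul h5A)).eq_of (hp' ▸ Acts.one)
        simpa only [pow_succ, pow_zero, one_mul, mul_assoc] using this)
      exact le_trans (Nat.mul_le_mul_right _ (exists_conj_zpowers (p := 11) hF hA.mem hx (by norm_num) hg h11))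
        (hA.card_fix_mul_le hm)

theorem card_fix_K₀ [Finite X] [Fintype F] (co : Coord D) (hF : Fintype.card F = 4) {g : X}
    (hg : g ∈ D.K₀) (h1 : g ≠ 1) : Nat.card (D.fix {g}) * 32 ≤ 2 ^ 20 := by
  obtain ⟨p, hp, hdvd⟩ := Nat.exists_prime_and_dvd (mt orderOf_eq_one_iff.1 h1)
  obtain ⟨m, hm⟩ := hdvd
  have hm0 : m ≠ 0 := fun h => by
    rw [h, mul_zero] at hm
    exact absurd hm (orderOf_pos g).ne'
  have ho : orderOf (g ^ m) = p := by
    rw [orderOf_pow_of_dvd hm0 (hm ▸ dvd_mul_left m p), hm,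
      Nat.mul_div_cancel p (Nat.pos_of_ne_zero hm0)]
  refine le_trans (Nat.mul_le_mul_right _ (Subgroup.card_le_of_le
    (Data.fix_le_of_mem_zpowers (Subgroup.pow_mem _ (Subgroup.mem_zpowers g) m)))) ?_
  exact (card_fix_prime co hF (D.K₀.pow_mem hg m) (by rw [ho]; exact hp)).1

/-- the fixed subgroup of a non-trivial element of `K` has index at least eight -/
theorem card_fix_K [Finite X] [Fintype F] (co : Coord D) (hF : Fintype.card F = 4) {k : X}
    (hk : k ∈ D.K) (h1 : k ≠ 1) : Nat.card (D.fix {k}) * 4 < 2 ^ 20 := by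
  by_contra hbig
  rw [not_lt] at hbig
  have hk0 : k ∉ D.K₀ := fun h => by have := card_fix_K₀ co hF h h1; omega
  have hcomm : ∀ g ∈ D.K₀, k * g = g * k := by
    intro g hg
    by_contra hne
    set c := k * g * k⁻¹ * g⁻¹ with hc
    have hcK : c ∈ D.K₀ := D.K₀.mul_mem (D.normal k hk g hg) (D.K₀.inv_mem hg)
    have hc1 : c ≠ 1 := fun e => hne (by rw [hc, mul_inv_eq_one, mul_inv_eq_iff_eq_mul] at e; exact e)
    have h2 := Data.card_fix_pair (D := D) k (g * k * g⁻¹)
    rw [card_fix_conj_singleton (D := D) (K₀_le_H hg)] at h2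
    have h3 : D.fix {k, g * k * g⁻¹} ≤ D.fix {c} := by
      intro a ha
      obtain ⟨hA, hh⟩ := Data.mem_fix.1 ha
      refine Data.mem_fix.2 ⟨hA, fun s hs => ?_⟩
      rw [Set.mem_singleton_iff] at hs
      have e1 : Commute k a := hh k (Or.inl rfl)
      have e2 : Commute (g * k * g⁻¹) a := hh _ (Or.inr rfl)
      rw [hs, hc, show k * g * k⁻¹ * g⁻¹ = k * (g * k * g⁻¹)⁻¹ by group]
      exact (e1.mul_left e2.inv_left)
    have h4 := Subgroup.card_le_of_le h3
    have h5 := card_fix_K₀ co hF hcK hc1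
    nlinarith [Nat.mul_le_mul hbig hbig]
  -- the fixed subgroup is invariant under `K`
  have hinv : ∀ k' ∈ D.K, ∀ b ∈ D.fix {k}, k' * b * k'⁻¹ ∈ D.fix {k} := by
    have hK₀ : ∀ x ∈ D.K₀, ∀ b ∈ D.fix {k}, x * b * x⁻¹ ∈ D.fix {k} := by
      intro x hx b hb
      obtain ⟨hA, hh⟩ := Data.mem_fix.1 hb
      refine Data.mem_fix.2 ⟨Data.conj_mem (K₀_le_H hx) hA, fun s hs => ?_⟩
      rw [Set.mem_singleton_iff] at hs
      rw [hs]
      have e1 : Commute k x := hcomm x hx
      exact ((e1.mul_right (hh k rfl)).mul_right e1.inv_right : Commute k (x * b * x⁻¹))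
    intro k' hk' b hb
    by_cases hk'0 : k' ∈ D.K₀
    · exact hK₀ k' hk'0 b hb
    have hidx : (D.K₀.subgroupOf D.K).index = 2 := by
      have h0 : (D.K₀.subgroupOf D.K).index ≠ 0 := Subgroup.index_ne_zero_of_finite
      have h1' : (D.K₀.subgroupOf D.K).index ≠ 1 := fun e => hk0 (by
        rw [Subgroup.index_eq_one, Subgroup.subgroupOf_eq_top] at e
        exact e hk)
      have := D.index
      omega
    have hmem := (Subgroup.mul_mem_iff_of_index_two hidx (a := (⟨k, hk⟩ : D.K)⁻¹) (b := ⟨k', hk'⟩)).2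
      (iff_of_false (fun h => hk0 (by
        rw [Subgroup.inv_mem_iff] at h
        exact h)) hk'0)
    have hx : k⁻¹ * k' ∈ D.K₀ := hmem
    have h6 := hK₀ _ hx b hb
    have h7 : k * (k⁻¹ * k' * b * (k⁻¹ * k')⁻¹) = k⁻¹ * k' * b * (k⁻¹ * k')⁻¹ * k :=
      (Data.mem_fix.1 h6).2 k rfl
    have h8 : k' * b * k'⁻¹ = k⁻¹ * k' * b * (k⁻¹ * k')⁻¹ := by
      calc k' * b * k'⁻¹ = k * (k⁻¹ * k' * b * (k⁻¹ * k')⁻¹) * k⁻¹ := by group
        _ = _ := by rw [h7, mul_inv_cancel_right]
    rw [h8]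
    exact h6
  rcases D.irr _ (Data.fix_le _) hinv with h | h
  · rw [h, Subgroup.card_bot] at hbig
    norm_num at hbig
  · refine h1 (D.faithful k hk fun a ha => ?_)
    rw [← h] at ha
    exact (Data.mem_fix.1 ha).2 k rfl

end Coord

end Cfsg.Agent.Lie.USixTwenty
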