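import Cfsg.Agent.Lib.Lie.USixTwenty.Weights
import Mathlib.Data.Fintype.Pi
import Mathlib.Data.Fintype.Card

/-!
The permutations act on the forty planes; counting leaves exactly the ten planes of the three-element
subsets, each of order four, and they fill the module.
-/

set_option autoImplicit false
set_option maxRecDepth 100000

namespace Cfsg.Agent.Lie.USixTwenty

universe u

/-- the adjacent transposition -/
def tr (s : Fin 5) : Equiv.Perm (Fin 6) := Equiv.swap s.castSucc s.succ

/-- the image of an index under an adjacent transposition -/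
def trIdx (s : Fin 5) (c : Fin 40) : Fin 40 := ⟨((trTab.getD s.val []).getD c.val 0) % 40, Nat.mod_lt _ (by norm_num)⟩

theorem trIdx_ok : ∀ (s : Fin 5) (c : Fin 40), ∃ e k : ZMod 3, ∀ i, chv (trIdx s c) i = e * chv c (tr s i) + k := by
  decide +kernel

theorem trIdx_inv : ∀ (s : Fin 5) (c : Fin 40), trIdx s (trIdx s c) = c := by decide +kernel

theorem chi_trIdx (s : Fin 5) (c : Fin 40) {x : XV} (hx : ev x) :
    ∃ e : ZMod 3, chi (trIdx s c) x = e * chi c (x ∘ tr s) := by
  obtain ⟨e, k, h⟩ := trIdx_ok s c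
  refine ⟨e, ?_⟩
  have h2 : chi c (x ∘ tr s) = ∑ i, chv c (tr s i) * x i := by
    rw [chi, ← Equiv.sum_comp (tr s) (fun i => chv c i * (x ∘ tr s) i)]
    refine Finset.sum_congr rfl fun i _ => ?_
    show chv c (tr s i) * x (tr s (tr s i)) = _
    rw [tr, Equiv.swap_apply_self]
  rw [h2, Finset.mul_sum, chi]
  calc ∑ i, chv (trIdx s c) i * x i = ∑ i, (e * (chv c (tr s i) * x i) + k * x i) :=
        Finset.sum_congr rfl fun i _ => by rw [h i]; ring
    _ = ∑ i, e * (chv c (tr s i) * x i) + k * ∑ i, x i := by rw [Finset.sum_add_distrib, Finset.mul_sum]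
    _ = _ := by rw [show ∑ i, x i = 0 from hx, mul_zero, add_zero]

variable {M : Type u} [AddCommGroup M] (R : Rep M)

/-- the action of a permutation -/
def Rep.pp (σ : Equiv.Perm (Fin 6)) (m : M) : M := R.act (pm σ) m

theorem Rep.pp_mul (σ τ : Equiv.Perm (Fin 6)) (m : M) : R.pp (σ * τ) m = R.pp σ (R.pp τ m) := by
  show R.act (pm (σ * τ)) m = _
  rw [pm_mul, R.act_mul]
  rfl

theorem Rep.pp_one (m : M) : R.pp 1 m = m := by
  show R.act (pm 1) m = m
  rw [pm_one, R.act_one]

theorem Rep.dd_pp {x : XV} (hx : ev x) (σ : Equiv.Perm (Fin 6)) (m : M) :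
    R.dd x (R.pp σ m) = R.pp σ (R.dd (x ∘ σ) m) := (R.pm_dd hx σ m).symm

theorem Rep.sg_pp (σ : Equiv.Perm (Fin 6)) (m : M) : R.sg (R.pp σ m) = R.pp σ (R.sg m) := by
  show ∑ x ∈ evs, R.dd x (R.pp σ m) = R.act (pm σ) (∑ x ∈ evs, R.dd x m)
  rw [R.act_sum]
  refine Finset.sum_nbij (fun x => x ∘ σ) (fun x hx => mem_evs.2 (ev_comp (mem_evs.1 hx) σ))
    (fun a _ b _ h => funext fun i => by simpa using congrFun h (σ.symm i)) (fun y hy => ?_)
    (fun x hx => R.dd_pp (mem_evs.1 hx) σ m)
  exact ⟨y ∘ σ.symm, Finset.mem_coe.2 (mem_evs.2 (ev_comp (mem_evs.1 (Finset.mem_coe.1 hy)) _)),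
    funext fun i => by simp⟩

theorem Rep.inP_pp {c : Fin 40} {v : M} (hv : R.InP c v) (s : Fin 5) : R.InP (trIdx s c) (R.pp (tr s) v) := by
  refine ⟨fun x hx => ?_, by rw [R.sg_pp, hv.2]; exact R.act_zero _⟩
  obtain ⟨h1, h2⟩ := mem_kerc.1 hx
  obtain ⟨e, he⟩ := chi_trIdx s c h1
  rw [R.dd_pp h1]
  congr 1
  refine hv.1 _ (mem_kerc.2 ⟨ev_comp h1 _, ?_⟩)
  obtain ⟨e', k, hk⟩ := trIdx_ok s (trIdx s c)
  have hinv : trIdx s (trIdx s c) = c := trIdx_inv s c
  obtain ⟨d, hd⟩ := chi_trIdx s (trIdx s c) (ev_comp h1 (tr s))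
  rw [hinv] at hd
  rw [hd, Function.comp_assoc, show (tr s : Fin 6 → Fin 6) ∘ tr s = id from funext fun i => Equiv.swap_apply_self _ _ _,
    Function.comp_id, h2, mul_zero]

/-- the reachable indices -/
def clo : ℕ → List (Fin 40) → List (Fin 40)
  | 0, l => l
  | n + 1, l => clo n (l ++ (List.finRange 5).flatMap fun s => l.map (trIdx s)).dedup

include R in
theorem Rep.clo_plane : ∀ (n : ℕ) (l : List (Fin 40)), (∀ c ∈ l, ∃ v, R.InP c v ∧ v ≠ 0) →
    ∀ c ∈ clo n l, ∃ v, R.InP c v ∧ v ≠ 0
  | 0, _, h => h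
  | n + 1, l, h => fun c hc => Rep.clo_plane n _ (fun d hd => by
      rw [List.mem_dedup, List.mem_append, List.mem_flatMap] at hd
      rcases hd with hd | ⟨s, -, hd⟩
      · exact h d hd
      · obtain ⟨e, he, rfl⟩ := List.mem_map.1 hd
        obtain ⟨v, hv, hv0⟩ := h e he
        exact ⟨_, R.inP_pp hv s, fun h0 => hv0 (R.act_inj (h0.trans (R.act_zero _).symm))⟩) c hc

theorem clo_big : ∀ c : Fin 40, 10 ≤ c.val → 15 ≤ (clo 8 [c]).length := by decide +kernel

theorem clo_nodup : ∀ c : Fin 40, (clo 8 [c]).Nodup := by decide +kernel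

theorem clo_ten : ∀ c : Fin 40, c.val < 10 → ∀ d : Fin 40, d.val < 10 → d ∈ clo 8 [c] := by decide +kernel

/-- a unit vector for a character -/
noncomputable def unitv (c : Fin 40) : XV := (exists_unit c).choose

theorem unitv_spec (c : Fin 40) : ev (unitv c) ∧ chi c (unitv c) = 1 :=
  ⟨mem_evs.1 (exists_unit c).choose_spec.1, (exists_unit c).choose_spec.2⟩

/-- the four vectors of a line -/
def Rep.quad (a : XV) (v : M) : Fin 4 → M := ![0, v, R.dd a v, R.dd (a + a) v]

theorem Rep.quad_inj {c : Fin 40} {v : M} (hv : R.InP c v) (hv0 : v ≠ 0) {a : XV} (ha : ev a) (hc : chi c a = 1) :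
    Function.Injective (R.quad a v) := by
  have hs := R.line_sum hv ha hc
  have h3 : a + a + a = 0 := funext fun i => by
    have : ∀ z : ZMod 3, z + z + z = 0 := by decide
    exact this (a i)
  have hd : ∀ w, R.dd a (R.dd a w) = R.dd (a + a) w := fun w => (R.dd_add ha ha w).symm
  have hnz : ∀ {x : XV}, R.dd x v ≠ 0 := fun {x} h => hv0 (R.act_inj (h.trans (R.act_zero _).symm))
  have h1 : R.dd a v ≠ v := fun e => by
    rw [e, R.two, zero_add] at hs
    exact hnz hs
  have h2 : R.dd (a + a) v ≠ v := fun e => by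
    rw [e, add_comm v, add_assoc, R.two, add_zero] at hs
    exact hnz hs
  have h12 : R.dd a v ≠ R.dd (a + a) v := fun e => h1 (R.act_inj (by
    rw [← hd] at e
    exact e.symm))
  intro i j h
  fin_cases i <;> fin_cases j
  all_goals first
    | rfl
    | exact absurd h.symm hv0
    | exact absurd h hv0
    | exact absurd h.symm hnz
    | exact absurd h hnz
    | exact absurd h h1
    | exact absurd h.symm h1
    | exact absurd h h2
    | exact absurd h.symm h2
    | exact absurd h h12
    | exact absurd h.symm h12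

theorem Rep.quad_mem {c : Fin 40} {v : M} (hv : R.InP c v) {a : XV} (ha : ev a) (i : Fin 4) :
    R.InP c (R.quad a v i) := by
  fin_cases i
  · exact R.inP_zero c
  · exact hv
  · exact R.inP_dd hv ha
  · exact R.inP_dd hv (ev_add ha ha)

theorem Rep.pr_zero (c : Fin 40) : R.pr c 0 = 0 := Finset.sum_eq_zero fun _ _ => R.act_zero _

theorem Rep.pr_sum {ι : Type} [Fintype ι] (c : Fin 40) (f : ι → M) : R.pr c (∑ i, f i) = ∑ i, R.pr c (f i) := by
  classical
  suffices h : ∀ s : Finset ι, R.pr c (∑ i ∈ s, f i) = ∑ i ∈ s, R.pr c (f i) from h _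
  intro s
  induction s using Finset.induction with
  | empty => simp [R.pr_zero]
  | @insert a s ha ih => rw [Finset.sum_insert ha, Finset.sum_insert ha, R.pr_add, ih]

/-- the projection of a sum of plane vectors -/
theorem Rep.pr_combo {ι : Type} [Fintype ι] (e : ι → Fin 40) (he : Function.Injective e) (f : ι → M)
    (hf : ∀ i, R.InP (e i) (f i)) (i : ι) : R.pr (e i) (∑ j, f j) = f i := by
  rw [R.pr_sum, Finset.sum_eq_single i (fun j _ hji => R.pr_other (fun h => hji (he h)) (hf j))
    (fun h => absurd (Finset.mem_univ i) h), R.pr_self (hf i)]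

theorem Rep.count {ι : Type} [Fintype ι] (e : ι → Fin 40) (he : Function.Injective e)
    (h : ∀ i, ∃ v, R.InP (e i) v ∧ v ≠ 0) : 4 ^ Fintype.card ι ≤ 2 ^ 20 := by
  classical
  haveI : Finite M := Nat.finite_of_card_ne_zero (by rw [R.card]; norm_num)
  choose v hv hv0 using h
  let g : (ι → Fin 4) → M := fun f => ∑ i, R.quad (unitv (e i)) (v i) (f i)
  have hg : Function.Injective g := by
    intro f f' hff
    funext i
    have h1 := congrArg (R.pr (e i)) hff
    simp only [g] at h1
    rw [R.pr_combo e he _ (fun j => R.quad_mem (hv j) (unitv_spec _).1 _),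
      R.pr_combo e he _ (fun j => R.quad_mem (hv j) (unitv_spec _).1 _)] at h1
    exact R.quad_inj (hv i) (hv0 i) (unitv_spec _).1 (unitv_spec _).2 h1
  have := Nat.card_le_card_of_injective g hg
  rwa [R.card, Nat.card_eq_fintype_card, Fintype.card_fun, Fintype.card_fin] at this

/-- the ten planes are non-zero -/
theorem Rep.ten_planes (d : Fin 40) (hd : d.val < 10) : ∃ v, R.InP d v ∧ v ≠ 0 := by
  obtain ⟨c, v, hv, hv0⟩ := R.exists_plane
  have hall := R.clo_plane 8 [c] (by
    intro x hx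
    rw [List.mem_singleton] at hx
    exact hx ▸ ⟨v, hv, hv0⟩)
  by_cases hc : c.val < 10
  · exact hall d (clo_ten c hc d hd)
  · exfalso
    have h := R.count (fun i : Fin (clo 8 [c]).length => (clo 8 [c]).get i)
      (List.nodup_iff_injective_get.1 (clo_nodup c)) (fun i => hall _ (List.get_mem _ _))
    rw [Fintype.card_fin] at h
    have h15 : (4 : ℕ) ^ 15 ≤ 4 ^ (clo 8 [c]).length := Nat.pow_le_pow_right (by norm_num) (clo_big c (by omega))
    have := h15.trans h
    norm_num at this

/-- a plane of a three-element subset has four vectors -/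
theorem Rep.plane_four {c : Fin 40} (hc : c.val < 10) {u : M} (hu : R.InP c u) (hu0 : u ≠ 0) {a : XV}
    (ha : ev a) (hca : chi c a = 1) {v : M} (hv : R.InP c v) : ∃ i, v = R.quad a u i := by
  classical
  haveI : Finite M := Nat.finite_of_card_ne_zero (by rw [R.card]; norm_num)
  have hw : ∀ d : Fin 10, ∃ w, R.InP (Fin.castLE (by norm_num) d) w ∧ w ≠ 0 := fun d => R.ten_planes _ d.isLt
  choose w hw hw0 using hw
  let e : Fin 10 → Fin 40 := Fin.castLE (by norm_num)
  have he : Function.Injective e := Fin.castLE_injective _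
  let d₀ : Fin 10 := ⟨c.val, hc⟩
  let q : Fin 10 → Fin 4 → M := fun d i => if d = d₀ then R.quad a u i else R.quad (unitv (e d)) (w d) i
  have hq : ∀ d i, R.InP (e d) (q d i) := by
    intro d i
    simp only [q]
    split_ifs with h
    · subst h; exact R.quad_mem hu ha i
    · exact R.quad_mem (hw d) (unitv_spec _).1 i
  let g : (Fin 10 → Fin 4) → M := fun f => ∑ d, q d (f d)
  have hg : Function.Injective g := by
    intro f f' hff
    funext d
    have h1 := congrArg (R.pr (e d)) hff
    simp only [g] at h1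
    rw [R.pr_combo e he _ (fun j => hq j _), R.pr_combo e he _ (fun j => hq j _)] at h1
    simp only [q] at h1
    split_ifs at h1 with h
    · exact R.quad_inj hu hu0 ha hca h1
    · exact R.quad_inj (hw d) (hw0 d) (unitv_spec _).1 (unitv_spec _).2 h1
  have hb : Function.Bijective g := (Nat.bijective_iff_injective_and_card g).2 ⟨hg, by
    rw [R.card, Nat.card_eq_fintype_card, Fintype.card_fun, Fintype.card_fin, Fintype.card_fin]
    norm_num⟩
  obtain ⟨f, hf⟩ := hb.surjective v
  refine ⟨f d₀, ?_⟩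
  have h1 := congrArg (R.pr (e d₀)) hf
  simp only [g] at h1
  rw [R.pr_combo e he _ (fun j => hq j _), show e d₀ = c from rfl, R.pr_self hv] at h1
  rw [← h1]
  exact if_pos rfl

end Cfsg.Agent.Lie.USixTwenty
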