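import Cfsg.Agent.Lib.Lie.USixTwenty.Count
import Cfsg.Agent.Lib.Lie.USixTwenty.Group
import Cfsg.Prelude.Def_Transfer
import Mathlib.GroupTheory.NoncommCoprod
import Mathlib.GroupTheory.SpecificGroups.Cyclic

/-!
Every vector of the module is fixed by an elementary group of order nine of isometries of the invariant
form: the two facts about vectors and hyperplanes.
-/

set_option autoImplicit false
set_option maxRecDepth 100000

namespace Cfsg.Agent.Lie.USixTwenty

universe u v

/-! ### the invariant form -/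

/-- the exchange of the layers -/
def swapJ : List ℕ :=
  [524288, 1024, 2048, 4096, 8192, 16384, 32768, 65536, 131072, 262144,
    2, 4, 8, 16, 32, 64, 128, 256, 512, 1]

/-- the parity of twenty bits -/
def bitParity (x : ℕ) : ℕ := app (List.replicate 20 1) x

/-- the invariant form -/
def form (a b : ℕ) : ℕ := bitParity (a &&& app swapJ b)

theorem lin_form_left (b : ℕ) : Lin fun a => form a b := fun a a' => by
  show bitParity ((a ^^^ a') &&& app swapJ b) = _
  rw [Nat.and_xor_distrib_right]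
  exact app_xor _ _ _

theorem lin_form_right (a : ℕ) : Lin (form a) := fun b b' => by
  show bitParity (a &&& app swapJ (b ^^^ b')) = _
  rw [app_xor, Nat.and_xor_distrib_left]
  exact app_xor _ _ _

theorem form_gen {i : ℕ} (hi : i < 11) {a b : ℕ} (ha : a < 2 ^ 20) (hb : b < 2 ^ 20) :
    form (app (amatAt i) a) (app (amatAt i) b) = form a b := by
  have key : ∀ i < 11, ∀ p < 20, ∀ q < 20,
      form (app (amatAt i) (2 ^ p)) (app (amatAt i) (2 ^ q)) = form (2 ^ p) (2 ^ q) := by decide +kernel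
  have h1 : ∀ p < 20, form (app (amatAt i) (2 ^ p)) (app (amatAt i) b) = form (2 ^ p) b := fun p hp =>
    ((lin_form_right _).comp (lin_mat _)).ext (lin_form_right _) (fun q hq => key i hi p hp q hq) b hb
  exact ((lin_form_left _).comp (lin_mat _)).ext (lin_form_left _) h1 a ha

theorem swap_swap {u : ℕ} (hu : u < 2 ^ 20) : app swapJ (app swapJ u) = u :=
  ((lin_mat _).comp (lin_mat _)).ext lin_id (by decide +kernel) u hu

/-- every functional is given by the form -/
theorem exists_form (c : ℕ → Bool) :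
    ∃ w, w < 2 ^ 20 ∧ ∀ i, i < 20 → form (2 ^ i) w = (c i).toNat := by
  set u := Nat.ofBits (fun i : Fin 20 => c i) with hu
  have hu' : u < 2 ^ 20 := Nat.ofBits_lt_two_pow _
  refine ⟨app swapJ u, app_lt _ (by decide +kernel) u, fun i hi => ?_⟩
  have e : u.testBit i = c i := Nat.testBit_ofBits_lt _ i hi
  have e1 : ∀ i < 20, bitParity (2 ^ i) = 1 := by decide +kernel
  show bitParity (2 ^ i &&& app swapJ (app swapJ u)) = _
  rw [swap_swap hu', Nat.two_pow_and, e]
  cases c i
  · show bitParity (2 ^ i * 0) = 0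
    rw [Nat.mul_zero]
    exact app_zero _
  · show bitParity (2 ^ i * 1) = 1
    rw [Nat.mul_one]
    exact e1 i hi

/-! ### words -/

theorem wmatrix_lt : ∀ (w : List ℕ) (v : ℕ), app (wmatrix w) v < 2 ^ 20
  | [], v => app_lt _ (fun _ hr => mem_idM hr) v
  | i :: w, v => by
      show app (mmul (amatAt i) (wmatrix w)) v < _
      rw [app_mmul]
      refine app_lt _ (fun r hr => ?_) _
      by_cases hi : i < Tab.amat.length
      · rw [amatAt, List.getD_eq_getElem _ _ hi] at hr
        have hb := Chk.bas_bound.2.2.1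
        simp only [List.all_eq_true, decide_eq_true_eq] at hb
        exact hb _ (List.getElem_mem hi) r hr
      · rw [amatAt, List.getD_eq_default _ _ (le_of_not_gt hi)] at hr
        simp at hr

theorem wmatrix_length : ∀ w : List ℕ, (wmatrix w).length = 20
  | [] => rfl
  | i :: w => by
      show ((wmatrix w).map _).length = 20
      rw [List.length_map, wmatrix_length w]

theorem wmatrix_append : ∀ (a b : List ℕ) {v : ℕ}, v < 2 ^ 20 →
    app (wmatrix (a ++ b)) v = app (wmatrix a) (app (wmatrix b) v)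
  | [], b, v, _ => by
      show app (wmatrix b) v = _
      exact (app_idM (wmatrix_lt b v)).symm
  | i :: a, b, v, hv => by
      show app (mmul (amatAt i) (wmatrix (a ++ b))) v = app (mmul (amatAt i) (wmatrix a)) _
      rw [app_mmul, app_mmul, wmatrix_append a b hv]

theorem form_word : ∀ {w : List ℕ}, wOK w = true → ∀ {a b : ℕ}, a < 2 ^ 20 → b < 2 ^ 20 →
    form (app (wmatrix w) a) (app (wmatrix w) b) = form a b
  | [], _, a, b, ha, hb => by
      show form (app (idM 20) a) (app (idM 20) b) = _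
      rw [app_idM ha, app_idM hb]
  | i :: w, h, a, b, ha, hb => by
      simp only [wOK, List.all_cons, Bool.and_eq_true, decide_eq_true_eq] at h
      show form (app (mmul (amatAt i) (wmatrix w)) a) (app (mmul (amatAt i) (wmatrix w)) b) = _
      rw [app_mmul, app_mmul, form_gen h.1 (wmatrix_lt w a) (wmatrix_lt w b),
        form_word (w := w) (by simpa [wOK] using h.2) ha hb]

theorem r_word {j : ℕ} (hj : j < 9) :
    ∃ w, wOK w = true ∧ ∀ v, v < 2 ^ 20 → app (wmatrix w) v = app (rM (2 ^ j)) v := by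
  have h := Chk.r_words
  simp only [List.all_eq_true, List.mem_range, Bool.and_eq_true, beq_iff_eq] at h
  refine ⟨_, (h j hj).1, fun v hv => ?_⟩
  rw [(h j hj).2]
  have e : ∀ i < 9, ∀ k < 20, app (Tab.rmat.getD i []) (2 ^ k) = app (rM (2 ^ i)) (2 ^ k) := by decide +kernel
  exact (lin_mat _).ext (lin_mat _) (e j hj) v hv

/-- some word moves a vector out of the hyperplane of the top bit -/
theorem exists_top {v : ℕ} (hv : v < 2 ^ 20) (h0 : v ≠ 0) :
    ∃ w, wOK w = true ∧ topc (app (wmatrix w) v) = 1 := by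
  by_contra hno
  push Not at hno
  let P : ℕ → Prop := fun x => x < 2 ^ 20 ∧ ∀ w, wOK w = true → topc (app (wmatrix w) x) = 0
  have hP : P v := ⟨hv, fun w hw => by
    have := topc_le (wmatrix_lt w v)
    have := hno w hw
    omega⟩
  have hadd : ∀ {a b}, P a → P b → P (a ^^^ b) := fun {a b} ha hb =>
    ⟨Nat.xor_lt_two_pow ha.1 hb.1, fun w hw => by rw [app_xor, lin_top, ha.2 w hw, hb.2 w hw, Nat.xor_self]⟩
  have hact : ∀ {a} (w), wOK w = true → P a → P (app (wmatrix w) a) := fun {a} w hw ha =>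
    ⟨wmatrix_lt w a, fun w' hw' => by
      rw [← wmatrix_append w' w ha.1]
      exact ha.2 _ (by simp only [wOK, List.all_append, Bool.and_eq_true] at hw hw' ⊢; exact ⟨hw', hw⟩)⟩
  have hlt : ∀ {a}, P a → a < 2 ^ 19 := fun {a} ha => by
    have h := ha.2 [] rfl
    rw [show wmatrix [] = idM 20 from rfl, app_idM ha.1] at h
    have := ha.1
    unfold topc at h
    omega
  have not_one : ¬ P 1 := fun h => by
    have e : topc (app (wmatrix [6, 0]) 1) = 1 := by decide +kernel
    rw [h.2 [6, 0] rfl] at e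
    exact zero_ne_one e
  have low : ∀ {a}, P a → a < 2 ^ 10 → a ≠ 0 → False := fun {a} ha ha' ha0 => by
    by_cases hm : mid a = 0
    · refine not_one ?_
      obtain rfl : a = 1 := by
        unfold mid at hm
        rw [Nat.mod_eq_of_lt (by omega)] at hm
        omega
      exact ha
    · have hd : ∀ y < 512, y ≠ 0 → ∃ j < 9, dot (2 ^ j) y = 1 := by decide +kernel
      obtain ⟨j, hj, hdj⟩ := hd _ (mid_lt a) hm
      obtain ⟨w, hw, hwM⟩ := r_word hj
      refine not_one ?_
      have h := hadd (hact w hw ha) ha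
      rwa [hwM a ha.1, (rspec (Nat.pow_lt_pow_right (by norm_num) hj)).low a ha', hdj, Nat.xor_comm a,
        Nat.xor_assoc, Nat.xor_self, Nat.xor_zero] at h
  by_cases hh : hi v = 0
  · exact low hP (lt_of_hi (n := 0) (by rw [hh]; norm_num)) h0
  have hv' := hlt hP
  obtain ⟨j, hj, hcr⟩ : ∃ j, j < 9 ∧ cr (2 ^ j) (hi v) ≠ 0 := by
    by_contra hn
    push Not at hn
    have hall : annSet (hi v) = Finset.range (2 ^ 9) := Finset.filter_true_of_mem fun h hh' =>
      (lin_cr_left (hi v)).ext (g := fun _ => 0) (fun _ _ => (Nat.xor_self 0).symm) hn h (Finset.mem_range.mp hh')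
    have := (ann_bound (hi_lt hv') hh).1
    rw [hall, Finset.card_range] at this
    norm_num at this
  obtain ⟨w, hw, hwM⟩ := r_word hj
  have hr := rspec (Nat.pow_lt_pow_right (a := 2) (by norm_num) hj)
  have h := hadd (hact w hw hP) hP
  rw [hwM v hP.1] at h
  refine low h (lt_of_hi (n := 0) ?_) fun e => hcr ?_
  · rw [lin_hi, hr.top v hP.1, topc_zero hv', Nat.mul_zero, Nat.xor_zero, Nat.xor_self]
    norm_num
  · have e' := congrArg mid (Nat.xor_eq_zero_iff.mp e)
    rw [hr.middle v hv'] at e'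
    exact Nat.xor_right_inj.mp (e'.trans (Nat.xor_zero _).symm)

/-- some word moves a vector to one with top layer `512` -/
theorem exists_normal {v : ℕ} (hv : v < 2 ^ 20) (h0 : v ≠ 0) :
    ∃ w, wOK w = true ∧ hi (app (wmatrix w) v) = 512 := by
  obtain ⟨w₀, hw₀, ht⟩ := exists_top hv h0
  set x := app (wmatrix w₀) v with hx
  have hx20 : x < 2 ^ 20 := wmatrix_lt _ _
  let P : ℕ → Prop := fun h => ∀ x, x < 2 ^ 20 → topc x = 1 →
    ∃ w, wOK w = true ∧ hi (app (wmatrix w) x) = hi x ^^^ h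
  have hP : ∀ h, h < 2 ^ 9 → P h := by
    refine bit_ind (fun x hx _ => ⟨[], rfl, ?_⟩) ?_ ?_
    · rw [show wmatrix [] = idM 20 from rfl, app_idM hx, Nat.xor_zero]
    · intro a b ha hb hPa hPb x hx hx1
      obtain ⟨w, hw, e⟩ := hPa x hx hx1
      have h2 : topc (app (wmatrix w) x) = 1 := by
        have h1 : ∀ y, topc y = hi y / 2 ^ 9 := fun y => by simp [topc, hi, Nat.div_div_eq_div_mul]
        rw [h1, e, show (hi x ^^^ a) / 2 ^ 9 = hi x / 2 ^ 9 ^^^ a / 2 ^ 9 from lin_div 9 _ _,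
          Nat.div_eq_of_lt ha, Nat.xor_zero, ← h1, hx1]
      obtain ⟨w', hw', e'⟩ := hPb _ (wmatrix_lt w x) h2
      refine ⟨w' ++ w, ?_, ?_⟩
      · simp only [wOK, List.all_append, Bool.and_eq_true] at hw hw' ⊢
        exact ⟨hw', hw⟩
      · rw [wmatrix_append w' w hx, e', e, Nat.xor_assoc]
    · intro j hj x hx hx1
      obtain ⟨w, hw, hwM⟩ := r_word hj
      refine ⟨w, hw, ?_⟩
      rw [hwM x hx, (rspec (Nat.pow_lt_pow_right (by norm_num) hj)).top x hx, hx1, Nat.mul_one]
  have hlt : hi x ^^^ 512 < 2 ^ 9 := by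
    have h1 : (hi x ^^^ 512) / 2 ^ 9 = 0 := by
      rw [show (hi x ^^^ 512) / 2 ^ 9 = hi x / 2 ^ 9 ^^^ 512 / 2 ^ 9 from lin_div 9 _ _,
        show hi x / 2 ^ 9 = topc x by simp [topc, hi, Nat.div_div_eq_div_mul], ht]
      rfl
    omega
  obtain ⟨w, hw, e⟩ := hP _ hlt x hx20 ht
  refine ⟨w ++ w₀, ?_, ?_⟩
  · simp only [wOK, List.all_append, Bool.and_eq_true] at hw hw₀ ⊢
    exact ⟨hw, hw₀⟩
  · rw [wmatrix_append w w₀ hv, ← hx, e, xor_self_left]

/-! ### the pairs of commuting elements of order three -/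

variable {X : Type u} [Group X] [Finite X] {F : Type v} [Field F] {D : Data X F}

namespace Coord

variable (co : Coord D)

/-- the elements acting by isometries of the form -/
def iso : Subgroup X :=
  finSub {g | ∃ M, co.Acts g M ∧ ∀ a b, a < 2 ^ 20 → b < 2 ^ 20 → form (app M a) (app M b) = form a b}
    ⟨_, Acts.one, fun a b ha hb => by rw [app_idM ha, app_idM hb]⟩
    (by
      rintro g ⟨M, hM, hMf⟩ h ⟨N, hN, hNf⟩
      refine ⟨_, hM.mul hN, fun a b ha hb => ?_⟩
      rw [app_mmul, app_mmul, hMf _ _ (hN.lt a) (hN.lt b), hNf a b ha hb])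

variable {co}

theorem el_iso {w : List ℕ} (h : wOK w = true) : co.el w ∈ co.iso :=
  ⟨_, acts_el h, fun _ _ ha hb => form_word h ha hb⟩

theorem iso_le : co.iso ≤ D.K₀ := by
  rintro g ⟨M, hM, -⟩
  exact hM.mem

variable (co)

/-- two independent commuting isometries of order three fixing a vector -/
def Pair (v : ℕ) : Prop :=
  ∃ a b : X, a ∈ co.iso ∧ b ∈ co.iso ∧ orderOf a = 3 ∧ orderOf b = 3 ∧ a * b = b * a ∧
    b ∉ Subgroup.zpowers a ∧ Commute a (co.ψ v) ∧ Commute b (co.ψ v)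

variable {co}

theorem Pair.conj {v v' : ℕ} (h : co.Pair v) {g : X} (hg : g ∈ co.iso)
    (e : g * co.ψ v * g⁻¹ = co.ψ v') : co.Pair v' := by
  obtain ⟨a, b, ha, hb, oa, ob, hab, hnot, ca, cb⟩ := h
  let f : X →* X := (MulAut.conj g).toMonoidHom
  have hf : Function.Injective f := (MulAut.conj g).injective
  have hfv : f (co.ψ v) = co.ψ v' := e
  have hiso : ∀ x ∈ co.iso, f x ∈ co.iso := fun x hx => mul_mem (mul_mem hg hx) (inv_mem hg)
  refine ⟨f a, f b, hiso a ha, hiso b hb, by rw [orderOf_injective f hf, oa],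
    by rw [orderOf_injective f hf, ob], by rw [← map_mul, hab, map_mul], fun hm => hnot ?_,
    hfv ▸ ca.map f, hfv ▸ cb.map f⟩
  obtain ⟨n, hn⟩ := Subgroup.mem_zpowers_iff.mp hm
  exact Subgroup.mem_zpowers_iff.mpr ⟨n, hf (by rw [map_zpow, hn])⟩

theorem pair_move {v : ℕ} (hv : v < 2 ^ 20) {w : List ℕ} (hw : wOK w = true) :
    co.Pair v ↔ co.Pair (app (wmatrix w) v) := by
  have h := (acts_el (co := co) hw).conj v hv
  exact ⟨fun hp => hp.conj (el_iso hw) h, fun hp => hp.conj (inv_mem (el_iso hw)) (by rw [← h]; group)⟩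

theorem order_three {w : List ℕ} (hw : wOK w = true) (h : isThree (wmatrix w) = true) :
    orderOf (co.el w) = 3 := by
  simp only [isThree, Bool.and_eq_true, bne_iff_ne, beq_iff_eq] at h
  obtain ⟨h1, h2⟩ := h
  refine orderOf_eq_prime ?_ fun e => h1 ?_
  · have h3 : co.el w * (co.el w * co.el w) = 1 :=
      ((acts_el hw).mul ((acts_el hw).mul (acts_el hw))).eq_of (h2 ▸ Acts.one)
    rw [pow_succ, pow_succ, pow_one, mul_assoc]
    exact h3
  · refine List.ext_getElem (by rw [wmatrix_length]; rfl) fun i h₁ h₂ => ?_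
    rw [← app_bit _ i h₁, ← app_bit _ i h₂]
    exact (acts_el (co := co) hw).app_eq (e ▸ Acts.one)
      (Nat.pow_lt_pow_right (by norm_num) (wmatrix_length w ▸ h₁))

theorem pair_base {y d : ℕ} (hy : y ∈ [0, 1, 3, 7]) (hd : d ∈ [0, 1]) :
    co.Pair (2 ^ 19 ^^^ 2 * y ^^^ d) := by
  classical
  have h := Chk.vec_wit
  simp only [List.all_eq_true, List.any_eq_true, Bool.and_eq_true, beq_iff_eq, bne_iff_ne] at h
  obtain ⟨⟨p, wA, wB⟩, -, ⟨⟨hp, hA⟩, hB⟩, ⟨⟨⟨⟨⟨eA, eB⟩, tA⟩, tB⟩, hAB⟩, n1⟩, n2⟩ := h y hy d hd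
  change p = 2 ^ 19 ^^^ 2 * y ^^^ d at hp
  dsimp only at hA hB eA eB tA tB hAB n1 n2
  rw [← hp]
  have hp20 : p < 2 ^ 20 := by rw [← eA]; exact wmatrix_lt _ _
  have fix : ∀ {w}, wOK w = true → app (wmatrix w) p = p → Commute (co.el w) (co.ψ p) := fun {w} hw e => by
    have := (acts_el (co := co) hw).conj p hp20
    rw [e] at this
    exact mul_inv_eq_iff_eq_mul.mp this
  refine ⟨co.el wA, co.el wB, el_iso hA, el_iso hB, order_three hA tA, order_three hB tB,
    ((acts_el hA).mul (acts_el hB)).eq_of (hAB ▸ (acts_el hB).mul (acts_el hA)), fun hm => ?_, fix hA eA,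
    fix hB eB⟩
  have oA : orderOf (co.el wA) = 3 := order_three hA tA
  have ext : ∀ {N : List ℕ}, N.length = 20 → co.Acts (co.el wB) N → wmatrix wB = N := fun {N} hN hBN => by
    refine List.ext_getElem (by rw [wmatrix_length, hN]) fun i h₁ h₂ => ?_
    rw [← app_bit _ i h₁, ← app_bit _ i h₂]
    exact (acts_el (co := co) hB).app_eq hBN (Nat.pow_lt_pow_right (by norm_num) (hN ▸ h₂))
  obtain ⟨n, hn, e⟩ := Finset.mem_image.mp (mem_zpowers_iff_mem_range_orderOf.mp hm)
  rw [Finset.mem_range, oA] at hn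
  change co.el wA ^ n = co.el wB at e
  interval_cases n
  · rw [pow_zero] at e
    have := order_three (co := co) hB tB
    rw [← e, orderOf_one] at this
    omega
  · rw [pow_one] at e
    exact n1 (ext (wmatrix_length _) (e ▸ acts_el hA))
  · rw [pow_two] at e
    refine n2 (ext ?_ (e ▸ (acts_el hA).mul (acts_el hA)))
    show ((wmatrix wA).map _).length = 20
    rw [List.length_map, wmatrix_length]

theorem l_act {i : ℕ} (hi : i < 8) {y d : ℕ} (hy : y < 512) (hd : d ∈ [0, 1]) :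
    lY i y < 512 ∧ app (lM i) (2 ^ 19 ^^^ 2 * y ^^^ d) = 2 ^ 19 ^^^ 2 * lY i y ^^^ d := by
  have h := Chk.l_words
  simp only [List.all_eq_true, List.mem_range, Bool.and_eq_true, beq_iff_eq, decide_eq_true_eq] at h
  obtain ⟨⟨⟨-, h1⟩, h19⟩, hk⟩ := h i hi
  have hd' : app (lM i) d = d := by
    simp only [List.mem_cons, List.not_mem_nil, or_false] at hd
    rcases hd with rfl | rfl
    · exact app_zero _
    · exact h1
  have hy' : app (lM i) (2 * y) = 2 * lY i y := by
    refine ((lin_mat _).comp (lin_mul 1)).ext ((lin_mul 1).comp (lin_mat _)) (n := 9) (fun k hk' => ?_) y hy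
    show app (lM i) (2 ^ 1 * 2 ^ k) = 2 ^ 1 * lY i (2 ^ k)
    rw [← pow_add, (hk k hk').1.1.1]
    norm_num
  have hlt : lY i y < 2 ^ 9 := by
    refine bit_ind (P := fun y => lY i y < 2 ^ 9) ?_ (fun a b _ _ ha hb => ?_)
      (fun k hk' => (hk k hk').1.1.2) y hy
    · show app _ 0 < _
      rw [app_zero]
      norm_num
    · show app _ (a ^^^ b) < _
      rw [app_xor]
      exact Nat.xor_lt_two_pow ha hb
  refine ⟨hlt, ?_⟩
  rw [app_xor, app_xor, h19, hy', hd']

theorem pair_path {d : ℕ} (hd : d ∈ [0, 1]) {y₀ : ℕ} (hy₀ : y₀ < 512)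
    (h₀ : co.Pair (2 ^ 19 ^^^ 2 * y₀ ^^^ d)) : ∀ {p : List ℕ}, (∀ i ∈ p, i < 8) →
      p.foldr lY y₀ < 512 ∧ co.Pair (2 ^ 19 ^^^ 2 * p.foldr lY y₀ ^^^ d)
  | [], _ => ⟨hy₀, h₀⟩
  | i :: p, hp => by
      obtain ⟨hlt, hpair⟩ := pair_path hd hy₀ h₀ (p := p) fun j hj => hp j (List.mem_cons_of_mem _ hj)
      have hi : i < 8 := hp i List.mem_cons_self
      obtain ⟨h1, h2⟩ := l_act hi hlt hd
      refine ⟨h1, ?_⟩
      have h := Chk.l_words
      simp only [List.all_eq_true, List.mem_range, Bool.and_eq_true, beq_iff_eq, decide_eq_true_eq] at h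
      obtain ⟨⟨⟨⟨hw, hwM⟩, -⟩, -⟩, -⟩ := h i hi
      have hd2 : d < 2 := by
        simp only [List.mem_cons, List.not_mem_nil, or_false] at hd
        omega
      have hv : 2 ^ 19 ^^^ 2 * p.foldr lY y₀ ^^^ d < 2 ^ 20 :=
        Nat.xor_lt_two_pow (Nat.xor_lt_two_pow (by norm_num) (by omega)) (by omega)
      have := (pair_move (co := co) hv hw).mp hpair
      rwa [hwM, h2] at this

theorem pair_of_ne_zero {v : ℕ} (hv : v < 2 ^ 20) (h0 : v ≠ 0) : co.Pair v := by
  obtain ⟨w, hw, e⟩ := exists_normal hv h0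
  refine (pair_move hv hw).mpr ?_
  set x := app (wmatrix w) v with hx
  have hlt : 2 ^ 19 ^^^ x < 2 ^ 10 := lt_of_hi (n := 0) (by
    rw [lin_hi, e, show hi (2 ^ 19) = 512 by norm_num [hi], Nat.xor_self]
    norm_num)
  set r := 2 ^ 19 ^^^ x with hr
  have hsplit : ∀ r < 2 ^ 10, 2 * (r / 2) ^^^ r % 2 = r := fun r hr =>
    (((lin_mul 1).comp (lin_div 1)).xor (lin_mod 1)).ext lin_id (by decide +kernel) r hr
  have hd : r % 2 ∈ [0, 1] := by
    simp only [List.mem_cons, List.not_mem_nil, or_false]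
    omega
  have h := Chk.y_paths
  simp only [List.all_eq_true, List.mem_range, Bool.and_eq_true, beq_iff_eq, decide_eq_true_eq,
    List.contains_iff_mem] at h
  obtain ⟨⟨hb, hp⟩, hf⟩ := h (r / 2) (by omega)
  have hlt' : (Tab.ypaths.getD (r / 2) (0, [])).1 < 512 := by
    simp only [List.mem_cons, List.not_mem_nil, or_false] at hb
    omega
  have := (pair_path (co := co) hd hlt' (pair_base hb hd) hp).2
  rwa [hf, Nat.xor_assoc, hsplit r hlt, hr, xor_self_left] at this

/-- every vector is fixed by an element of order three -/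
theorem vecFact (co : Coord D) : D.VecFact := by
  intro x hx hx1
  obtain ⟨v, hv, rfl⟩ := co.ψ_surj hx
  have h0 : v ≠ 0 := fun h => hx1 (by rw [h, ψ_zero])
  obtain ⟨a, -, ha, -, oa, -, -, -, ca, -⟩ := pair_of_ne_zero (co := co) hv h0
  exact ⟨a, le_sup_right (a := D.A) (D.le (iso_le ha)), oa, ca.eq⟩

/-- every hyperplane is normalised by an elementary group of order nine -/
theorem hypFact (co : Coord D) : D.HypFact := by
  classical
  intro B hB hcard
  have hidx : (B.subgroupOf D.A).index = 2 := by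
    have h1 := (B.subgroupOf D.A).card_mul_index
    rw [Nat.card_congr (Subgroup.subgroupOfEquivOfLe hB).toEquiv, hcard, mul_comm 2] at h1
    exact Nat.eq_of_mul_eq_mul_left Nat.card_pos h1
  have hmul : ∀ x ∈ D.A, ∀ y ∈ D.A, (x * y ∈ B ↔ (x ∈ B ↔ y ∈ B)) := fun x hx y hy =>
    Subgroup.mul_mem_iff_of_index_two (H := B.subgroupOf D.A) hidx (a := ⟨x, hx⟩) (b := ⟨y, hy⟩)
  let χ : ℕ → ℕ := fun a => if co.ψ a ∈ B then 0 else 1
  have hχ : LinBelow 20 χ := by
    intro a b _ _
    have h := hmul _ (co.ψ_mem a) _ (co.ψ_mem b)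
    show (if _ then _ else _) = _
    rw [co.ψ_add]
    by_cases h1 : co.ψ a ∈ B <;> by_cases h2 : co.ψ b ∈ B <;> simp [χ, h, h1, h2]
  obtain ⟨w, hw, hwf⟩ := exists_form fun i => decide (co.ψ (2 ^ i) ∉ B)
  have hform : ∀ a, a < 2 ^ 20 → χ a = form a w :=
    lin_ext hχ ((lin_form_left w).below 20) (by
      show (if _ then _ else _) = _
      rw [ψ_zero, if_pos B.one_mem, (lin_form_left w).zero]) fun i hi => by
      rw [hwf i hi]
      by_cases h : co.ψ (2 ^ i) ∈ B <;> simp [χ, h]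
  have hw0 : w ≠ 0 := by
    rintro rfl
    have hlt : ¬ D.A ≤ B := fun h => by
      have h1 := Subgroup.card_le_of_le h
      have h2 : 0 < Nat.card B := Nat.card_pos
      omega
    obtain ⟨x, hx, hxB⟩ := SetLike.not_le_iff_exists.mp hlt
    obtain ⟨a, ha, rfl⟩ := co.ψ_surj hx
    have h2 := hform a ha
    simp only [χ, if_neg hxB, (lin_form_right a).zero] at h2
    exact one_ne_zero h2
  obtain ⟨a, b, ha, hb, oa, ob, hab, hnot, ca, cb⟩ := pair_of_ne_zero (co := co) hw hw0
  have hcomm : ∀ (x : Subgroup.zpowers a) (y : Subgroup.zpowers b),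
      Commute ((Subgroup.zpowers a).subtype x) ((Subgroup.zpowers b).subtype y) := by
    rintro ⟨x, m, rfl⟩ ⟨y, n, rfl⟩
    exact (show Commute a b from hab).zpow_zpow m n
  set φ := MonoidHom.noncommCoprod _ _ hcomm with hφ
  refine ⟨φ.range, ?_, ⟨⟨⟨?_⟩⟩, ?_⟩, ?_, ?_⟩
  · rintro _ ⟨⟨⟨x, m, rfl⟩, ⟨y, n, rfl⟩⟩, rfl⟩
    exact le_sup_right (a := D.A) (D.le (mul_mem (zpow_mem (iso_le ha) m) (zpow_mem (iso_le hb) n)))
  · rintro ⟨_, p, rfl⟩ ⟨_, q, rfl⟩
    refine Subtype.ext ?_
    show φ p * φ q = φ q * φ p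
    rw [← map_mul, ← map_mul, show p * q = q * p from ?_]
    exact Prod.ext (mul_comm' p.1 q.1) (mul_comm' p.2 q.2)
  · rintro _ ⟨p, rfl⟩
    have hp : ∀ {c : X}, orderOf c = 3 → ∀ x : Subgroup.zpowers c, x ^ 3 = 1 := fun {c} hc x => by
      have := pow_card_eq_one' (x := x)
      rwa [Nat.card_zpowers, hc] at this
    rw [← map_pow, show p ^ 3 = 1 from Prod.ext (hp oa p.1) (hp ob p.2), map_one]
  · have hinj : Function.Injective φ := by
      rw [hφ, MonoidHom.noncommCoprod_injective]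
      refine ⟨Subgroup.subtype_injective _, Subgroup.subtype_injective _, ?_⟩
      rw [Subgroup.range_subtype, Subgroup.range_subtype, disjoint_iff, eq_bot_iff]
      rintro x ⟨hxa, hxb⟩
      by_contra hx1
      refine hnot ?_
      have hxb' : Subgroup.zpowers x = Subgroup.zpowers b := Subgroup.eq_of_le_of_card_ge
        (Subgroup.zpowers_le.mpr hxb) (by
          rw [Nat.card_zpowers, Nat.card_zpowers, ob]
          rcases (Nat.dvd_prime Nat.prime_three).mp (ob ▸ orderOf_dvd_of_mem_zpowers hxb) with h | h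
          · exact absurd (orderOf_eq_one_iff.mp h) hx1
          · omega)
      exact Subgroup.zpowers_le.mpr hxa (hxb' ▸ Subgroup.mem_zpowers b)
    rw [← Nat.card_congr (MonoidHom.ofInjective hinj).toEquiv, Nat.card_prod, Nat.card_zpowers,
      Nat.card_zpowers, oa, ob]
  · intro e he x hxB
    have hS : φ.range ≤ co.iso ⊓ Subgroup.centralizer {co.ψ w} := by
      rintro _ ⟨⟨⟨x, m, rfl⟩, ⟨y, n, rfl⟩⟩, rfl⟩
      have hin : ∀ {c : X}, c ∈ co.iso → Commute c (co.ψ w) →
          c ∈ co.iso ⊓ Subgroup.centralizer {co.ψ w} := fun h1 h2 =>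
        ⟨h1, Subgroup.mem_centralizer_singleton_iff.mpr h2.eq⟩
      exact mul_mem (zpow_mem (hin ha ca) m) (zpow_mem (hin hb cb) n)
    obtain ⟨⟨M, hM, hMf⟩, hec⟩ := hS he
    obtain ⟨c, hc, rfl⟩ := co.ψ_surj (hB hxB)
    have hMw : app M w = w := co.ψ_inj (hM.lt w) hw (by
      rw [← hM.conj w hw, mul_inv_eq_iff_eq_mul]
      exact Subgroup.mem_centralizer_singleton_iff.mp hec)
    rw [hM.conj c hc]
    have h1 := hform _ (hM.lt c)
    have h2 := hform c hc
    rw [← hMw, hMf c w hc hw, ← h2] at h1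
    simp only [χ, if_pos hxB] at h1
    by_contra hn
    rw [if_neg hn] at h1
    exact one_ne_zero h1

end Coord

end Cfsg.Agent.Lie.USixTwenty
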