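import Cfsg.Prelude.Def_Classical
import Cfsg.Prelude.Def_Local
import Mathlib.GroupTheory.OrderOfElement

/-!
Interface for the normalizer `A : K` of an elementary group of order `2 ^ 20`, `K` being `U₆(2)` or
`U₆(2).2`: the data, and the facts about the module that the uniqueness argument uses.
-/

set_option autoImplicit false

namespace Cfsg.Agent.Lie.USixTwenty

universe u v

/-- the module data -/
structure Data (X : Type u) [Group X] (F : Type v) [Field F] where
  A : Subgroup X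
  K : Subgroup X
  K₀ : Subgroup X
  card : Nat.card A = 2 ^ 20
  sq : ∀ a ∈ A, a * a = 1
  norm : K ≤ Subgroup.normalizer (A : Set X)
  le : K₀ ≤ K
  normal : ∀ k ∈ K, ∀ x ∈ K₀, k * x * k⁻¹ ∈ K₀
  index : (K₀.subgroupOf K).index ≤ 2
  iso : Nonempty (K₀ ≃* Cfsg.PSU 6 F 2)
  faithful : ∀ k ∈ K, (∀ a ∈ A, k * a = a * k) → k = 1
  inf : A ⊓ K = ⊥
  irr : ∀ B : Subgroup X, B ≤ A → (∀ k ∈ K, ∀ b ∈ B, k * b * k⁻¹ ∈ B) → B = ⊥ ∨ B = A

variable {X : Type u} [Group X] {F : Type v} [Field F]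

/-- the normalizer -/
def Data.H (D : Data X F) : Subgroup X := D.A ⊔ D.K

/-- every vector is fixed by an element of order three -/
def Data.VecFact (D : Data X F) : Prop :=
  ∀ a ∈ D.A, a ≠ 1 → ∃ x ∈ D.H, orderOf x = 3 ∧ x * a = a * x

/-- every hyperplane is normalised by an elementary group of order nine -/
def Data.HypFact (D : Data X F) : Prop :=
  ∀ B : Subgroup X, B ≤ D.A → Nat.card D.A = 2 * Nat.card B →
    ∃ E : Subgroup X, E ≤ D.H ∧ Cfsg.IsElementaryAbelian 3 E ∧ Nat.card E = 9 ∧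
      ∀ e ∈ E, ∀ b ∈ B, e * b * e⁻¹ ∈ B

/-- `A` is the only elementary subgroup of its order in the normalizer -/
def Data.WeakFact (D : Data X F) : Prop :=
  ∀ J : Subgroup X, J ≤ D.H → (∀ x ∈ J, x * x = 1) → Nat.card J = 2 ^ 20 → J = D.A

/-- a non-trivial pointwise stabiliser has two orbits on the cosets outside the fixed subgroup -/
def Data.OrbitFact (D : Data X F) : Prop :=
  ∀ B : Subgroup X, B ≤ D.A → (∃ k ∈ D.K, k ≠ 1 ∧ ∀ b ∈ B, k * b = b * k) →
    ∃ a ∈ D.A, ∃ b ∈ D.A, a ∉ B ∧ b ∉ B ∧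
      ∀ k ∈ D.H, (∀ c ∈ B, k * c = c * k) → b⁻¹ * (k * a * k⁻¹) ∉ B

/-- an elementary subgroup all of whose outer involutions commute with no element of order three has
its trace on `A` of large index -/
def Data.BadFact (D : Data X F) : Prop :=
  ∀ R : Subgroup X, R ≤ D.H → (∀ x ∈ R, x * x = 1) → ¬ R ≤ D.A →
    (∀ x ∈ R, x ∉ D.A → ∀ y ∈ D.H, orderOf y = 3 → y * x ≠ x * y) →
    Nat.card R ^ 2 < Nat.card D.A * Nat.card (R ⊓ D.A : Subgroup X)

end Cfsg.Agent.Lie.USixTwenty
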